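import Mathlib
import Cfsg.Prelude.Def_Classical
import Cfsg.Prelude.Def_GeometricClasses
import Cfsg.Agent.Lib.Helper37.HypStmt
import Cfsg.Agent.Lib.Helper44.TSStmt

/-!
# S5973 (call by helper44): statement pieces

`POmega+_(2d)(q)`, ALL `q` (even `q` included for odd `r`), elements of prime order `r` and totally
singular `m`-spaces, `m < d`.  Everything is about `Cfsg.quadFormPlus d F` on `J d → F`,
`J d = Fin d ⊕ Fin d`, dimension `2 d`.  Notation in the sketches: `q = card F`,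
`Q = quadFormPlus d F`, `B = polar Q`, `i = orderOf (q : ZMod r)`, `t = (r-1)/i`, `n = 2 d`,
`cc i = i` for `i` even and `2 i` for `i` odd (`Helper37.HypStmt.cc`).
Most pieces are the S5972 / S5992 pieces (`Helper44.TSStmt`, `Helper37.HypStmt`, `HypStmt2`) with
`I d`, `quadFormOdd`, `2 d + 1` replaced by `J d`, `quadFormPlus`, `2 d` and WITHOUT `Odd q`:
adapt the landed proof of the piece with the same name (`TS<NAME>` / `Hyp<NAME>` modules).
Characteristic two: "totally singular" means `Q = 0` on the subspace (stronger than `B = 0`);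
`NDeg` is nondegeneracy of the polar form `B`, which is alternating there.
Char-free tools of helper44: `QSpace` (`Sep`, `exists_hyp_pair`, `exists_singular`), `QClass`
(`IsHyp`, `IsEll`, `exists_hyp_even`), `QBasis.exists_hyp_basis`, `OTyp1` (`card_P`, `card_M`,
`NP_ne_NM`, `hyp_of_ts'`, `exists_iso`), `OTyp2` (`ts_ker`, `obs_odd`, `dvd_sing`, `obs_even`),
`OTyp3` (`obs_matrix`, `sing_plus`), `OCls2`-`OCls4` (`Real`, `real_irr`, `real_mul`, `setup`),
`OEmb.exists_embedding`, `OExt.exists_ext`, `NegPairs` (`plusQ`, `coe_plusQ`, `sep_plusQ`),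
`Levi` (`levi`, `leviGL`), `OMat` (`isoEquiv`, `mem_omega_iff`), `Der3` (`mem_omegaGL_iff`,
`exists_omegaGL`, `mem_comm_of_odd_pow`), `Helper14.OrthIndex.sq_mem_omega` (odd `q`).
-/

set_option autoImplicit false

universe u

open scoped Matrix

namespace Cfsg.Agent.Lib.Helper44.TPStmt

open Cfsg.Agent.Lib.Helper37.HypStmt (cc IPos)
open Cfsg.Agent.Lib.Helper44.TSStmt (Fac NumTypes)

/-- index type of the standard plus-type form -/
abbrev J (d : ℕ) : Type := Fin d ⊕ Fin d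

/-- fixed space of a matrix -/
def Fx {F : Type u} [Field F] {d : ℕ} (x : Matrix (J d) (J d) F) : Submodule F (J d → F) :=
  LinearMap.ker (Matrix.toLin' x - LinearMap.id)

/-- the `-1`-eigenspace of a matrix -/
def Fm {F : Type u} [Field F] {d : ℕ} (x : Matrix (J d) (J d) F) : Submodule F (J d → F) :=
  LinearMap.ker (Matrix.toLin' x + LinearMap.id)

/-- the polar form of the standard plus form is nondegenerate on `W` -/
def NDeg (d : ℕ) (F : Type u) [Field F] (W : Submodule F (J d → F)) : Prop :=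
  Cfsg.Geo.IsNondegenerateOn (QuadraticMap.polar (Cfsg.quadFormPlus d F)) W

/-- `x W ≤ W` -/
def Stab {F : Type u} [Field F] {d : ℕ} (x : Matrix (J d) (J d) F)
    (W : Submodule F (J d → F)) : Prop :=
  W.map (Matrix.toLin' x) ≤ W

/-- `Q` vanishes on `W` -/
def TSub (d : ℕ) (F : Type u) [Field F] (W : Submodule F (J d → F)) : Prop :=
  ∀ w ∈ W, Cfsg.quadFormPlus d F w = 0

/-- `W` contains a totally singular subspace of half its dimension -/
def Plus (d : ℕ) (F : Type u) [Field F] (W : Submodule F (J d → F)) : Prop :=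
  ∃ U : Submodule F (J d → F), U ≤ W ∧ TSub d F U ∧
    2 * Module.finrank F ↥U = Module.finrank F ↥W

/-- `x` fixes a totally singular `m`-space -/
def FixTS (d m : ℕ) (F : Type u) [Field F] (x : Matrix (J d) (J d) F) : Prop :=
  ∃ W : Submodule F (J d → F), Module.finrank F ↥W = m ∧ TSub d F W ∧ Stab x W

/-- `P(x)` kills `B` -/
def Kills {F : Type u} [Field F] {d : ℕ} (x : Matrix (J d) (J d) F) (P : Polynomial F)
    (B : Submodule F (J d → F)) : Prop :=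
  ∀ v ∈ B, (Polynomial.aeval (Matrix.toLin' x) P) v = 0

/-- totally singular frames of length `j` -/
def TFr (d : ℕ) (F : Type u) [Field F] (j : ℕ) : Type u :=
  {v : Fin j → J d → F // LinearIndependent F v ∧ (∀ a, Cfsg.quadFormPlus d F (v a) = 0) ∧
    (∀ a b, QuadraticMap.polar (Cfsg.quadFormPlus d F) (v a) (v b) = 0)}

/-- the number of totally singular `m`-spaces (as in the statement of S5973) -/
noncomputable def NTS (d : ℕ) (F : Type u) [Field F] (m : ℕ) : ℕ :=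
  Nat.card {W : Submodule F (J d → F) //
    Module.finrank F ↥W = m ∧ (∀ w ∈ W, Cfsg.quadFormPlus d F w = 0)}

/-! ## Base pieces (adapt the S5972 / S5992 piece of the same name) -/

/-- TOP: the standard plus form is nondegenerate (`NegPairs.sep_plusQ`) and of plus type
(`U = {v | v ∘ inr = 0}`, finrank `d`). -/
def Top : Prop :=
  ∀ (F : Type u) [Field F] [Fintype F] (d : ℕ), NDeg d F ⊤ ∧ Plus d F ⊤

/-- TSEX: totally singular `m`-spaces exist for `m ≤ d` (span of `Pi.single (inl a) 1`,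
`a < m`). -/
def TsEx : Prop :=
  ∀ (F : Type u) [Field F] [Fintype F] (d m : ℕ), m ≤ d →
    ∃ W : Submodule F (J d → F), Module.finrank F ↥W = m ∧ TSub d F W

/-- FIXND (adapt Helper78.HypFIXND; main : Top → FixND): `V = Fx ⊕ range (x - 1)`, orthogonal. -/

def FixND : Prop :=
  ∀ (F : Type u) [Field F] [Fintype F] (p : ℕ) [Fact p.Prime] [CharP F p],
    ∀ (d : ℕ) (r : ℕ) [Fact r.Prime], r ≠ p →
    ∀ x : Matrix.GeneralLinearGroup (J d) F, x ∈ Cfsg.isometryGroup F (Cfsg.quadFormPlus d F) →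
    x ^ r = 1 → NDeg d F (Fx (x : Matrix (J d) (J d) F))

/-- INVDIM (adapt Helper82.HypINVDIM). -/

def InvDim : Prop :=
  ∀ (F : Type u) [Field F] [Fintype F] (p : ℕ) [Fact p.Prime] [CharP F p]
    (d : ℕ) (r : ℕ) [Fact r.Prime], r ≠ p →
    ∀ x : Matrix.GeneralLinearGroup (J d) F, x ^ r = 1 →
    ∀ R : Submodule F (J d → F), Stab (x : Matrix (J d) (J d) F) R →
    R ⊓ Fx (x : Matrix (J d) (J d) F) = ⊥ →
    orderOf ((Fintype.card F : ℕ) : ZMod r) ∣ Module.finrank F ↥R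

/-- PERP (adapt Helper82.HypPERP; main : Top → Perp). -/

def Perp : Prop :=
  ∀ (F : Type u) [Field F] [Fintype F], ∀ (d : ℕ)
    (G : Submodule F (J d → F)), NDeg d F G →
    ∃ Y : Submodule F (J d → F),
      (∀ g ∈ G, ∀ y ∈ Y, QuadraticMap.polar (Cfsg.quadFormPlus d F) g y = 0) ∧
      NDeg d F Y ∧ G ⊓ Y = ⊥ ∧
      Module.finrank F ↥G + Module.finrank F ↥Y = 2 * d ∧
      ∀ x : Matrix.GeneralLinearGroup (J d) F,
        x ∈ Cfsg.isometryGroup F (Cfsg.quadFormPlus d F) →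
        Stab (x : Matrix (J d) (J d) F) G → Stab (x : Matrix (J d) (J d) F) Y

/-- RIMG (adapt Helper97.TSRIMG). -/

def RImg : Prop :=
  ∀ (F : Type u) [Field F] [Fintype F] (p : ℕ) [Fact p.Prime] [CharP F p]
    (d : ℕ) (r : ℕ) [Fact r.Prime], r ≠ p →
    ∀ x : Matrix.GeneralLinearGroup (J d) F, x ^ r = 1 →
    ∀ W : Submodule F (J d → F), Stab (x : Matrix (J d) (J d) F) W →
    ∃ R : Submodule F (J d → F), R ≤ W ∧ Stab (x : Matrix (J d) (J d) F) R ∧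
      R ⊓ Fx (x : Matrix (J d) (J d) F) = ⊥ ∧
      Module.finrank F ↥R + Module.finrank F ↥(W ⊓ Fx (x : Matrix (J d) (J d) F)) =
        Module.finrank F ↥W ∧
      ∀ v ∈ R, ∃ w ∈ W, v = (x : Matrix (J d) (J d) F) *ᵥ w - w

/-- TSHALF (adapt Helper97.TSTSHALF): `U` totally singular gives `B = 0` on `U`
(`polar u v = Q (u+v) - Q u - Q v`). -/

def TsHalf : Prop :=
  ∀ (F : Type u) [Field F] [Fintype F], ∀ (d : ℕ)
    (Y U : Submodule F (J d → F)), NDeg d F Y → U ≤ Y → TSub d F U →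
    2 * Module.finrank F ↥U ≤ Module.finrank F ↥Y

/-- TSIN (adapt Helper8.TSTSIN; `OEmb.exists_embedding` / `QSpace.exists_singular` +
`exists_hyp_pair` are char-free). -/

def TsIn : Prop :=
  ∀ (F : Type u) [Field F] [Fintype F], ∀ (d : ℕ)
    (Y : Submodule F (J d → F)) (j : ℕ), NDeg d F Y → 2 * j < Module.finrank F ↥Y →
    ∃ U : Submodule F (J d → F), U ≤ Y ∧ TSub d F U ∧ Module.finrank F ↥U = j

/-- ORTHSUM (adapt Helper97.TSORTHSUM). -/

def OrthSum : Prop :=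
  ∀ (F : Type u) [Field F] [Fintype F], ∀ (d : ℕ)
    (A B : Submodule F (J d → F)), NDeg d F A → NDeg d F B →
    (∀ u ∈ A, ∀ v ∈ B, QuadraticMap.polar (Cfsg.quadFormPlus d F) u v = 0) →
    NDeg d F (A ⊔ B) ∧ A ⊓ B = ⊥ ∧
      Module.finrank F ↥(A ⊔ B) = Module.finrank F ↥A + Module.finrank F ↥B

/-- SUBPERP (adapt Helper97.TSSUBPERP / Helper47.TSSUBPERP). -/

def SubPerp : Prop :=
  ∀ (F : Type u) [Field F] [Fintype F], ∀ (d : ℕ)
    (Y B : Submodule F (J d → F)), NDeg d F Y → NDeg d F B → B ≤ Y →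
    ∃ Y' : Submodule F (J d → F), Y' ≤ Y ∧ NDeg d F Y' ∧ B ⊓ Y' = ⊥ ∧
      (∀ b ∈ B, ∀ y ∈ Y', QuadraticMap.polar (Cfsg.quadFormPlus d F) b y = 0) ∧
      Module.finrank F ↥B + Module.finrank F ↥Y' = Module.finrank F ↥Y ∧
      ∀ x : Matrix.GeneralLinearGroup (J d) F,
        x ∈ Cfsg.isometryGroup F (Cfsg.quadFormPlus d F) →
        Stab (x : Matrix (J d) (J d) F) Y → Stab (x : Matrix (J d) (J d) F) B →
        Stab (x : Matrix (J d) (J d) F) Y'

/-- CANCEL: Witt cancellation of a plus-type summand.  Route 1 (Witt index): (a) any two maximal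
totally singular subspaces `M, M'` of a subspace have the same finrank: by maximality
`M' ⊓ M^⊥ = M ⊓ M'` and `M ⊓ M'^⊥ = M ⊓ M'`, and the pairing `M' × M → F` has equal left and right
rank; (b) `T_A ≤ A` t.s. of half dimension has `T_A^⊥ ⊓ A = T_A`; for `T_B` maximal t.s. in `B`,
`T_A ⊔ T_B` is maximal t.s. in `A ⊔ B` (a t.s. `w = a + b` orthogonal to it has `a ∈ T_A`,
`Q b = Q w = 0`, `b ⊥ T_B`, so `b ∈ T_B`); (c) `A ⊔ B` has a t.s. subspace of half dimension,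
inside a maximal one of the same finrank (TsHalf); so `2 finrank T_B = finrank B`.
Route 2 (counting): `OTyp1.card_P`, `card_M`, `NP_ne_NM`, `QClass.exists_hyp_even`,
`OTyp1.hyp_of_ts'` on the restricted forms. -/
def Cancel : Prop :=
  ∀ (F : Type u) [Field F] [Fintype F] (d : ℕ) (A B : Submodule F (J d → F)),
    NDeg d F A → NDeg d F B →
    (∀ u ∈ A, ∀ v ∈ B, QuadraticMap.polar (Cfsg.quadFormPlus d F) u v = 0) →
    Plus d F (A ⊔ B) → Plus d F A → Plus d F B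

/-- TYPEEVEN (adapt Helper38.HypTYPEEVEN; `OTyp2.obs_even`, `OTyp1.card_P`, `card_M`, `NP_ne_NM`,
`QClass.exists_hyp_even` are char-free): `i` even, `E` invariant nondegenerate without fixed
vectors: plus type iff `finrank E / i` is even. -/

def TypeEven : Prop :=
  ∀ (F : Type u) [Field F] [Fintype F] (p : ℕ) [Fact p.Prime] [CharP F p],
    ∀ (d : ℕ) (r : ℕ) [Fact r.Prime], r ≠ 2 → r ≠ p →
    Even (orderOf ((Fintype.card F : ℕ) : ZMod r)) →
    ∀ x : Matrix.GeneralLinearGroup (J d) F, x ∈ Cfsg.isometryGroup F (Cfsg.quadFormPlus d F) →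
    x ^ r = 1 → ∀ E : Submodule F (J d → F), Stab (x : Matrix (J d) (J d) F) E → NDeg d F E →
    E ⊓ Fx (x : Matrix (J d) (J d) F) = ⊥ →
    (Plus d F E ↔
      Even (Module.finrank F ↥E / orderOf ((Fintype.card F : ℕ) : ZMod r)))

/-- HALFODD (adapt Helper8.TSHALFODD; `OTyp2.ts_ker` gives `Q = 0` on `ker P(x)`, `P ≠ P*`,
in every characteristic). -/

def HalfOdd : Prop :=
  ∀ (F : Type u) [Field F] [Fintype F] (p : ℕ) [Fact p.Prime] [CharP F p],
    ∀ (d : ℕ) (r : ℕ) [Fact r.Prime], r ≠ 2 → r ≠ p →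
    Odd (orderOf ((Fintype.card F : ℕ) : ZMod r)) →
    ∀ x : Matrix.GeneralLinearGroup (J d) F, x ∈ Cfsg.isometryGroup F (Cfsg.quadFormPlus d F) →
    x ^ r = 1 → ∀ E : Submodule F (J d → F), Stab (x : Matrix (J d) (J d) F) E → NDeg d F E →
    E ⊓ Fx (x : Matrix (J d) (J d) F) = ⊥ →
    ∃ U : Submodule F (J d → F), U ≤ E ∧ Stab (x : Matrix (J d) (J d) F) U ∧ TSub d F U ∧
      2 * Module.finrank F ↥U = Module.finrank F ↥E

/-- INVSUB: an invariant subspace `U` without fixed vectors contains invariant subspaces of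
every finrank `i s ≤ finrank U`.  Induction on `s`: `x` is semisimple on `U`
(`Helper40.SSConj.isSemisimple_toLin'`), so an invariant `U' < U` has an invariant complement `C`
in `U`; take `v ≠ 0` in `C` killed by an irreducible factor `P` of the cyclotomic polynomial
(`C = ⊕ ker P(x) ⊓ C`); `span {x^a v}` has finrank `≤ deg P = i` and `≥ i` (InvDim). -/
def InvSub : Prop :=
  ∀ (F : Type u) [Field F] [Fintype F] (p : ℕ) [Fact p.Prime] [CharP F p]
    (d : ℕ) (r : ℕ) [Fact r.Prime], r ≠ p →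
    ∀ x : Matrix.GeneralLinearGroup (J d) F, x ^ r = 1 →
    ∀ U : Submodule F (J d → F), Stab (x : Matrix (J d) (J d) F) U →
    U ⊓ Fx (x : Matrix (J d) (J d) F) = ⊥ → ∀ s : ℕ,
    orderOf ((Fintype.card F : ℕ) : ZMod r) * s ≤ Module.finrank F ↥U →
    ∃ U' : Submodule F (J d → F), U' ≤ U ∧ Stab (x : Matrix (J d) (J d) F) U' ∧
      Module.finrank F ↥U' = orderOf ((Fintype.card F : ℕ) : ZMod r) * s

/-- FXTYPE (main : Top → FixND → Perp → HalfOdd → TypeEven → Cancel → FxType): the type of the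
fixed space.  `E` = Perp of `Fx` (FixND): invariant, nondegenerate, `E ⊓ Fx = ⊥`,
`finrank E = 2 d - finrank Fx`, `Fx ⊔ E = ⊤` (dimensions).  `i` odd: HalfOdd gives `Plus E`, Cancel
(`A = E`, `B = Fx`, `Plus ⊤`) gives `Plus Fx`.  `i` even: TypeEven: `Plus E ↔ Even (finrank E / i)`;
`→`: Cancel with `A = Fx`, `B = E`; `←`: Cancel with `A = E`, `B = Fx`. -/

def FxType : Prop :=
  ∀ (F : Type u) [Field F] [Fintype F] (p : ℕ) [Fact p.Prime] [CharP F p],
    ∀ (d : ℕ) (r : ℕ) [Fact r.Prime], r ≠ 2 → r ≠ p →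
    ∀ x : Matrix.GeneralLinearGroup (J d) F, x ∈ Cfsg.isometryGroup F (Cfsg.quadFormPlus d F) →
    x ^ r = 1 →
    (Plus d F (Fx (x : Matrix (J d) (J d) F)) ↔
      (Odd (orderOf ((Fintype.card F : ℕ) : ZMod r)) ∨
        Even ((2 * d - Module.finrank F ↥(Fx (x : Matrix (J d) (J d) F))) /
          orderOf ((Fintype.card F : ℕ) : ZMod r))))

/-! ## `i` even: invariant totally singular subspaces (adapt the S5972 pieces) -/

/-- BFE (adapt Helper43.HypBFE / Helper38.HypBFE). -/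

def BlockFindE : Prop :=
  ∀ (F : Type u) [Field F] [Fintype F] (p : ℕ) [Fact p.Prime] [CharP F p],
    ∀ (d : ℕ) (r : ℕ) [Fact r.Prime], r ≠ 2 → r ≠ p →
    Even (orderOf ((Fintype.card F : ℕ) : ZMod r)) →
    ∀ x : Matrix.GeneralLinearGroup (J d) F, x ∈ Cfsg.isometryGroup F (Cfsg.quadFormPlus d F) →
    x ^ r = 1 → ∀ Y : Submodule F (J d → F), Stab (x : Matrix (J d) (J d) F) Y → NDeg d F Y →
    Y ⊓ Fx (x : Matrix (J d) (J d) F) = ⊥ → Y ≠ ⊥ →
    ∃ B : Submodule F (J d → F), B ≤ Y ∧ Stab (x : Matrix (J d) (J d) F) B ∧ NDeg d F B ∧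
      Module.finrank F ↥B = orderOf ((Fintype.card F : ℕ) : ZMod r)

/-- BLOCKSK (adapt Helper66.TSBLOCKSK; main : SubPerp → BlockFindE → BlocksK). -/

def BlocksK : Prop :=
  ∀ (F : Type u) [Field F] [Fintype F] (p : ℕ) [Fact p.Prime] [CharP F p],
    ∀ (d : ℕ) (r : ℕ) [Fact r.Prime], r ≠ 2 → r ≠ p →
    Even (orderOf ((Fintype.card F : ℕ) : ZMod r)) →
    ∀ x : Matrix.GeneralLinearGroup (J d) F, x ∈ Cfsg.isometryGroup F (Cfsg.quadFormPlus d F) →
    x ^ r = 1 → ∀ Y : Submodule F (J d → F), Stab (x : Matrix (J d) (J d) F) Y → NDeg d F Y →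
    Y ⊓ Fx (x : Matrix (J d) (J d) F) = ⊥ → ∀ k : ℕ,
    k * orderOf ((Fintype.card F : ℕ) : ZMod r) ≤ Module.finrank F ↥Y →
    ∃ Bs : Fin k → Submodule F (J d → F),
      (∀ a, Bs a ≤ Y ∧ Stab (x : Matrix (J d) (J d) F) (Bs a) ∧ NDeg d F (Bs a) ∧
        Module.finrank F ↥(Bs a) = orderOf ((Fintype.card F : ℕ) : ZMod r)) ∧
      ∀ a b, a ≠ b → ∀ u ∈ Bs a, ∀ v ∈ Bs b,
        QuadraticMap.polar (Cfsg.quadFormPlus d F) u v = 0

/-- TYPEOF (adapt Helper76.TSTYPEOF; main : InvDim → TypeOf). -/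

def TypeOf : Prop :=
  ∀ (F : Type u) [Field F] [Fintype F] (p : ℕ) [Fact p.Prime] [CharP F p]
    (d : ℕ) (r : ℕ) [Fact r.Prime], r ≠ p →
    ∀ x : Matrix.GeneralLinearGroup (J d) F, x ^ r = 1 →
    ∀ B : Submodule F (J d → F), Stab (x : Matrix (J d) (J d) F) B →
    B ⊓ Fx (x : Matrix (J d) (J d) F) = ⊥ →
    Module.finrank F ↥B = orderOf ((Fintype.card F : ℕ) : ZMod r) →
    ∃ P ∈ Fac r F, Kills (x : Matrix (J d) (J d) F) P B

/-- PAIRE (adapt Helper97.TSPAIRE / Helper43.TSPAIRE / Helper34.TSPAIRE; you may put `InvDim`,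
`TypeEven`, `OrthSum`, `TsHalf`, `IPos` in front).  Characteristic two, counting route: a line
`L = span {x^a w}` with `B = 0` on `L` is totally singular: `Q` is additive on `L` and
`Q ((x - 1) u) = 2 Q u - B (x u, u) = 0`, `x - 1` invertible on `L`. -/

def PairE : Prop :=
  ∀ (F : Type u) [Field F] [Fintype F] (p : ℕ) [Fact p.Prime] [CharP F p],
    ∀ (d : ℕ) (r : ℕ) [Fact r.Prime], r ≠ 2 → r ≠ p →
    Even (orderOf ((Fintype.card F : ℕ) : ZMod r)) →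
    ∀ x : Matrix.GeneralLinearGroup (J d) F, x ∈ Cfsg.isometryGroup F (Cfsg.quadFormPlus d F) →
    x ^ r = 1 → ∀ P ∈ Fac r F, ∀ B₁ B₂ : Submodule F (J d → F),
    Stab (x : Matrix (J d) (J d) F) B₁ → Stab (x : Matrix (J d) (J d) F) B₂ →
    NDeg d F B₁ → NDeg d F B₂ →
    B₁ ⊓ Fx (x : Matrix (J d) (J d) F) = ⊥ → B₂ ⊓ Fx (x : Matrix (J d) (J d) F) = ⊥ →
    Module.finrank F ↥B₁ = orderOf ((Fintype.card F : ℕ) : ZMod r) →
    Module.finrank F ↥B₂ = orderOf ((Fintype.card F : ℕ) : ZMod r) →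
    (∀ u ∈ B₁, ∀ v ∈ B₂, QuadraticMap.polar (Cfsg.quadFormPlus d F) u v = 0) →
    Kills (x : Matrix (J d) (J d) F) P B₁ → Kills (x : Matrix (J d) (J d) F) P B₂ →
    ∃ U : Submodule F (J d → F), U ≤ B₁ ⊔ B₂ ∧ Stab (x : Matrix (J d) (J d) F) U ∧
      TSub d F U ∧ Module.finrank F ↥U = orderOf ((Fintype.card F : ℕ) : ZMod r)

/-- PAIRFIND (adapt Helper66.TSPAIRFIND;
main : IPos → NumTypes → TypeOf → PairE → OrthSum → BlocksK → PairFind). -/

def PairFind : Prop :=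
  ∀ (F : Type u) [Field F] [Fintype F] (p : ℕ) [Fact p.Prime] [CharP F p],
    ∀ (d : ℕ) (r : ℕ) [Fact r.Prime], r ≠ 2 → r ≠ p →
    Even (orderOf ((Fintype.card F : ℕ) : ZMod r)) →
    ∀ x : Matrix.GeneralLinearGroup (J d) F, x ∈ Cfsg.isometryGroup F (Cfsg.quadFormPlus d F) →
    x ^ r = 1 → ∀ Y : Submodule F (J d → F), Stab (x : Matrix (J d) (J d) F) Y → NDeg d F Y →
    Y ⊓ Fx (x : Matrix (J d) (J d) F) = ⊥ →
    orderOf ((Fintype.card F : ℕ) : ZMod r) *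
      ((r - 1) / orderOf ((Fintype.card F : ℕ) : ZMod r) + 1) ≤ Module.finrank F ↥Y →
    ∃ U G : Submodule F (J d → F), U ≤ G ∧ G ≤ Y ∧
      Stab (x : Matrix (J d) (J d) F) U ∧ TSub d F U ∧
      Module.finrank F ↥U = orderOf ((Fintype.card F : ℕ) : ZMod r) ∧
      Stab (x : Matrix (J d) (J d) F) G ∧ NDeg d F G ∧
      Module.finrank F ↥G = 2 * orderOf ((Fintype.card F : ℕ) : ZMod r)

/-- TSEVEN (adapt Helper37.TSTSEVEN; main : FixND → Perp → OrthSum → PairFind → TsEven). -/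

def TsEven : Prop :=
  ∀ (F : Type u) [Field F] [Fintype F] (p : ℕ) [Fact p.Prime] [CharP F p],
    ∀ (d : ℕ) (r : ℕ) [Fact r.Prime], r ≠ 2 → r ≠ p →
    Even (orderOf ((Fintype.card F : ℕ) : ZMod r)) →
    ∀ x : Matrix.GeneralLinearGroup (J d) F, x ∈ Cfsg.isometryGroup F (Cfsg.quadFormPlus d F) →
    x ^ r = 1 → ∀ s : ℕ,
    (s = 0 ∨ orderOf ((Fintype.card F : ℕ) : ZMod r) *
        (2 * s + (r - 1) / orderOf ((Fintype.card F : ℕ) : ZMod r)) +
        Module.finrank F ↥(Fx (x : Matrix (J d) (J d) F)) ≤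
      2 * d + orderOf ((Fintype.card F : ℕ) : ZMod r)) →
    ∃ U : Submodule F (J d → F), Stab (x : Matrix (J d) (J d) F) U ∧ TSub d F U ∧
      Module.finrank F ↥U = orderOf ((Fintype.card F : ℕ) : ZMod r) * s ∧
      U ⊓ Fx (x : Matrix (J d) (J d) F) = ⊥ ∧
      ∀ u ∈ U, ∀ v ∈ Fx (x : Matrix (J d) (J d) F),
        QuadraticMap.polar (Cfsg.quadFormPlus d F) u v = 0

/-! ## Counting -/

/-- FRFIB (adapt Helper4.TSFRFIB): frames fibre over their spans. -/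
def FrFib : Prop :=
  ∀ (F : Type u) [Field F] [Fintype F] (d m : ℕ),
    Nat.card (TFr d F m) =
      NTS d F m * ∏ j ∈ Finset.range m, (Fintype.card F ^ m - Fintype.card F ^ j)

/-- SINGCNT (adapt Helper37.TSSINGCNT): the singular vectors orthogonal to a t.s. frame of length
`j ≤ d` number `q^(d-1) (q^(d-j) + q - 1)`.  Complete the frame to hyperbolic pairs `(e_a, f_a)`
(`OTyp1.hyp_of_ts'`, `QBasis.exists_hyp_basis`, `QSpace.exists_hyp_pair`), `V = H ⊥ V'`;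
`u ⊥ e` iff `u = Σ α_a e_a + v'`, `Q u = Q v'`; `V'` is of plus type of dimension `2 (d - j)`
(Cancel, or `OTyp1.card_P` / `NP_ne_NM`) with `q^(2(d-j)-1) + q^(d-j) - q^(d-j-1)` singular vectors
(`OTyp1.card_P`, `OTyp3.sing_plus`).  Or Witt: move the frame to `Pi.single (inl a) 1`, `a < j`,
and count there (`QCount.card_plusForm_mul`). -/
def SingCnt : Prop :=
  ∀ (F : Type u) [Field F] [Fintype F] (d j : ℕ), 1 ≤ d → j ≤ d → ∀ v : TFr d F j,
    Nat.card {u : J d → F // Cfsg.quadFormPlus d F u = 0 ∧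
        ∀ a, QuadraticMap.polar (Cfsg.quadFormPlus d F) (v.1 a) u = 0} =
      Fintype.card F ^ (d - 1) * (Fintype.card F ^ (d - j) + Fintype.card F - 1)

/-- FREXT (adapt Helper4.TSFREXT; main : SingCnt → FrExt): one more vector: singular, orthogonal
to the frame, outside its span (`q^j` vectors);
`q^(d-1) (q^(d-j) + q - 1) - q^j = q^j (q^(d-j) - 1) (q^(d-1-j) + 1)`. -/
def FrExt : Prop :=
  ∀ (F : Type u) [Field F] [Fintype F] (d j : ℕ), j < d →
    Nat.card (TFr d F (j + 1)) =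
      Nat.card (TFr d F j) *
        (Fintype.card F ^ j * ((Fintype.card F ^ (d - j) - 1) * (Fintype.card F ^ (d - 1 - j) + 1)))

/-- CNTID (adapt Helper24.TSCNTID; main : FrFib → FrExt → CntId). -/
def CntId : Prop :=
  ∀ (F : Type u) [Field F] [Fintype F] (d m : ℕ), m ≤ d →
    NTS d F m * ∏ j ∈ Finset.range m, (Fintype.card F ^ (m - j) - 1) =
      ∏ j ∈ Finset.range m, ((Fintype.card F ^ (d - j) - 1) * (Fintype.card F ^ (d - 1 - j) + 1))

/-- NDARITH (arithmetic): `r` divides a factor `q^(d-j) - 1` or `q^(d-1-j) + 1`, `j < m ≤ d - 1`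
(both exponents are `≥ 1`).  `r ∣ q` is impossible.  `r ∣ q^a - 1` gives `i ∣ a`
(`orderOf_dvd_iff_pow_eq_one` in `ZMod r`); `r ∣ q^a + 1`, `r` odd: `q^a = -1 ≠ 1`, so `i ∣ 2 a`,
`¬ i ∣ a`, hence `i` even. -/
def NdArith : Prop :=
  ∀ (q d m r : ℕ), r.Prime → 2 ≤ q → 1 ≤ m → m < d →
    r ∣ ∏ j ∈ Finset.range m, ((q ^ (d - j) - 1) * (q ^ (d - 1 - j) + 1)) →
    ¬ r ∣ q ∧
    (r ≠ 2 → ∃ j, j < m ∧
      (orderOf ((q : ℕ) : ZMod r) ∣ d - j ∨
        (Even (orderOf ((q : ℕ) : ZMod r)) ∧ orderOf ((q : ℕ) : ZMod r) ∣ 2 * (d - 1 - j) ∧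
          ¬ orderOf ((q : ℕ) : ZMod r) ∣ d - 1 - j)))

/-! ## Elements of odd prime order `r ≠ p` -/

/-- ODDOMEGA: isometries of odd order lie in `Omega`.  `x = y * y`, `y = x ^ ((r+1)/2)`.
`q` odd: `Helper14.OrthIndex.sq_mem_omega` (`NegPairs.sep_plusQ`, `coe_plusQ`).  `q` even:
`Der3.mem_comm_of_odd_pow` with `Good (plusQ d F)` as in `Der3.plus_points`
(`good_of_card hS (Or.inr ..)`), `OMat.mem_omega_iff`, `Der3.mem_omegaGL_iff`. -/
def OddOmega : Prop :=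
  ∀ (F : Type u) [Field F] [Fintype F] (d : ℕ), 3 ≤ d → ∀ r : ℕ, Odd r →
    ∀ x : Matrix.GeneralLinearGroup (J d) F, x ∈ Cfsg.isometryGroup F (Cfsg.quadFormPlus d F) →
    x ^ r = 1 → x ∈ Cfsg.Geo.omegaGL (Cfsg.quadFormPlus d F)

/-- ELTDIM (adapt Helper59.HypDERELT: `exists_block`, `real_pow`, `finrank_Fx`; you may put
`OddOmega` in front): an element of `Omega` of order `r` with `b` blocks of size `cc i` and
fixed space of finrank `2 d - b cc i`.  `c' = block ^ b` is `Real`; if `b cc i < 2 d` embed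
(`OEmb.exists_embedding`, strictly smaller even dimension) and extend (`OExt.exists_ext`); if
`b cc i = 2 d` the space `qN N` of `c'` is isometric to `plusQ d F`: `OTyp3.obs_matrix` (type
condition `Odd i ∨ Even (2 d / i)`), `OTyp3.sing_plus`, `OTyp1.exists_iso`, exactly as `hreal` in
`Cfsg.Agent.S2674`.  Finrank of `Fx` from the characteristic polynomial (`finrank_Fx`). -/
def EltDim : Prop :=
  ∀ (F : Type u) [Field F] [Fintype F] (p : ℕ) [Fact p.Prime] [CharP F p]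
    (d : ℕ), 3 ≤ d → ∀ (r : ℕ) [Fact r.Prime], r ≠ 2 → r ≠ p → ∀ b : ℕ, 1 ≤ b →
    b * cc (orderOf ((Fintype.card F : ℕ) : ZMod r)) ≤ 2 * d →
    (b * cc (orderOf ((Fintype.card F : ℕ) : ZMod r)) = 2 * d →
      Odd (orderOf ((Fintype.card F : ℕ) : ZMod r)) ∨ Even b) →
    ∃ x : Matrix.GeneralLinearGroup (J d) F, x ∈ Cfsg.Geo.omegaGL (Cfsg.quadFormPlus d F) ∧
      x ^ r = 1 ∧
      Module.finrank F ↥(Fx (x : Matrix (J d) (J d) F)) =
        2 * d - b * cc (orderOf ((Fintype.card F : ℕ) : ZMod r))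

/-- MULTELT (adapt Helper59.TSMULTELT / Helper14.TSMULTELT; you may put `OddOmega`, `InvDim` in
front): `i` even, `u ≤ (r-1)/i` blocks with pairwise different irreducible factors, `i u < 2 d`
(so the embedding is into a strictly larger space). -/
def MultElt : Prop :=
  ∀ (F : Type u) [Field F] [Fintype F] (p : ℕ) [Fact p.Prime] [CharP F p]
    (d : ℕ), 3 ≤ d → ∀ (r : ℕ) [Fact r.Prime], r ≠ 2 → r ≠ p →
    Even (orderOf ((Fintype.card F : ℕ) : ZMod r)) →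
    ∀ u : ℕ, 1 ≤ u → u ≤ (r - 1) / orderOf ((Fintype.card F : ℕ) : ZMod r) →
    orderOf ((Fintype.card F : ℕ) : ZMod r) * u < 2 * d →
    ∃ x : Matrix.GeneralLinearGroup (J d) F, x ∈ Cfsg.Geo.omegaGL (Cfsg.quadFormPlus d F) ∧
      x ^ r = 1 ∧
      Module.finrank F ↥(Fx (x : Matrix (J d) (J d) F)) =
        2 * d - orderOf ((Fintype.card F : ℕ) : ZMod r) * u ∧
      ∀ R : Submodule F (J d → F), Stab (x : Matrix (J d) (J d) F) R →
        R ⊓ Fx (x : Matrix (J d) (J d) F) = ⊥ → TSub d F R → R = ⊥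

/-! ## Odd `r ≠ p`: elements without fixed totally singular `m`-space -/

/-- BADA (main : EltDim → FixND → TsHalf → RImg → InvDim → BadA).  `x` from EltDim.  An invariant
t.s. `W` of finrank `m`: RImg gives `R`, InvDim `finrank R = i s`, `i s ≤ m`,
`finrank (W ⊓ Fx) = m - i s`, TsHalf in `Fx` (FixND): `2 (m - i s) ≤ 2 d - b cc i`. -/
def BadA : Prop :=
  ∀ (F : Type u) [Field F] [Fintype F] (p : ℕ) [Fact p.Prime] [CharP F p]
    (d m : ℕ), 3 ≤ d → ∀ (r : ℕ) [Fact r.Prime], r ≠ 2 → r ≠ p → ∀ b : ℕ, 1 ≤ b →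
    b * cc (orderOf ((Fintype.card F : ℕ) : ZMod r)) ≤ 2 * d →
    (b * cc (orderOf ((Fintype.card F : ℕ) : ZMod r)) = 2 * d →
      Odd (orderOf ((Fintype.card F : ℕ) : ZMod r)) ∨ Even b) →
    (∀ s : ℕ, orderOf ((Fintype.card F : ℕ) : ZMod r) * s ≤ m →
      2 * d - b * cc (orderOf ((Fintype.card F : ℕ) : ZMod r)) <
        2 * (m - orderOf ((Fintype.card F : ℕ) : ZMod r) * s)) →
    ∃ x : Matrix.GeneralLinearGroup (J d) F, x ∈ Cfsg.Geo.omegaGL (Cfsg.quadFormPlus d F) ∧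
      x ^ r = 1 ∧ ¬ FixTS d m F (x : Matrix (J d) (J d) F)

/-- BADB (main : IPos → EltDim → FixND → FxType → TsHalf → RImg → InvDim → BadB).  `i` even,
`b` odd, `b i < 2 d`: `x` from EltDim (`cc i = i`); `(2 d - finrank Fx) / i = b` is odd, so `Fx`
is not of plus type (FxType): a t.s. subspace of `Fx` has `2 f ≠ finrank Fx`, so
`2 f + 2 ≤ finrank Fx` (even).  Then as BadA. -/
def BadB : Prop :=
  ∀ (F : Type u) [Field F] [Fintype F] (p : ℕ) [Fact p.Prime] [CharP F p]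
    (d m : ℕ), 3 ≤ d → ∀ (r : ℕ) [Fact r.Prime], r ≠ 2 → r ≠ p →
    Even (orderOf ((Fintype.card F : ℕ) : ZMod r)) → ∀ b : ℕ, Odd b →
    b * orderOf ((Fintype.card F : ℕ) : ZMod r) < 2 * d →
    (∀ s : ℕ, orderOf ((Fintype.card F : ℕ) : ZMod r) * s ≤ m →
      2 * d - b * orderOf ((Fintype.card F : ℕ) : ZMod r) <
        2 * (m - orderOf ((Fintype.card F : ℕ) : ZMod r) * s) + 2) →
    ∃ x : Matrix.GeneralLinearGroup (J d) F, x ∈ Cfsg.Geo.omegaGL (Cfsg.quadFormPlus d F) ∧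
      x ^ r = 1 ∧ ¬ FixTS d m F (x : Matrix (J d) (J d) F)

/-- BADC (main : MultElt → FixND → TsHalf → RImg → BadC).  `x` from MultElt; RImg's `R ≤ W` is
t.s., so `R = ⊥`, `W ≤ Fx`, TsHalf: `2 m ≤ 2 d - i u`. -/
def BadC : Prop :=
  ∀ (F : Type u) [Field F] [Fintype F] (p : ℕ) [Fact p.Prime] [CharP F p]
    (d m : ℕ), 3 ≤ d → ∀ (r : ℕ) [Fact r.Prime], r ≠ 2 → r ≠ p →
    Even (orderOf ((Fintype.card F : ℕ) : ZMod r)) →
    ∀ u : ℕ, 1 ≤ u → u ≤ (r - 1) / orderOf ((Fintype.card F : ℕ) : ZMod r) →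
    orderOf ((Fintype.card F : ℕ) : ZMod r) * u < 2 * d →
    2 * d - orderOf ((Fintype.card F : ℕ) : ZMod r) * u < 2 * m →
    ∃ x : Matrix.GeneralLinearGroup (J d) F, x ∈ Cfsg.Geo.omegaGL (Cfsg.quadFormPlus d F) ∧
      x ^ r = 1 ∧ ¬ FixTS d m F (x : Matrix (J d) (J d) F)

/-- BADD (main : IPos → MultElt → FixND → FxType → TsHalf → RImg → BadD).  As BadC with `u` odd:
`Fx` is not of plus type (FxType), so `2 m + 2 ≤ 2 d - i u`. -/
def BadD : Prop :=
  ∀ (F : Type u) [Field F] [Fintype F] (p : ℕ) [Fact p.Prime] [CharP F p]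
    (d m : ℕ), 3 ≤ d → ∀ (r : ℕ) [Fact r.Prime], r ≠ 2 → r ≠ p →
    Even (orderOf ((Fintype.card F : ℕ) : ZMod r)) →
    ∀ u : ℕ, Odd u → u ≤ (r - 1) / orderOf ((Fintype.card F : ℕ) : ZMod r) →
    orderOf ((Fintype.card F : ℕ) : ZMod r) * u < 2 * d →
    2 * d - orderOf ((Fintype.card F : ℕ) : ZMod r) * u < 2 * m + 2 →
    ∃ x : Matrix.GeneralLinearGroup (J d) F, x ∈ Cfsg.Geo.omegaGL (Cfsg.quadFormPlus d F) ∧
      x ^ r = 1 ∧ ¬ FixTS d m F (x : Matrix (J d) (J d) F)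

/-- B2LOW (main : IPos → BadA → BadB → B2Low): `m < i`.  `i ∣ d - j`, `a = (d - j) / i ≥ 1`:
BadA with `b = a` (`i` odd, `cc i = 2 i`) or `b = 2 a` (`i` even): `b cc i = 2 (d - j)`, only
`s = 0` has `i s ≤ m`, and `2 j < 2 m`.  `i` even, `i ∣ 2 (d-1-j)`, `¬ i ∣ d-1-j`:
`b = 2 (d-1-j) / i` is odd, `b i = 2 (d-1-j) < 2 d`: BadB (`2 j + 2 < 2 m + 2`). -/
def B2Low : Prop :=
  ∀ (F : Type u) [Field F] [Fintype F] (p : ℕ) [Fact p.Prime] [CharP F p]
    (d m : ℕ), 3 ≤ d → 1 ≤ m → m < d → ∀ (r : ℕ) [Fact r.Prime], r ≠ 2 → r ≠ p →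
    m < orderOf ((Fintype.card F : ℕ) : ZMod r) →
    (∃ j, j < m ∧
      (orderOf ((Fintype.card F : ℕ) : ZMod r) ∣ d - j ∨
        (Even (orderOf ((Fintype.card F : ℕ) : ZMod r)) ∧
          orderOf ((Fintype.card F : ℕ) : ZMod r) ∣ 2 * (d - 1 - j) ∧
          ¬ orderOf ((Fintype.card F : ℕ) : ZMod r) ∣ d - 1 - j))) →
    ∃ x : Matrix.GeneralLinearGroup (J d) F, x ∈ Cfsg.Geo.omegaGL (Cfsg.quadFormPlus d F) ∧
      x ^ r = 1 ∧ ¬ FixTS d m F (x : Matrix (J d) (J d) F)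

/-- B2ODD (main : IPos → BadA → B2Odd): `i` odd, `i ≤ m`: BadA with `b = d / i`, `cc i = 2 i`:
`2 d - 2 i (d / i) = (2 d) % (2 i) < 2 (m % i) ≤ 2 (m - i s)`. -/
def B2Odd : Prop :=
  ∀ (F : Type u) [Field F] [Fintype F] (p : ℕ) [Fact p.Prime] [CharP F p]
    (d m : ℕ), 3 ≤ d → 1 ≤ m → m < d → ∀ (r : ℕ) [Fact r.Prime], r ≠ 2 → r ≠ p →
    Odd (orderOf ((Fintype.card F : ℕ) : ZMod r)) →
    orderOf ((Fintype.card F : ℕ) : ZMod r) ≤ m →
    (2 * d) % (2 * orderOf ((Fintype.card F : ℕ) : ZMod r)) <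
      2 * (m % orderOf ((Fintype.card F : ℕ) : ZMod r)) →
    ∃ x : Matrix.GeneralLinearGroup (J d) F, x ∈ Cfsg.Geo.omegaGL (Cfsg.quadFormPlus d F) ∧
      x ^ r = 1 ∧ ¬ FixTS d m F (x : Matrix (J d) (J d) F)

/-- B2EVEN (main : IPos → BadA → BadB → BadC → BadD → B2Even): `i` even, `i ≤ m`; `n' = 2d / i`,
`k = 2d % i`, `m' = m / i`, `l = m % i`, `t = (r-1)/i` (`i ∣ r - 1`:
`ZMod.orderOf_dvd_card_sub_one`).  Cases (all checked numerically):
(1) `n' < t + 2 m'`: BadC with `u = n' + 1 - 2 m'` (`1 ≤ u ≤ t`, `i u ≤ 2 d - i`,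
`2 d - i u = 2 i m' + k - i < 2 m`).
(2) else, `n'` even (so `k < 2 l`): BadA with `b = n'` (`cc i = i`; `2 (m - i s) ≥ 2 l > k`).
(3) else, `n'` odd, `0 < k` (so `k ≤ 2 l`): BadB with `b = n'` (`2 (m - i s) + 2 ≥ 2 l + 2 > k`).
(4) else, `n'` odd, `k = 0`, `i < 2 l`: BadA with `b = n' - 1` (even, `≥ 2`; `2 d - b i = i`).
(5) else, `n'` odd, `k = 0`, `2 l ≤ i`, `t + 2 m' = n'`: BadD with `u = t` (odd, `i t < 2 d`,
`2 d - i t = 2 i m' < 2 m + 2`). -/
def B2Even : Prop :=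
  ∀ (F : Type u) [Field F] [Fintype F] (p : ℕ) [Fact p.Prime] [CharP F p]
    (d m : ℕ), 3 ≤ d → 1 ≤ m → m < d → ∀ (r : ℕ) [Fact r.Prime], r ≠ 2 → r ≠ p →
    Even (orderOf ((Fintype.card F : ℕ) : ZMod r)) →
    orderOf ((Fintype.card F : ℕ) : ZMod r) ≤ m →
    ¬ ((r - 1) / orderOf ((Fintype.card F : ℕ) : ZMod r) + 2 * (m / orderOf ((Fintype.card F : ℕ) : ZMod r)) ≤
          (2 * d) / orderOf ((Fintype.card F : ℕ) : ZMod r) ∧
        ((2 * (m % orderOf ((Fintype.card F : ℕ) : ZMod r)) ≤ orderOf ((Fintype.card F : ℕ) : ZMod r) ∧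
            (2 * d) % orderOf ((Fintype.card F : ℕ) : ZMod r) = 0 ∧
            Odd ((2 * d) / orderOf ((Fintype.card F : ℕ) : ZMod r)) ∧
            (r - 1) / orderOf ((Fintype.card F : ℕ) : ZMod r) + 2 * (m / orderOf ((Fintype.card F : ℕ) : ZMod r)) <
              (2 * d) / orderOf ((Fintype.card F : ℕ) : ZMod r)) ∨
          (2 * (m % orderOf ((Fintype.card F : ℕ) : ZMod r)) ≤ (2 * d) % orderOf ((Fintype.card F : ℕ) : ZMod r) ∧
            Even ((2 * d) / orderOf ((Fintype.card F : ℕ) : ZMod r))) ∨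
          (2 * (m % orderOf ((Fintype.card F : ℕ) : ZMod r)) < (2 * d) % orderOf ((Fintype.card F : ℕ) : ZMod r) ∧
            Odd ((2 * d) / orderOf ((Fintype.card F : ℕ) : ZMod r))))) →
    ∃ x : Matrix.GeneralLinearGroup (J d) F, x ∈ Cfsg.Geo.omegaGL (Cfsg.quadFormPlus d F) ∧
      x ^ r = 1 ∧ ¬ FixTS d m F (x : Matrix (J d) (J d) F)

/-! ## Odd `r ≠ p`: fixed totally singular `m`-spaces -/

/-- G1O (main : IPos → FixND → Perp → InvDim → HalfOdd → InvSub → FxType → G1O).  `E` = Perp of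
`Fx`, HalfOdd: `U ≤ E` invariant t.s., `finrank U = i β`, `finrank Fx = 2 d - 2 i β`;
`s = min β (m / i)`, InvSub: `U' ≤ U` invariant of finrank `i s`; FxType (`i` odd): `T ≤ Fx` t.s.
of finrank `d - i β`; `W0 ≤ T` of finrank `m - i s` (`s = m / i`: `2 (m % i) ≤ (2d) % (2i) ≤
2 d - 2 i β`; `s = β`: `m ≤ d`).  `W = U' ⊔ W0`: t.s. (`E ⊥ Fx`), finrank adds (`E ⊓ Fx = ⊥`),
invariant (`x w = w` on `Fx`). -/
def G1O : Prop :=
  ∀ (F : Type u) [Field F] [Fintype F] (p : ℕ) [Fact p.Prime] [CharP F p]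
    (d m : ℕ), 1 ≤ m → m ≤ d → ∀ (r : ℕ) [Fact r.Prime], r ≠ 2 → r ≠ p →
    Odd (orderOf ((Fintype.card F : ℕ) : ZMod r)) →
    orderOf ((Fintype.card F : ℕ) : ZMod r) ≤ m →
    2 * (m % orderOf ((Fintype.card F : ℕ) : ZMod r)) ≤ (2 * d) % (2 * orderOf ((Fintype.card F : ℕ) : ZMod r)) →
    ∀ x : Matrix.GeneralLinearGroup (J d) F, x ∈ Cfsg.isometryGroup F (Cfsg.quadFormPlus d F) →
    x ^ r = 1 → FixTS d m F (x : Matrix (J d) (J d) F)

/-- G1E (main : IPos → FixND → Perp → InvDim → FxType → TsIn → TsEven → G1E).  `f0 = finrank Fx`,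
`i ∣ 2 d - f0` (InvDim on the Perp of `Fx`), `b = (2 d - f0) / i`, `t = (r-1)/i`,
`s = min (m / i) ((b + 1 - t) / 2)` (truncated); `s ≥ 1` gives `2 s + t ≤ b + 1`: TsEven gives
`U`.  `b` even: FxType gives `T ≤ Fx` t.s. with `2 finrank T = f0`, and `2 (m - i s) ≤ f0`; `b`
odd (then `f0 ≠ 0`: `Plus ⊥` holds): `2 (m - i s) < f0`, TsIn.  (Both inequalities checked
numerically for all `b ≤ 2d / i` under the hypotheses.)  `W = U ⊔ W0`. -/
def G1E : Prop :=
  ∀ (F : Type u) [Field F] [Fintype F] (p : ℕ) [Fact p.Prime] [CharP F p]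
    (d m : ℕ), 1 ≤ m → m < d → ∀ (r : ℕ) [Fact r.Prime], r ≠ 2 → r ≠ p →
    Even (orderOf ((Fintype.card F : ℕ) : ZMod r)) →
    orderOf ((Fintype.card F : ℕ) : ZMod r) ≤ m →
    (r - 1) / orderOf ((Fintype.card F : ℕ) : ZMod r) + 2 * (m / orderOf ((Fintype.card F : ℕ) : ZMod r)) ≤
      (2 * d) / orderOf ((Fintype.card F : ℕ) : ZMod r) →
    ((2 * (m % orderOf ((Fintype.card F : ℕ) : ZMod r)) ≤ orderOf ((Fintype.card F : ℕ) : ZMod r) ∧
        (2 * d) % orderOf ((Fintype.card F : ℕ) : ZMod r) = 0 ∧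
        Odd ((2 * d) / orderOf ((Fintype.card F : ℕ) : ZMod r)) ∧
        (r - 1) / orderOf ((Fintype.card F : ℕ) : ZMod r) + 2 * (m / orderOf ((Fintype.card F : ℕ) : ZMod r)) <
          (2 * d) / orderOf ((Fintype.card F : ℕ) : ZMod r)) ∨
      (2 * (m % orderOf ((Fintype.card F : ℕ) : ZMod r)) ≤ (2 * d) % orderOf ((Fintype.card F : ℕ) : ZMod r) ∧
        Even ((2 * d) / orderOf ((Fintype.card F : ℕ) : ZMod r))) ∨
      (2 * (m % orderOf ((Fintype.card F : ℕ) : ZMod r)) < (2 * d) % orderOf ((Fintype.card F : ℕ) : ZMod r) ∧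
        Odd ((2 * d) / orderOf ((Fintype.card F : ℕ) : ZMod r)))) →
    ∀ x : Matrix.GeneralLinearGroup (J d) F, x ∈ Cfsg.isometryGroup F (Cfsg.quadFormPlus d F) →
    x ^ r = 1 → FixTS d m F (x : Matrix (J d) (J d) F)

/-- PROJ: `x ^ r = z • 1` for an isometry forces `z * z = 1` (`Q (e_0 + f_0) = 1`); `y = x` if
`z = 1`, `y = -x` if `z = -1` (`r` odd). -/
def Proj : Prop :=
  ∀ (F : Type u) [Field F] [Fintype F] (d : ℕ), 1 ≤ d → ∀ r : ℕ, Odd r →
    ∀ x : Matrix.GeneralLinearGroup (J d) F, x ∈ Cfsg.isometryGroup F (Cfsg.quadFormPlus d F) →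
    (∃ z : F, ((x ^ r : Matrix.GeneralLinearGroup (J d) F) : Matrix (J d) (J d) F) = z • (1 : Matrix (J d) (J d) F)) →
    ∃ y : Matrix.GeneralLinearGroup (J d) F, y ∈ Cfsg.isometryGroup F (Cfsg.quadFormPlus d F) ∧
      y ^ r = 1 ∧
      ∀ W : Submodule F (J d → F), Stab (y : Matrix (J d) (J d) F) W →
        Stab (x : Matrix (J d) (J d) F) W

/-! ## `r = 2` (`q` odd) -/

/-- INVDEC (adapt Helper97.TSINVDEC; main : Top → InvDec). -/
def InvDec : Prop :=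
  ∀ (F : Type u) [Field F] [Fintype F], Odd (Fintype.card F) → ∀ (d : ℕ),
    ∀ x : Matrix.GeneralLinearGroup (J d) F, x ∈ Cfsg.isometryGroup F (Cfsg.quadFormPlus d F) →
    x ^ 2 = 1 →
    NDeg d F (Fx (x : Matrix (J d) (J d) F)) ∧ NDeg d F (Fm (x : Matrix (J d) (J d) F)) ∧
      (∀ u ∈ Fx (x : Matrix (J d) (J d) F), ∀ v ∈ Fm (x : Matrix (J d) (J d) F),
        QuadraticMap.polar (Cfsg.quadFormPlus d F) u v = 0) ∧
      Fx (x : Matrix (J d) (J d) F) ⊓ Fm (x : Matrix (J d) (J d) F) = ⊥ ∧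
      Module.finrank F ↥(Fx (x : Matrix (J d) (J d) F)) +
        Module.finrank F ↥(Fm (x : Matrix (J d) (J d) F)) = 2 * d ∧
      Fx (x : Matrix (J d) (J d) F) ⊔ Fm (x : Matrix (J d) (J d) F) = ⊤

/-- INVPAR (adapt Helper31.TSINVPAR / Helper82.TSINVPAR). -/
def InvPar : Prop :=
  ∀ (F : Type u) [Field F] [Fintype F], Odd (Fintype.card F) → ∀ (d : ℕ),
    ∀ x : Matrix.GeneralLinearGroup (J d) F, x ∈ Cfsg.Geo.omegaGL (Cfsg.quadFormPlus d F) →
    x ^ 2 = 1 → Even (Module.finrank F ↥(Fm (x : Matrix (J d) (J d) F)))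

/-- SPININV (adapt Helper93.TSSPININV / Helper8.TSSPININV; you may put `InvDec`, `InvPar` in
front): `q ≡ 1 (mod 4)`: the `-1`-eigenspace of an involution of `Omega` is of plus type. -/
def SpinInv : Prop :=
  ∀ (F : Type u) [Field F] [Fintype F], Odd (Fintype.card F) → Fintype.card F % 4 = 1 →
    ∀ (d : ℕ), 1 ≤ d →
    ∀ x : Matrix.GeneralLinearGroup (J d) F, x ∈ Cfsg.Geo.omegaGL (Cfsg.quadFormPlus d F) →
    x ^ 2 = 1 → Plus d F (Fm (x : Matrix (J d) (J d) F))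

/-- INVGOOD1 (main : Top → InvDec → InvPar → SpinInv → TsIn → Cancel → InvGood1).
`f0 = finrank Fx`, `g0 = finrank Fm` (both even, `f0 + g0 = 2 d`).  `q ≡ 1 (4)`: `Plus Fm`
(SpinInv), `Plus Fx` (Cancel, `Fx ⊔ Fm = ⊤`): t.s. subspaces of finrank `min m (f0/2)` in `Fx` and
the rest (`≤ g0/2`) in `Fm`.  `m + 2 ≤ d`: TsIn gives t.s. `j`-spaces in `Fx` for `2 j < f0` and in
`Fm` for `2 j < g0`; `j = min m (f0/2 - 1)` (`j = 0` if `f0 = 0`) and `m - j`.  The sum is t.s.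
(orthogonal), invariant (`x = 1` on `Fx`, `-1` on `Fm`). -/
def InvGood1 : Prop :=
  ∀ (F : Type u) [Field F] [Fintype F], Odd (Fintype.card F) → ∀ (d m : ℕ), 1 ≤ d → m ≤ d →
    (Fintype.card F % 4 = 1 ∨ m + 2 ≤ d) →
    ∀ x : Matrix.GeneralLinearGroup (J d) F, x ∈ Cfsg.Geo.omegaGL (Cfsg.quadFormPlus d F) →
    x ^ 2 = 1 → FixTS d m F (x : Matrix (J d) (J d) F)

/-- SQNEG1 (main : Top → TsHalf → SqNeg1): `q ≡ 1 (4)`, `x^2 = -1`: `ι` with `ι^2 = -1`
(`FiniteField.isSquare_neg_one_iff`); `V = ker (x - ι) ⊕ ker (x + ι)`, both totally singular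
(`Q v = Q (x v) = ι^2 Q v = - Q v`, `q` odd), so both of finrank `d` (TsHalf); every subspace of
`ker (x - ι)` is invariant. -/
def SqNeg1 : Prop :=
  ∀ (F : Type u) [Field F] [Fintype F], Fintype.card F % 4 = 1 → ∀ (d m : ℕ), m ≤ d →
    ∀ x : Matrix.GeneralLinearGroup (J d) F, x ∈ Cfsg.isometryGroup F (Cfsg.quadFormPlus d F) →
    ((x ^ 2 : Matrix.GeneralLinearGroup (J d) F) : Matrix (J d) (J d) F) = (-1 : F) • (1 : Matrix (J d) (J d) F) →
    FixTS d m F (x : Matrix (J d) (J d) F)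

/-- TSEXT (main : SingCnt → TsExt): a t.s. subspace of finrank `j < d` is not maximal: a basis of
`U` is a frame; `q^(d-1) (q^(d-j) + q - 1) > q^j = card U`. -/
def TsExt : Prop :=
  ∀ (F : Type u) [Field F] [Fintype F] (d : ℕ) (U : Submodule F (J d → F)), TSub d F U →
    Module.finrank F ↥U < d →
    ∃ v : J d → F, v ∉ U ∧ Cfsg.quadFormPlus d F v = 0 ∧
      ∀ u ∈ U, QuadraticMap.polar (Cfsg.quadFormPlus d F) u v = 0

/-- SQNEGTS (main : TsExt → SqNegTS): `q ≡ 3 (4)`, `x^2 = -1`, `W` invariant t.s. of finrank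
`< d`: `v` from TsExt, `W' = W ⊔ span {v, x v}`.  T.s.: `Q (x v) = Q v = 0`,
`B (v, x v) = B (x v, x x v) = - B (x v, v)` so `B (v, x v) = 0`, `B (w, x v) = - B (x w, v) = 0`.
Invariant: `x (x v) = - v`.  Finrank `+ 2`: `x v = w + c v` gives `(c^2 + 1) v ∈ W`, but `-1` is
not a square (`FiniteField.isSquare_neg_one_iff`). -/
def SqNegTS : Prop :=
  ∀ (F : Type u) [Field F] [Fintype F], Fintype.card F % 4 = 3 → ∀ (d : ℕ),
    ∀ x : Matrix.GeneralLinearGroup (J d) F, x ∈ Cfsg.isometryGroup F (Cfsg.quadFormPlus d F) →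
    ((x ^ 2 : Matrix.GeneralLinearGroup (J d) F) : Matrix (J d) (J d) F) = (-1 : F) • (1 : Matrix (J d) (J d) F) →
    ∀ W : Submodule F (J d → F), Stab (x : Matrix (J d) (J d) F) W → TSub d F W →
    Module.finrank F ↥W < d →
    ∃ W' : Submodule F (J d → F), Stab (x : Matrix (J d) (J d) F) W' ∧ TSub d F W' ∧
      Module.finrank F ↥W' = Module.finrank F ↥W + 2

/-- SQNEG3 (main : Top → TsHalf → SqNegTS → SqNeg3): by induction invariant t.s. subspaces of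
finrank `2 s` for all `2 s ≤ d + 1`.  `d` odd: finrank `d + 1` contradicts TsHalf in `⊤`
(`finrank ⊤ = 2 d`), so there is no such `x`.  `m` even: `s = m / 2`. -/
def SqNeg3 : Prop :=
  ∀ (F : Type u) [Field F] [Fintype F], Fintype.card F % 4 = 3 → ∀ (d m : ℕ), m < d →
    (Even m ∨ Odd d) →
    ∀ x : Matrix.GeneralLinearGroup (J d) F, x ∈ Cfsg.isometryGroup F (Cfsg.quadFormPlus d F) →
    ((x ^ 2 : Matrix.GeneralLinearGroup (J d) F) : Matrix (J d) (J d) F) = (-1 : F) • (1 : Matrix (J d) (J d) F) →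
    FixTS d m F (x : Matrix (J d) (J d) F)

/-- INVGOOD (main : InvGood1 → SqNeg1 → SqNeg3 → InvGood): `x^2 = z • 1`, `x` an isometry:
`z * z = 1` (`Q (e_0 + f_0) = 1`), so `z = 1` (InvGood1) or `z = -1` (SqNeg1 / SqNeg3). -/
def InvGood : Prop :=
  ∀ (F : Type u) [Field F] [Fintype F], Odd (Fintype.card F) → ∀ (d m : ℕ), 1 ≤ d → 1 ≤ m → m < d →
    (Fintype.card F % 4 = 1 ∨ (Fintype.card F % 4 = 3 ∧ m + 2 ≤ d ∧ (Even m ∨ Odd d))) →
    ∀ x : Matrix.GeneralLinearGroup (J d) F, x ∈ Cfsg.Geo.omegaGL (Cfsg.quadFormPlus d F) →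
    (∃ z : F, ((x ^ 2 : Matrix.GeneralLinearGroup (J d) F) : Matrix (J d) (J d) F) = z • (1 : Matrix (J d) (J d) F)) →
    FixTS d m F (x : Matrix (J d) (J d) F)

/-- INVBAD1 (adapt Helper60.TSINVBAD; main : Top → InvDec → Cancel → InvBad1): `q ≡ 3 (4)`.
`u = e_0 + f_0`, `v = e_1 + f_1` (`Q u = Q v = 1`, `B (u, v) = 0`); `x` = product of the
reflections in `u` and `v`: `e_0 ↦ - f_0`, `f_0 ↦ - e_0`, `e_1 ↦ - f_1`, `f_1 ↦ - e_1`, identity on
the other basis vectors.  In `Omega`: `x = ρ g ρ g⁻¹` with `ρ` the reflection in `u` and `g` the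
permutation matrix exchanging the indices `0` and `1` (an isometry, `g u = v`); or
`OMat.exists_mem_omega_iff`.  `Fm x = span {u, v}` is anisotropic (`a^2 + b^2 = 0` only for
`a = b = 0`).  An invariant t.s. `W` of finrank `d - 1`: `w - x w ∈ W ⊓ Fm = ⊥`, so `W ≤ Fx`,
`Plus Fx`, Cancel gives `Plus Fm`: a singular vector in `Fm`. -/
def InvBad1 : Prop :=
  ∀ (F : Type u) [Field F] [Fintype F], Fintype.card F % 4 = 3 → ∀ (d : ℕ), 2 ≤ d →
    ∃ x : Matrix.GeneralLinearGroup (J d) F, x ∈ Cfsg.Geo.omegaGL (Cfsg.quadFormPlus d F) ∧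
      x ^ 2 = 1 ∧ (∀ z : F, (x : Matrix (J d) (J d) F) ≠ z • (1 : Matrix (J d) (J d) F)) ∧
      ¬ FixTS d (d - 1) F (x : Matrix (J d) (J d) F)

/-- INVBAD2: `q ≡ 3 (4)`, `d` even, `m` odd.  `A ∈ GL_d` with `A e_(2a) = e_(2a+1)`,
`A e_(2a+1) = - e_(2a)`: `A * A = -1`, `det A = 1`, `x = Levi.leviGL A` (`Levi.levi`,
`leviGL_mem`); `x * x = -1`.  In `Omega`: `GLAb.map_toGL_eq_one` for
`Abelianization.of ∘ Levi.levi d F` (`A` is the image of an element of `SL`), then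
`OMat.mem_omega_iff` / `Der3.mem_omegaGL_iff`.  No invariant subspace `W` of odd finrank `m`:
`det (x|W)^2 = (-1)^m = -1` is not a square.  Not scalar: `z * z = -1`. -/
def InvBad2 : Prop :=
  ∀ (F : Type u) [Field F] [Fintype F], Fintype.card F % 4 = 3 → ∀ (d m : ℕ), 3 ≤ d → Even d → Odd m →
    ∃ x : Matrix.GeneralLinearGroup (J d) F, x ∈ Cfsg.Geo.omegaGL (Cfsg.quadFormPlus d F) ∧
      ((x ^ 2 : Matrix.GeneralLinearGroup (J d) F) : Matrix (J d) (J d) F) = (-1 : F) • (1 : Matrix (J d) (J d) F) ∧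
      (∀ z : F, (x : Matrix (J d) (J d) F) ≠ z • (1 : Matrix (J d) (J d) F)) ∧
      ¬ FixTS d m F (x : Matrix (J d) (J d) F)

end Cfsg.Agent.Lib.Helper44.TPStmt
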