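import Mathlib
import Cfsg.Prelude.Def_Classical
import Cfsg.Prelude.Def_ClassicalGeometry
import Cfsg.Agent.Lib.Helper44.OMat2

set_option autoImplicit false

namespace Cfsg.Agent.Lib.Helper44.ODet

open Module QuadraticMap Matrix
open Cfsg.Agent.Lib.Helper44.QSpace Cfsg.Agent.Lib.Helper44.OGroup Cfsg.Agent.Lib.Helper44.Spinor
open Cfsg.Agent.Lib.Helper44.CartanD Cfsg.Agent.Lib.Helper44.OMat Cfsg.Agent.Lib.Helper44.CD2a
open Cfsg.Agent.Lib.Helper44.Omega2 Cfsg.Agent.Lib.Helper44.OMat2

variable {F : Type*} [Field F] {ι : Type} [Fintype ι] [DecidableEq ι]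

/-- The determinant of the matrix of an isometry is the determinant of the linear map. -/
theorem detHom_isoEquiv (Q : QuadraticForm F (ι → F)) (g : ↥(Cfsg.isometryGroup F ⇑Q)) :
    detHom Q (isoEquiv Q g) = Matrix.GeneralLinearGroup.det (g : GL ι F) := by
  apply Units.ext
  rw [Matrix.GeneralLinearGroup.val_det_apply]
  show ((LinearEquiv.det ((isoEquiv Q g : ↥(O Q)) : (ι → F) ≃ₗ[F] (ι → F)) : Fˣ) : F) = _
  rw [LinearEquiv.coe_det]
  have e : (((isoEquiv Q g : ↥(O Q)) : (ι → F) ≃ₗ[F] (ι → F)) : (ι → F) →ₗ[F] (ι → F))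
      = Matrix.toLin' ((g : GL ι F) : Matrix ι ι F) := by
    apply LinearMap.ext
    intro x
    rw [Matrix.toLin'_apply]
    rfl
  rw [e, LinearMap.det_toLin']

/-- The determinant of a product of reflections. -/
theorem det_of_prod (Q : QuadraticForm F (ι → F)) (g : ↥(Cfsg.isometryGroup F ⇑Q))
    (vs : List (ι → F)) (hvs : ∀ v ∈ vs, Q v ≠ 0)
    (hg : isoEquiv Q g = (vs.map (refl Q)).prod) :
    Matrix.GeneralLinearGroup.det (g : GL ι F) = (-1) ^ vs.length := by
  rw [← detHom_isoEquiv, hg, detHom_prod Q vs hvs]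

theorem mem_special_iff (Q : QuadraticForm F (ι → F)) (g : ↥(Cfsg.isometryGroup F ⇑Q)) :
    g ∈ Cfsg.specialIsometryGroup F ⇑Q ↔ Matrix.GeneralLinearGroup.det (g : GL ι F) = 1 := by
  unfold Cfsg.specialIsometryGroup
  rw [MonoidHom.mem_ker]
  rfl

theorem omega_le_special (Q : QuadraticForm F (ι → F)) :
    Cfsg.Omega F ⇑Q ≤ Cfsg.specialIsometryGroup F ⇑Q := by
  unfold Cfsg.specialIsometryGroup
  exact Abelianization.commutator_subset_ker _

instance special_normal (Q : QuadraticForm F (ι → F)) :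
    (Cfsg.specialIsometryGroup F ⇑Q).Normal := by
  unfold Cfsg.specialIsometryGroup
  infer_instance

/-- In characteristic two every isometry has determinant one. -/
theorem special_eq_top_two [Fintype F] [CharP F 2] {Q : QuadraticForm F (ι → F)} (hCD : CDP Q) :
    Cfsg.specialIsometryGroup F ⇑Q = ⊤ := by
  rw [eq_top_iff]
  intro g _
  obtain ⟨vs, hvs, hg⟩ := exists_prod_of_cdp hCD g
  rw [mem_special_iff, det_of_prod Q g vs hvs hg]
  have : (-1 : Fˣ) = 1 := by
    apply Units.ext
    simp [CharTwo.neg_eq]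
  rw [this, one_pow]

/-- In odd characteristic the special orthogonal group has index two. -/
theorem index_special [Nonempty ι] (h2 : (2 : F) ≠ 0) {Q : QuadraticForm F (ι → F)} (hS : Sep Q)
    (hCD : CDP Q) : (Cfsg.specialIsometryGroup F ⇑Q).index = 2 := by
  have hne : (-1 : Fˣ) ≠ 1 := by
    intro h
    have h1 := congrArg Units.val h
    simp only [Units.val_neg, Units.val_one] at h1
    apply h2
    linear_combination -h1
  obtain ⟨v, hv⟩ := exists_ne_zero hS
  rw [Subgroup.index_eq_two_iff]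
  refine ⟨(isoEquiv Q).symm (refl Q v), ?_⟩
  intro b
  obtain ⟨vs, hvs, hb⟩ := exists_prod_of_cdp hCD b
  have hdb := det_of_prod Q b vs hvs hb
  have hdr : Matrix.GeneralLinearGroup.det
      (((isoEquiv Q).symm (refl Q v) : ↥(Cfsg.isometryGroup F ⇑Q)) : GL ι F) = -1 := by
    have := det_of_prod Q ((isoEquiv Q).symm (refl Q v)) [v] (by
      intro x hx
      rw [List.mem_singleton] at hx
      rw [hx]; exact hv) (by simp)
    simpa using this
  rw [mem_special_iff, mem_special_iff, Subgroup.coe_mul, map_mul, hdr, hdb]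
  rcases neg_one_pow_eq_or Fˣ vs.length with h | h
  · rw [h]
    right
    refine ⟨rfl, ?_⟩
    rw [one_mul]
    exact hne
  · rw [h]
    left
    refine ⟨by simp, hne⟩

end Cfsg.Agent.Lib.Helper44.ODet
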