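import Mathlib
import Cfsg.Agent.Lib.Helper45.OmegaInndiag

set_option autoImplicit false

/-! Piece statements for S2721 (semisimple elements of odd order in the conformal orthogonal
group: class fusion).  Everything is stated for a general quadratic form `Q` on `ι → F` with
nondegenerate polar form (`Sep Q`), `F` finite of odd characteristic.

Notation (all from landed libraries):
* `GOq := ↥(Cfsg.Geo.quadSimilarityGroup (F := F) ⇑Q)` the similarity group (a subgroup of `GL ι F`);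
* `mu Q g : Fˣ` the multiplier, `muHom Q hv₀` the multiplier homomorphism;
* `dl Q hv₀ k g = det g * (mu g)⁻¹ ^ k : Fˣ` (equal to `±1` when `card ι = 2 * k`);
* `Phi ⇑Q : GOq →* MulAut (POmega F ⇑Q)` the conjugation action;
* `rfl' Q u : GOq` the reflection in `u`. -/

namespace Cfsg.Agent.Lib.Helper44.SMStmt

open Matrix
open Cfsg.Agent.Lib.Helper44.QSpace Cfsg.Agent.Lib.Helper44.OGroup Cfsg.Agent.Lib.Helper44.OMat
open Cfsg.Agent.Lib.Helper45.OmegaAut Cfsg.Agent.Lib.Helper45.OmegaAutPsi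
open Cfsg.Agent.Lib.Helper45.OmegaAutMain Cfsg.Agent.Lib.Helper45.OmegaInndiag

universe u

/-- [LIFT] An automorphism `x` in the image of the similarity group with `x ^ r = 1`, `r` odd,
is `Phi s` for an ISOMETRY `s` with `s ^ r = 1`.
Sketch: `x = Phi g`; `h := g * g * (scalar (mu g)⁻¹)` is an isometry with `Phi h = x ^ 2`
(`Phi_eq_one_of_scalar`); `s₀ := h ^ ((r+1)/2)` is an isometry with `Phi s₀ = x ^ (r+1) = x`;
`Phi (s₀ ^ r) = 1` so `s₀ ^ r` is a scalar `c` (`scalar_of_Phi_eq_one`), `c ^ 2 = 1` as it is an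
isometry; `s := s₀ ^ (r+1)` has `s ^ r = (s₀ ^ r) ^ (r+1) = c ^ (r+1) = 1` and `Phi s = x`. -/
def Lift : Prop := ∀ (F : Type u) [Field F] [Fintype F] (ι : Type) [Fintype ι] [DecidableEq ι]
  (Q : QuadraticForm F (ι → F)), (2 : F) ≠ 0 → Sep Q → 5 ≤ Fintype.card ι →
  ∀ (x : MulAut (Cfsg.POmega F ⇑Q)), x ∈ Cfsg.pgoAut F ⇑Q → ∀ r : ℕ, Odd r → x ^ r = 1 →
  ∃ s : ↥(Cfsg.Geo.quadSimilarityGroup (F := F) ⇑Q),
    (s : GL ι F) ∈ Cfsg.isometryGroup F ⇑Q ∧ s ^ r = 1 ∧ Phi ⇑Q s = x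

/-- [COMM] For an isometry `s` of odd order prime to the characteristic and ANY similarity `g₀`
there is a similarity `δ` COMMUTING with `s` with the same multiplier as `g₀`.
Sketch: `g₀ s g₀⁻¹` is an isometry (`conj_mem_iso`), `GL`-conjugate to `s`; by
`Cfsg.Agent.Lib.Helper44.OConj.conj_core` (Wall-type conjugacy, landed) there is an isometry `h`
with `h s = (g₀ s g₀⁻¹) h`; `δ := h⁻¹ g₀` commutes with `s` and `mu δ = mu g₀`. -/
def Comm : Prop := ∀ (F : Type u) [Field F] [Fintype F] (ι : Type) [Fintype ι] [DecidableEq ι]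
  (Q : QuadraticForm F (ι → F)), Sep Q → ∀ (v₀ : ι → F), Q v₀ ≠ 0 →
  ∀ (s g₀ : ↥(Cfsg.Geo.quadSimilarityGroup (F := F) ⇑Q)),
    (s : GL ι F) ∈ Cfsg.isometryGroup F ⇑Q → ∀ r : ℕ, Odd r → (r : F) ≠ 0 → s ^ r = 1 →
    ∃ δ : ↥(Cfsg.Geo.quadSimilarityGroup (F := F) ⇑Q), δ * s = s * δ ∧ mu Q δ = mu Q g₀

/-- [FIX] If the isometry `s` (`s ^ r = 1`, `r ≠ 0` in `F`) fixes a nonzero vector, then it fixes
a NONSINGULAR vector `u`, and the reflection in `u` commutes with `s`.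
Sketch: `v ≠ 0` fixed; pick `w` with `polar w v ≠ 0` (`Sep`); `u₁ := Σ_{i<r} s^i w` is fixed and
`polar u₁ v = r * polar w v ≠ 0`; one of `v, u₁, u₁ + v` has `Q ≠ 0`.  For `u` fixed,
`reflE Q u (s x) = s (reflE Q u x)` since `polar (s x) u = polar (s x) (s u) = polar x u`. -/
def FixRefl : Prop := ∀ (F : Type u) [Field F] [Fintype F] (ι : Type) [Fintype ι] [DecidableEq ι]
  (Q : QuadraticForm F (ι → F)), (2 : F) ≠ 0 → Sep Q →
  ∀ (s : ↥(Cfsg.Geo.quadSimilarityGroup (F := F) ⇑Q)),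
    (s : GL ι F) ∈ Cfsg.isometryGroup F ⇑Q → ∀ r : ℕ, (r : F) ≠ 0 → s ^ r = 1 →
    (∃ v : ι → F, v ≠ 0 ∧ ((s : GL ι F) : Matrix ι ι F) *ᵥ v = v) →
    ∃ u : ι → F, Q u ≠ 0 ∧ rfl' Q u * s = s * rfl' Q u

/-- [DARB] Darboux normal form of an invertible alternating matrix (from landed S0752):
after a base change `P` and a reindexing `e` it is the standard `Matrix.J`. -/
def Darboux : Prop := ∀ (F : Type u) [Field F] (ι : Type) [Fintype ι] [DecidableEq ι]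
  (A : Matrix ι ι F) (k : ℕ), (2 : F) ≠ 0 → Aᵀ = -A → A.det ≠ 0 → Fintype.card ι = 2 * k →
  ∃ (e : ι ≃ Fin k ⊕ Fin k) (P : Matrix ι ι F), P.det ≠ 0 ∧
    (Pᵀ * A * P).submatrix e.symm e.symm = Matrix.J (Fin k) F

/-- [SPD] A similitude of the standard symplectic form has determinant `ν ^ k`
(from Mathlib's `Matrix.SymplecticGroup.det_eq_one`: with `d := fromBlocks (ν • 1) 0 0 1`,
`dᵀ * J * d = ν • J`, so `D * d⁻¹` is symplectic). -/
def SympSimDet : Prop := ∀ (F : Type u) [Field F] (k : ℕ)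
  (D : Matrix (Fin k ⊕ Fin k) (Fin k ⊕ Fin k) F) (ν : F), ν ≠ 0 →
  Dᵀ * Matrix.J (Fin k) F * D = ν • Matrix.J (Fin k) F → D.det = ν ^ k

/-- [ALT] A similitude of an invertible alternating matrix has determinant `ν ^ k`
(`Darboux` + `SympSimDet`: `D' := (P⁻¹ * D * P).submatrix e.symm e.symm`). -/
def AltSimDet : Prop := ∀ (F : Type u) [Field F] (ι : Type) [Fintype ι] [DecidableEq ι]
  (A D : Matrix ι ι F) (ν : F) (k : ℕ), (2 : F) ≠ 0 → Aᵀ = -A → A.det ≠ 0 → ν ≠ 0 →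
  Fintype.card ι = 2 * k → Dᵀ * A * D = ν • A → D.det = ν ^ k

/-- [NOFIX] If the isometry `s` of odd order fixes no nonzero vector, every similarity `δ`
commuting with `s` has `det δ = mu(δ) ^ k`.
Sketch: `S, D` the matrices of `s, δ`, `B` the Gram matrix of `polar Q` (symmetric, invertible),
`Sᵀ B S = B`, `Dᵀ B D = ν B`.  `A := B * (S - S⁻¹)` satisfies `Aᵀ = -A`, `Dᵀ A D = ν A`
(`D` commutes with `S`), and `A` is invertible: `S - S⁻¹ = S⁻¹ (S - 1)(S + 1)`, `S - 1` injective by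
hypothesis, `S + 1` injective as `S v = -v` gives `v = S^r v = -v`.  Apply `AltSimDet`. -/
def NoFixDet : Prop := ∀ (F : Type u) [Field F] [Fintype F] (ι : Type) [Fintype ι] [DecidableEq ι]
  (Q : QuadraticForm F (ι → F)), (2 : F) ≠ 0 → Sep Q → ∀ (k : ℕ), Fintype.card ι = 2 * k →
  ∀ (v₀ : ι → F) (hv₀ : Q v₀ ≠ 0) (s δ : ↥(Cfsg.Geo.quadSimilarityGroup (F := F) ⇑Q)),
    (s : GL ι F) ∈ Cfsg.isometryGroup F ⇑Q → ∀ r : ℕ, Odd r → s ^ r = 1 →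
    (∀ v : ι → F, ((s : GL ι F) : Matrix ι ι F) *ᵥ v = v → v = 0) → δ * s = s * δ →
    dl Q hv₀ k δ = 1

/-- [PO] The image of the isometry group: a similarity with square multiplier induces an element
of `poAut`, and `poAut ≤ pgoAut`.
Sketch: as `pso_eq` in `Helper45.OmegaAut` (`induced_iff`); for `mu g = c * c` the similarity
`g * (sc c)⁻¹` is an isometry with the same `Phi` (`Phi_eq_one_of_scalar`). -/
def PoMem : Prop := ∀ (F : Type u) [Field F] [Fintype F] (ι : Type) [Fintype ι] [DecidableEq ι]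
  (Q : QuadraticForm F (ι → F)), (∀ (v₀ : ι → F), Q v₀ ≠ 0 →
    ∀ g : ↥(Cfsg.Geo.quadSimilarityGroup (F := F) ⇑Q), IsSquare (mu Q g) →
      Phi ⇑Q g ∈ Cfsg.poAut F ⇑Q) ∧ Cfsg.poAut F ⇑Q ≤ Cfsg.pgoAut F ⇑Q

/-- [COS] The coset reduction in `pgoAut`: if `δ` has non-square multiplier then every element of
`pgoAut` lies in `poAut` or in `poAut * Phi δ`.
Sketch: `h = Phi g`; if `mu g` is a square use `PoMem`; else `mu (g * δ⁻¹)` is a square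
(`chi_eq_one_iff`: `chi h2 : Fˣ →* Multiplicative (ZMod 2)` with `chi a = 1 ↔ IsSquare a`). -/
def PgoCoset : Prop := ∀ (F : Type u) [Field F] [Fintype F] (ι : Type) [Fintype ι] [DecidableEq ι]
  (Q : QuadraticForm F (ι → F)), (2 : F) ≠ 0 → ∀ (v₀ : ι → F), Q v₀ ≠ 0 →
  ∀ δ : ↥(Cfsg.Geo.quadSimilarityGroup (F := F) ⇑Q), ¬ IsSquare (mu Q δ) →
  ∀ h : MulAut (Cfsg.POmega F ⇑Q), h ∈ Cfsg.pgoAut F ⇑Q →
    h ∈ Cfsg.poAut F ⇑Q ∨ h * (Phi ⇑Q δ)⁻¹ ∈ Cfsg.poAut F ⇑Q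

/-- [GEN] If `D0 / Inn` is cyclic of order 2 or 4 and `δ ∈ G0` has non-square multiplier, then
`D0 = Inn * ⟨Phi δ⟩`.
Sketch: `φ (Phi δ)` is not a square in `ZMod n` (else `Phi δ ∈ Inn * z * z` with `z = Phi g ∈ D0`,
and `Inn ≤ psoAut`, `Phi (g * g) ∈ psoAut` by `psi_eq_one_iff_pso`/`psi_eq_one_iff`, so
`Phi δ ∈ psoAut`, i.e. `psi δ = 1`, so `mu δ` is a square); a non-square of `ZMod 2`, `ZMod 4`
generates (`decide`); so `φ h = φ (Phi δ) ^ j` and `h * (Phi δ)⁻¹ ^ j ∈ φ.ker = Inn`. -/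
def CycGen : Prop := ∀ (F : Type u) [Field F] [Fintype F] (ι : Type) [Fintype ι] [DecidableEq ι]
  (Q : QuadraticForm F (ι → F)) (h2 : (2 : F) ≠ 0) (hS : Sep Q) (k : ℕ)
  (hk : Fintype.card ι = 2 * k) (hn : 5 ≤ Fintype.card ι) (v₀ : ι → F) (hv₀ : Q v₀ ≠ 0),
  ((∃ φ : ↥(D0 Q hv₀ k) →* Multiplicative (ZMod 4), Function.Surjective φ ∧
      φ.ker = (Cfsg.Inn (Cfsg.POmega F ⇑Q)).subgroupOf (D0 Q hv₀ k)) ∨
    (∃ φ : ↥(D0 Q hv₀ k) →* Multiplicative (ZMod 2), Function.Surjective φ ∧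
      φ.ker = (Cfsg.Inn (Cfsg.POmega F ⇑Q)).subgroupOf (D0 Q hv₀ k))) →
  ∀ δ : ↥(Cfsg.Geo.quadSimilarityGroup (F := F) ⇑Q), ¬ IsSquare (mu Q δ) → dl Q hv₀ k δ = 1 →
  ∀ h : MulAut (Cfsg.POmega F ⇑Q), h ∈ D0 Q hv₀ k →
    ∃ j : ℕ, h * ((Phi ⇑Q δ)⁻¹) ^ j ∈ Cfsg.Inn (Cfsg.POmega F ⇑Q)

/-- [PSO] `psoAut ≤ D0` (`pso_eq`, `psi_so`, `psi_eq_one_iff`). -/
def PsoLe : Prop := ∀ (F : Type u) [Field F] [Fintype F] (ι : Type) [Fintype ι] [DecidableEq ι]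
  (Q : QuadraticForm F (ι → F)) (h2 : (2 : F) ≠ 0) (hS : Sep Q) (k : ℕ)
  (hk : Fintype.card ι = 2 * k) (v₀ : ι → F) (hv₀ : Q v₀ ≠ 0),
  Cfsg.psoAut F ⇑Q ≤ D0 Q hv₀ k

end Cfsg.Agent.Lib.Helper44.SMStmt
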