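import Mathlib
import Cfsg.Agent.Lib.Helper44.SMStmt
import Cfsg.Agent.Lib.Helper44.OCls2
import Cfsg.Agent.Lib.Helper44.OExt

set_option autoImplicit false

/-! Piece statements for S2720 (plus type: class fusion of semisimple elements of odd prime
order).  On top of the pieces of `SMStmt` (S2721) one needs, when `D0 / Inn` is a four-group, an
element of `SO ∖ Ω` commuting with the given isometry `s` of odd prime order `r`.  If `s` fixes a
nonzero vector this is `r_u r_{δ u}`; otherwise it is found in a BLOCK MODEL of `s`: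
`s` is conjugate (by `OCls1.conj_of_charpoly`) to a block sum `s₁ ⊕ s₂` on an orthogonal sum of two
spaces, `s₁` having characteristic polynomial `cW P` (`P` irreducible); on the first block one takes
either `-1` (block dimension `≡ 0 mod 4`) or the commutator of an isometry inverting `s₁` with a
similarity commuting with `s₁` (block dimension `≡ 2 mod 4`).

All pieces are stated for matrices `S` and quadratic forms `Q` on `ι → F`;
`qN N u = u ⬝ᵥ N *ᵥ u` (`Helper44.OExt`), `Real r c` (`Helper44.OCls2`),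
`rstar (RingHom.id F) P` = monic reciprocal polynomial (`Helper40.RecipPoly`). -/

namespace Cfsg.Agent.Lib.Helper44.SPStmt

open Matrix Polynomial
open Cfsg.Agent.Lib.Helper44.QSpace Cfsg.Agent.Lib.Helper44.OGroup Cfsg.Agent.Lib.Helper44.OMat
open Cfsg.Agent.Lib.Helper44.OExt Cfsg.Agent.Lib.Helper44.OCls2
open Cfsg.Agent.Lib.Helper40.RecipPoly
open Cfsg.Agent.Lib.Helper45.OmegaAut Cfsg.Agent.Lib.Helper45.OmegaAutPsi
open Cfsg.Agent.Lib.Helper45.OmegaAutMain Cfsg.Agent.Lib.Helper45.OmegaInndiag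

universe u

open Classical in
/-- The characteristic polynomial of the minimal block attached to an irreducible `P`:
`P` itself if `P` is self-reciprocal, `P * P^*` otherwise. -/
noncomputable def cW {F : Type u} [Field F] (P : F[X]) : F[X] :=
  if rstar (RingHom.id F) P = P then P else P * rstar (RingHom.id F) P

/-- `vs` is a list of nonsingular vectors of EVEN length with NON-SQUARE product of values whose
product of reflections COMMUTES with the matrix `S`. -/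
def GoodList {F : Type u} [Field F] {ι : Type} [Fintype ι] [DecidableEq ι]
    (Q : QuadraticForm F (ι → F)) (S : Matrix ι ι F) (vs : List (ι → F)) : Prop :=
  (∀ v ∈ vs, Q v ≠ 0) ∧ Even vs.length ∧ ¬ IsSquare (vs.map (fun v => Q v)).prod ∧
    ∀ x : ι → F, (vs.map (reflE Q)).prod (S *ᵥ x) = S *ᵥ ((vs.map (reflE Q)).prod x)

/-! ### Group theory -/

/-- [V4GEN] `D0 / Inn` a four-group, `δ ∈ G0` with non-square multiplier, `e ∈ psoAut ∖ Inn`:
`D0 = Inn * ⟨Phi δ⟩ * ⟨e⟩`.  (`φ (Phi δ)`, `φ e` are distinct and `≠ 1`: `Phi δ ∉ psoAut` by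
`psi_eq_one_iff_pso`/`psi_eq_one_iff`, `Inn ≤ psoAut ≤ D0` (`PsoLe`); then `decide` in
`Multiplicative (ZMod 2 × ZMod 2)`.) -/
def V4Gen : Prop := ∀ (F : Type u) [Field F] [Fintype F] (ι : Type) [Fintype ι] [DecidableEq ι]
  (Q : QuadraticForm F (ι → F)) (h2 : (2 : F) ≠ 0) (hS : Sep Q) (k : ℕ)
  (hk : Fintype.card ι = 2 * k) (hn : 5 ≤ Fintype.card ι) (v₀ : ι → F) (hv₀ : Q v₀ ≠ 0),
  (∃ φ : ↥(D0 Q hv₀ k) →* Multiplicative (ZMod 2 × ZMod 2), Function.Surjective φ ∧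
      φ.ker = (Cfsg.Inn (Cfsg.POmega F ⇑Q)).subgroupOf (D0 Q hv₀ k)) →
  ∀ δ : ↥(Cfsg.Geo.quadSimilarityGroup (F := F) ⇑Q), ¬ IsSquare (mu Q δ) → dl Q hv₀ k δ = 1 →
  ∀ e : MulAut (Cfsg.POmega F ⇑Q), e ∈ Cfsg.psoAut F ⇑Q → e ∉ Cfsg.Inn (Cfsg.POmega F ⇑Q) →
  ∀ h : MulAut (Cfsg.POmega F ⇑Q), h ∈ D0 Q hv₀ k →
    ∃ a b : ℕ, h * ((Phi ⇑Q δ)⁻¹) ^ a * (e⁻¹) ^ b ∈ Cfsg.Inn (Cfsg.POmega F ⇑Q)

/-- [NOTINN] If `-1 ∈ Ω`, an isometry `h` of determinant `1` outside `Ω` induces an element of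
`psoAut ∖ Inn`.  (As in `Helper45.OmegaInndiag.t_not_inn`: `pso_eq`, `inn_eq`,
`scalar_of_Phi_eq_one`, a scalar isometry is `±1`.) -/
def NotInn : Prop := ∀ (F : Type u) [Field F] [Fintype F] (ι : Type) [Fintype ι] [DecidableEq ι]
  (Q : QuadraticForm F (ι → F)), (2 : F) ≠ 0 → Sep Q → 5 ≤ Fintype.card ι →
  (∃ g : ↥(Cfsg.isometryGroup F ⇑Q), g ∈ Cfsg.Omega F ⇑Q ∧
      ((g : GL ι F) : Matrix ι ι F) = -1) →
  ∀ h : ↥(Cfsg.isometryGroup F ⇑Q), Matrix.GeneralLinearGroup.det (h : GL ι F) = 1 →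
    h ∉ Cfsg.Omega F ⇑Q →
    Phi ⇑Q ⟨(h : GL ι F), iso_le_GO ⇑Q h.2⟩ ∈ Cfsg.psoAut F ⇑Q ∧
    Phi ⇑Q ⟨(h : GL ι F), iso_le_GO ⇑Q h.2⟩ ∉ Cfsg.Inn (Cfsg.POmega F ⇑Q)

/-! ### The element of `SO ∖ Ω` commuting with `s` -/

/-- [EXTRA] An isometry `S` of odd prime order `r ≠ p` without nonzero fixed vectors commutes
with a product of an even number of reflections of non-square spinor norm.
(`ModelIso` + `BlockElt`: `vs := vs₁.map (fun v => J (Sum.elim v 0))`.) -/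
def Extra : Prop := ∀ (F : Type u) [Field F] [Fintype F] (p : ℕ) [Fact p.Prime] [CharP F p]
  (ι : Type) [Fintype ι] [DecidableEq ι] (Q : QuadraticForm F (ι → F)), (2 : F) ≠ 0 → Sep Q →
  ∀ k : ℕ, Fintype.card ι = 2 * (k + 1) → ∀ (S : Matrix ι ι F) (r : ℕ), r.Prime → r ≠ 2 →
  r ≠ p → S ^ r = 1 → (∀ u, Q (S *ᵥ u) = Q u) → (∀ v : ι → F, S *ᵥ v = v → v = 0) →
  ∃ vs : List (ι → F), GoodList Q S vs

/-- [V4X] The extra element in the four-group case: if `-1 ∈ Ω`, `s` is an isometry of odd prime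
order and `δ` a similarity commuting with `s` with non-square multiplier, some `e` commuting with
`s` induces an element of `psoAut ∖ Inn`.
(`s` fixes `v ≠ 0`: `FixRefl` gives `u`, `e := rfl' Q u * (δ * rfl' Q u * δ⁻¹)`, `t_not_inn`,
`exists_so_elt`, `pso_eq'`.  Otherwise `Extra` gives `vs`; `h := (isoEquiv Q).symm
((vs.map (refl Q)).prod)` has determinant `1` (`det_of_prod`), is not in `Ω`
(`mem_omega_iff_of_mulVec`), commutes with `s`; `NotInn`.) -/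
def V4Extra : Prop := ∀ (F : Type u) [Field F] [Fintype F] (p : ℕ) [Fact p.Prime] [CharP F p]
  (ι : Type) [Fintype ι] [DecidableEq ι] (Q : QuadraticForm F (ι → F)), (2 : F) ≠ 0 → Sep Q →
  ∀ k : ℕ, Fintype.card ι = 2 * k → 5 ≤ Fintype.card ι →
  (∃ g : ↥(Cfsg.isometryGroup F ⇑Q), g ∈ Cfsg.Omega F ⇑Q ∧
      ((g : GL ι F) : Matrix ι ι F) = -1) →
  ∀ (s δ : ↥(Cfsg.Geo.quadSimilarityGroup (F := F) ⇑Q)),
    (s : GL ι F) ∈ Cfsg.isometryGroup F ⇑Q → ∀ r : ℕ, r.Prime → r ≠ 2 → r ≠ p → s ^ r = 1 →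
    δ * s = s * δ → ¬ IsSquare (mu Q δ) →
    ∃ e : ↥(Cfsg.Geo.quadSimilarityGroup (F := F) ⇑Q), e * s = s * e ∧
      Phi ⇑Q e ∈ Cfsg.psoAut F ⇑Q ∧ Phi ⇑Q e ∉ Cfsg.Inn (Cfsg.POmega F ⇑Q)

/-! ### The block model -/

/-- [NOFX] No nonzero fixed vector iff `X - 1` does not divide the characteristic polynomial. -/
def NoFixIff : Prop := ∀ (F : Type u) [Field F] (ι : Type) [Fintype ι] [DecidableEq ι]
  (S : Matrix ι ι F), (∀ v : ι → F, S *ᵥ v = v → v = 0) ↔ ¬ (X - C (1 : F)) ∣ S.charpoly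

/-- [CHARF] The characteristic polynomial of an isometry `S` with `S ^ r = 1`: self-reciprocal,
and its irreducible factors divide `X ^ r - 1`.  (`OCls1.rstar_charpoly_iso`; the irreducible
factors of the characteristic polynomial divide the minimal polynomial, which divides
`X ^ r - 1`.) -/
def CharFacts : Prop := ∀ (F : Type u) [Field F] (ι : Type) [Fintype ι] [DecidableEq ι]
  (Q : QuadraticForm F (ι → F)), Sep Q → ∀ (S : Matrix ι ι F) (r : ℕ), 0 < r → S ^ r = 1 →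
  (∀ u, Q (S *ᵥ u) = Q u) →
  rstar (RingHom.id F) S.charpoly = S.charpoly ∧
    ∀ P : F[X], Irreducible P → P ∣ S.charpoly → P ∣ X ^ r - C (1 : F)

/-- [MODA] Splitting off a minimal block from the characteristic polynomial `c` of `S`: `c = cW P *
c'` with both factors realised (`Real`).  (`c` is monic, self-reciprocal, without the factor
`X - 1`, a product of irreducible factors of `X ^ r - 1` (`CharFacts`, `NoFixIff`).  Take an
irreducible monic `P ∣ c`.  If `rstar P = P`: `Real r P` by `OCls2.real_irr`.  Otherwise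
`P * rstar P ∣ c` (both divide the self-reciprocal `c`, coprime), and `Real r (P * rstar P)` by
`OCls2.real_hyp` applied to a matrix with characteristic polynomial `P` (as in the proof of
`real_irr`).  `c'` is again monic self-reciprocal, so `Real r c'` by `OCls3.setup` (last clause,
`c' ∈ D S _`, no factor `X - 1`).) -/
def ModA : Prop := ∀ (F : Type u) [Field F] [Fintype F] (p : ℕ) [Fact p.Prime] [CharP F p]
  (ι : Type) [Fintype ι] [DecidableEq ι] (Q : QuadraticForm F (ι → F)), Sep Q →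
  0 < Fintype.card ι → ∀ (S : Matrix ι ι F) (r : ℕ), r.Prime → r ≠ 2 → r ≠ p → S ^ r = 1 →
  (∀ u, Q (S *ᵥ u) = Q u) → (∀ v : ι → F, S *ᵥ v = v → v = 0) →
  ∃ P c' : F[X], Irreducible P ∧ P.Monic ∧ P ∣ X ^ r - C (1 : F) ∧ P ≠ X - C 1 ∧
    S.charpoly = cW P * c' ∧ Real r (cW P) ∧ Real r c'

/-- [ISO] A nondegenerate space with an isometry `S` of odd prime order without fixed vectors is
isometric to any orthogonal sum `qN N₁ ⊥ qN N₂` carrying an isometry of order `r` with the same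
characteristic polynomial.  (`OTyp3.obs_matrix` for both spaces: the number of singular vectors
is determined by `k`, `r`; then `OTyp1.exists_iso`; as in the proof of `hreal` in `S2674`.
The sum is `qN (fromBlocks N₁ 0 0 N₂)` with isometry `fromBlocks s₁ 0 0 s₂`.) -/
def IsoEx : Prop := ∀ (F : Type u) [Field F] [Fintype F] (p : ℕ) [Fact p.Prime] [CharP F p]
  (ι : Type) [Fintype ι] [DecidableEq ι] (Q : QuadraticForm F (ι → F)), Sep Q →
  ∀ k : ℕ, Fintype.card ι = 2 * (k + 1) → ∀ (S : Matrix ι ι F) (r : ℕ), r.Prime → r ≠ 2 →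
  r ≠ p → S ^ r = 1 → (∀ u, Q (S *ᵥ u) = Q u) → ¬ (X - C (1 : F)) ∣ S.charpoly →
  ∀ (ι₁ : Type) [Fintype ι₁] [DecidableEq ι₁] (s₁ N₁ : Matrix ι₁ ι₁ F)
    (ι₂ : Type) [Fintype ι₂] [DecidableEq ι₂] (s₂ N₂ : Matrix ι₂ ι₂ F),
    s₁ ^ r = 1 → s₁ᵀ * N₁ * s₁ = N₁ → (N₁ + N₁ᵀ).det ≠ 0 →
    s₂ ^ r = 1 → s₂ᵀ * N₂ * s₂ = N₂ → (N₂ + N₂ᵀ).det ≠ 0 →
    S.charpoly = s₁.charpoly * s₂.charpoly →
    ∃ j : (ι₁ ⊕ ι₂ → F) ≃ₗ[F] (ι → F),
      ∀ u : ι₁ ⊕ ι₂ → F, Q (j u) = qN N₁ (u ∘ Sum.inl) + qN N₂ (u ∘ Sum.inr)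

/-- [CONJ] Correcting a linear isometry `j` so that it intertwines two isometries of odd order
with the same characteristic polynomial.  (`OCls1.conj_of_charpoly` applied to `S` and the matrix
of `j ∘ S' ∘ j⁻¹`; `J := g ∘ j`.) -/
def ConjIso : Prop := ∀ (F : Type u) [Field F] [Fintype F] (ι : Type) [Fintype ι]
  [DecidableEq ι] (Q : QuadraticForm F (ι → F)), Sep Q → ∀ (S : Matrix ι ι F) (r : ℕ), Odd r →
  (r : F) ≠ 0 → S ^ r = 1 → (∀ u, Q (S *ᵥ u) = Q u) →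
  ∀ (ι' : Type) [Fintype ι'] [DecidableEq ι'] (S' : Matrix ι' ι' F)
    (j : (ι' → F) ≃ₗ[F] (ι → F)), S' ^ r = 1 → (∀ u, Q (j (S' *ᵥ u)) = Q (j u)) →
    S'.charpoly = S.charpoly →
    ∃ J : (ι' → F) ≃ₗ[F] (ι → F), (∀ u, Q (J u) = Q (j u)) ∧ ∀ u, J (S' *ᵥ u) = S *ᵥ (J u)

/-- [MODEL] The block model of `S` (`NoFixIff` + `ModA` + `IsoEx` + `ConjIso`, with
`S' := fromBlocks s₁ 0 0 s₂`, `S' *ᵥ u = Sum.elim (s₁ *ᵥ (u ∘ Sum.inl)) (s₂ *ᵥ (u ∘ Sum.inr))`). -/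
def ModelIso : Prop := ∀ (F : Type u) [Field F] [Fintype F] (p : ℕ) [Fact p.Prime] [CharP F p]
  (ι : Type) [Fintype ι] [DecidableEq ι] (Q : QuadraticForm F (ι → F)), (2 : F) ≠ 0 → Sep Q →
  ∀ k : ℕ, Fintype.card ι = 2 * (k + 1) → ∀ (S : Matrix ι ι F) (r : ℕ), r.Prime → r ≠ 2 →
  r ≠ p → S ^ r = 1 → (∀ u, Q (S *ᵥ u) = Q u) → (∀ v : ι → F, S *ᵥ v = v → v = 0) →
  ∃ (P : F[X]) (ι₁ : Type) (_ : Fintype ι₁) (_ : DecidableEq ι₁) (s₁ N₁ : Matrix ι₁ ι₁ F)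
    (ι₂ : Type) (_ : Fintype ι₂) (_ : DecidableEq ι₂) (s₂ N₂ : Matrix ι₂ ι₂ F)
    (J : (ι₁ ⊕ ι₂ → F) ≃ₗ[F] (ι → F)),
    Irreducible P ∧ P.Monic ∧ P ∣ X ^ r - C (1 : F) ∧ P ≠ X - C 1 ∧
    s₁.charpoly = cW P ∧ s₁ ^ r = 1 ∧ s₁ᵀ * N₁ * s₁ = N₁ ∧ (N₁ + N₁ᵀ).det ≠ 0 ∧
    (∀ u : ι₁ ⊕ ι₂ → F, Q (J u) = qN N₁ (u ∘ Sum.inl) + qN N₂ (u ∘ Sum.inr)) ∧
    (∀ u : ι₁ ⊕ ι₂ → F,
      J (Sum.elim (s₁ *ᵥ (u ∘ Sum.inl)) (s₂ *ᵥ (u ∘ Sum.inr))) = S *ᵥ (J u))

/-! ### The element inside a block -/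

/-- [EVEN] A space with an isometry of odd order without fixed vectors has even dimension
(`A := (N + Nᵀ) * (s - s⁻¹)` is invertible and `Aᵀ = -A`, so `det A = (-1)^n det A`). -/
def EvenCard : Prop := ∀ (F : Type u) [Field F] (ι : Type) [Fintype ι] [DecidableEq ι]
  (s N : Matrix ι ι F), (2 : F) ≠ 0 → sᵀ * N * s = N → (N + Nᵀ).det ≠ 0 → ∀ r : ℕ, Odd r →
  s ^ r = 1 → (∀ v : ι → F, s *ᵥ v = v → v = 0) → Even (Fintype.card ι)

/-- [SELFREC] An irreducible factor of even degree of `X ^ r - 1` is self-reciprocal.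
(`S2568.cyclo_facts`: the degree is `i = orderOf (q : ZMod r)`; `i` even gives
`r ∣ q ^ (i / 2) + 1`; `Helper40.RecipPoly.rstar_eq_iff` with `φ = id`, `q₀ = 1 = p ^ 0`.) -/
def SelfRec : Prop := ∀ (F : Type u) [Field F] [Fintype F] (p : ℕ) [Fact p.Prime] [CharP F p]
  (r : ℕ), r.Prime → r ≠ p → ∀ P : F[X], Irreducible P → P.Monic → P ∣ X ^ r - C (1 : F) →
  P ≠ X - C 1 → Even P.natDegree → rstar (RingHom.id F) P = P

/-- [INV] An isometry of odd order prime to the characteristic is inverted by an isometry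
(`s⁻¹ = G⁻¹ sᵀ G` is `GL`-conjugate to `s`; `Helper44.OConj.conj_core`). -/
def InvEx : Prop := ∀ (F : Type u) [Field F] [Fintype F] (ι : Type) [Fintype ι] [DecidableEq ι]
  (Q : QuadraticForm F (ι → F)), Sep Q → ∀ (s : ↥(Cfsg.isometryGroup F ⇑Q)) (r : ℕ), Odd r →
  (r : F) ≠ 0 → s ^ r = 1 → ∃ g : ↥(Cfsg.isometryGroup F ⇑Q), g * s = s⁻¹ * g

/-- [INVDET] An isometry `g` inverting an isometry `s` of odd order without fixed vectors has
determinant `(-1) ^ k` (`2k` the dimension): with `B` the Gram matrix and `A := B * (S - S⁻¹)`,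
`Aᵀ = -A`, `A` invertible and `Gᵀ * A * G = -A`; `AltSimDet` with `ν = -1`. -/
def InvDet : Prop := ∀ (F : Type u) [Field F] [Fintype F] (ι : Type) [Fintype ι]
  [DecidableEq ι] (Q : QuadraticForm F (ι → F)), (2 : F) ≠ 0 → Sep Q → ∀ k : ℕ,
  Fintype.card ι = 2 * k → ∀ (s g : ↥(Cfsg.isometryGroup F ⇑Q)) (r : ℕ), Odd r → s ^ r = 1 →
  (∀ v : ι → F, ((s : GL ι F) : Matrix ι ι F) *ᵥ v = v → v = 0) → g * s = s⁻¹ * g →
  ((g : GL ι F) : Matrix ι ι F).det = (-1) ^ k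

/-- [SIMEX] A nondegenerate quadratic space of even dimension over a finite field of odd
characteristic has a similarity with non-square multiplier (`exists_nonsquare_unit`; `ν⁻¹ • Q` has
the same number of singular vectors as `Q`, so `OTyp1.exists_iso`; then
`Helper45.OmegaAutSim.exists_sim_of_linear`). -/
def SimEx : Prop := ∀ (F : Type u) [Field F] [Fintype F] (ι : Type) [Fintype ι] [DecidableEq ι]
  (Q : QuadraticForm F (ι → F)), (2 : F) ≠ 0 → Sep Q → ∀ k : ℕ, Fintype.card ι = 2 * (k + 1) →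
  ∃ g : ↥(Cfsg.Geo.quadSimilarityGroup (F := F) ⇑Q), ¬ IsSquare (mu Q g)

/-- [CLIST] The commutator of an isometry `g` of determinant `-1` with a similarity `δ` with
non-square multiplier is a product of an even number of reflections with non-square product of
values.  (Cartan–Dieudonné `Omega2.cdp_of_two_ne_zero`: `g = ∏ reflE uⱼ`, an odd number by
`ODet.det_of_prod`; `δ ∘ reflE u ∘ δ⁻¹ = reflE (δ u)` (`OmegaAutKer.sim_reflE`);
`vs := us ++ (us.map (δ *ᵥ ·)).reverse`, `∏ Q = ν ^ k * (∏ Q uⱼ) ^ 2`.) -/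
def CommList : Prop := ∀ (F : Type u) [Field F] [Fintype F] (ι : Type) [Fintype ι]
  [DecidableEq ι] (Q : QuadraticForm F (ι → F)), (2 : F) ≠ 0 → Sep Q →
  ∀ (g : ↥(Cfsg.isometryGroup F ⇑Q)) (δ : ↥(Cfsg.Geo.quadSimilarityGroup (F := F) ⇑Q)),
    ((g : GL ι F) : Matrix ι ι F).det = -1 → ¬ IsSquare (mu Q δ) →
    ∃ vs : List (ι → F), (∀ v ∈ vs, Q v ≠ 0) ∧ Even vs.length ∧
      ¬ IsSquare (vs.map (fun v => Q v)).prod ∧
      ∀ x : ι → F, (vs.map (reflE Q)).prod x =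
        ((g : GL ι F) : Matrix ι ι F) *ᵥ (((δ : GL ι F) : Matrix ι ι F) *ᵥ
          ((((g⁻¹ : ↥(Cfsg.isometryGroup F ⇑Q)) : GL ι F) : Matrix ι ι F) *ᵥ
            ((((δ⁻¹ : ↥(Cfsg.Geo.quadSimilarityGroup (F := F) ⇑Q)) : GL ι F) : Matrix ι ι F) *ᵥ x)))

/-- [BLKB] Blocks of dimension `2 k₁`, `k₁` odd: `g` inverting `S` (`InvEx`) has determinant `-1`
(`InvDet`), `δ` commutes with `S` and has non-square multiplier (`SimEx`, `Comm`); the commutator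
`g δ g⁻¹ δ⁻¹` commutes with `S` and is given by `CommList`. -/
def BlockOdd : Prop := ∀ (F : Type u) [Field F] [Fintype F] (ι : Type) [Fintype ι]
  [DecidableEq ι] (Q : QuadraticForm F (ι → F)), (2 : F) ≠ 0 → Sep Q →
  ∀ (S : Matrix ι ι F) (r : ℕ), Odd r → (r : F) ≠ 0 → S ^ r = 1 → (∀ u, Q (S *ᵥ u) = Q u) →
  (∀ v : ι → F, S *ᵥ v = v → v = 0) → ∀ k₁ : ℕ, Fintype.card ι = 2 * k₁ → Odd k₁ →
  ∃ vs : List (ι → F), GoodList Q S vs

/-- [ORTH] An orthogonal basis as a list: the product of the reflections is `-1`, and the product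
of the values is the Gram determinant up to a nonzero square.
(`LinearMap.BilinForm.exists_orthogonal_basis`; `ReflProd.prod_reflE_basis`; with `M` the matrix
of the basis, `Mᵀ (N + Nᵀ) M = diagonal (2 * Q bⱼ)`.) -/
def OrthList : Prop := ∀ (F : Type u) [Field F] (ι : Type) [Fintype ι] [DecidableEq ι]
  (N : Matrix ι ι F), (2 : F) ≠ 0 → (N + Nᵀ).det ≠ 0 → Even (Fintype.card ι) →
  ∃ vs : List (ι → F), (∀ v ∈ vs, qN N v ≠ 0) ∧ vs.length = Fintype.card ι ∧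
    (∀ x : ι → F, (vs.map (reflE (qN N))).prod x = -x) ∧
    ∃ c : F, c ≠ 0 ∧ (vs.map (fun v => qN N v)).prod = c ^ 2 * (N + Nᵀ).det

/-- [DISCSQ] The discriminant formula: for an isometry `s` of odd order without fixed vectors,
`det (N + Nᵀ) * (c(1) * c(-1))` is a nonzero square, `c` the characteristic polynomial.
(`A := (N + Nᵀ) * (s - s⁻¹)` is alternating and invertible, so `det A` is a nonzero square by
`Darboux`; `det (s - s⁻¹) = det s⁻¹ * det (s - 1) * det (s + 1)`, `det s = 1`,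
`det (s - 1) * det (s + 1) = c(1) * c(-1)` (`Matrix.eval_charpoly`, even size).) -/
def DiscSq : Prop := ∀ (F : Type u) [Field F] (ι : Type) [Fintype ι] [DecidableEq ι]
  (s N : Matrix ι ι F), (2 : F) ≠ 0 → sᵀ * N * s = N → (N + Nᵀ).det ≠ 0 → ∀ r : ℕ, Odd r →
  s ^ r = 1 → (∀ v : ι → F, s *ᵥ v = v → v = 0) →
  ∃ c : F, c ≠ 0 ∧ (N + Nᵀ).det * (s.charpoly.eval 1 * s.charpoly.eval (-1)) = c ^ 2

/-- [NORM1] `P(1) * P(-1)` is the norm of `x⁻¹ - x` in `F[x] = F[X]/(P)` (`P` monic irreducible of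
even degree dividing `X ^ r - 1`, `r` prime): `P(c) = N(c - x)` (characteristic polynomial of
multiplication by `x`), `N(1 - x) N(-1 - x) = N(x² - 1) = N(x) N(x - x⁻¹)`, even degree for the
signs; `N(x) = 1`: `N(x) ^ r = 1`, and if `N(x) ≠ 1` then `F` contains a primitive `r`-th root of
unity, `X ^ r - 1` splits over `F` and `P` would be linear. -/
def Norm1 : Prop := ∀ (F : Type u) [Field F] [Fintype F] (P : F[X]) [Fact (Irreducible P)],
  P.Monic → Even P.natDegree → ∀ r : ℕ, r.Prime → P ∣ X ^ r - C (1 : F) →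
  P.eval 1 * P.eval (-1) = Algebra.norm F ((AdjoinRoot.root P)⁻¹ - AdjoinRoot.root P)

/-- [NORM2] For `P` irreducible of degree `2e`, `e` even, dividing `X ^ r - 1` (`r` an odd prime
`≠ p`, `P ≠ X - 1`), the norm of `ε := x⁻¹ - x` is a non-square of `F`: `2e = orderOf (q : ZMod r)`
(`S2568.cyclo_facts`), so `q ^ e ≡ -1 (mod r)`, `x ^ (q ^ e) = x⁻¹`, `ε ^ (q ^ e) = -ε`, `ε ≠ 0`;
`N(ε) = ε ^ ((q ^ (2e) - 1) / (q - 1))` (`FiniteField.algebraMap_norm_eq_pow`), hence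
`N(ε) ^ ((q - 1) / 2) = (ε ^ (q ^ e - 1)) ^ ((q ^ e + 1) / 2) = (-1) ^ ((q ^ e + 1) / 2) = -1`
as `q ^ e ≡ 1 (mod 4)`. -/
def Norm2 : Prop := ∀ (F : Type u) [Field F] [Fintype F] (p : ℕ) [Fact p.Prime] [CharP F p],
  (2 : F) ≠ 0 → ∀ r : ℕ, r.Prime → r ≠ 2 → r ≠ p → ∀ (P : F[X]) [Fact (Irreducible P)],
  P.Monic → P ∣ X ^ r - C (1 : F) → P ≠ X - C 1 → ∀ e : ℕ, P.natDegree = 2 * e → Even e →
  ¬ IsSquare (Algebra.norm F ((AdjoinRoot.root P)⁻¹ - AdjoinRoot.root P))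

/-- [BLKA] Irreducible self-reciprocal blocks of dimension `2 k₁`, `k₁` even: `-1` works.
(`OrthList` gives `vs` with product of reflections `-1` and `∏ Q = c² det (N + Nᵀ)`; `DiscSq`
gives `det (N + Nᵀ) * (P(1) P(-1)) = c'²`; `Norm1`, `Norm2`: `P(1) P(-1)` is a non-square.) -/
def BlockEven : Prop := ∀ (F : Type u) [Field F] [Fintype F] (p : ℕ) [Fact p.Prime]
  [CharP F p], (2 : F) ≠ 0 → ∀ r : ℕ, r.Prime → r ≠ 2 → r ≠ p → ∀ P : F[X], Irreducible P →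
  P.Monic → P ∣ X ^ r - C (1 : F) → P ≠ X - C 1 →
  ∀ (ι₁ : Type) [Fintype ι₁] [DecidableEq ι₁] (s₁ N₁ : Matrix ι₁ ι₁ F), s₁.charpoly = P →
    s₁ ^ r = 1 → s₁ᵀ * N₁ * s₁ = N₁ → (N₁ + N₁ᵀ).det ≠ 0 → ∀ k₁ : ℕ,
    Fintype.card ι₁ = 2 * k₁ → Even k₁ → ∃ vs : List (ι₁ → F), GoodList (qN N₁) s₁ vs

/-- [BLOCK] The element inside a minimal block.  (`s₁` has no fixed vector (`NoFixIff`; `X - 1`
does not divide `cW P`), so `card ι₁ = 2 k₁` (`EvenCard`).  `k₁` odd: `BlockOdd` for `qN N₁`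
(`sep_qN`, `qN_isom`).  `k₁` even: if `rstar P ≠ P` then `cW P = P * rstar P` has degree
`2 * deg P`, so `deg P = k₁` is even, contradicting `SelfRec`; so `cW P = P`, `BlockEven`.) -/
def BlockElt : Prop := ∀ (F : Type u) [Field F] [Fintype F] (p : ℕ) [Fact p.Prime]
  [CharP F p], (2 : F) ≠ 0 → ∀ r : ℕ, r.Prime → r ≠ 2 → r ≠ p → ∀ P : F[X], Irreducible P →
  P.Monic → P ∣ X ^ r - C (1 : F) → P ≠ X - C 1 →
  ∀ (ι₁ : Type) [Fintype ι₁] [DecidableEq ι₁] (s₁ N₁ : Matrix ι₁ ι₁ F), s₁.charpoly = cW P →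
    s₁ ^ r = 1 → s₁ᵀ * N₁ * s₁ = N₁ → (N₁ + N₁ᵀ).det ≠ 0 →
    ∃ vs : List (ι₁ → F), GoodList (qN N₁) s₁ vs

end Cfsg.Agent.Lib.Helper44.SPStmt
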