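import Mathlib
import Cfsg.Agent.Lib.Helper44.SPStmt
import Cfsg.Agent.Lib.Helper43.SPStmt

set_option autoImplicit false

/-! Piece statements for S2362 (10u): for `q` odd and `n ≥ 3` the groups `PΩ(2n+1, q)` and
`PSp(2n, q)` do not have the same set of element orders.

The distinguishing number is `p * (q ^ (n-1) + 1)` (`p` the characteristic):
* `PSp(2n, q)` has such an element: `blk u X`, `u` of order `p` in `Sp_2`, `X` of order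
  `q ^ (n-1) + 1` in `Sp_{2n-2}` (`Helper42.SpOrdC`, `SpOrdD`).
* `Ω(2n+1, q)` has none.  Let `h` be an isometry of order `p * M`, `M = q ^ m + 1`, `m = n - 1`;
  `s := h ^ p`, `u := h ^ M`, `t := s ^ (M / r)` for a primitive prime divisor `r` of
  `q ^ (2m) - 1` (Zsigmondy, landed `S2904`).  In coordinates adapted to
  `V = ker (t - 1) ⊕ range (t - 1)` (dimensions `3` and `2m`) everything commuting with `t` is
  block diagonal; `t` is irreducible on the second block, so `u` is trivial there, hence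
  nontrivial on the first, 3-dimensional, block, where `s` is then `± 1`.  If it is `-1` then
  `det s = -1`.  If it is `1`, then `s` is the extension of an isometry `s₂` of the second block of
  order `M`, `s₂ ^ (M / 2) = -1`, and a power of `s₂` acts on the `q ^ (m-1) * M` vectors of value
  `1` as an odd permutation.  In both cases `s ∉ Ω`.

All pieces are for matrices; `qN N u = u ⬝ᵥ N *ᵥ u` (`Helper44.OExt`).  A "block form" of a matrix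
`D` on `ι` with respect to `J : (Fin k₁ ⊕ Fin k₂ → F) ≃ₗ[F] (ι → F)` is
`∀ u, D *ᵥ (J u) = J (Sum.elim (D₁ *ᵥ (u ∘ Sum.inl)) (D₂ *ᵥ (u ∘ Sum.inr)))`. -/

namespace Cfsg.Agent.Lib.Helper44.BCStmt

open Matrix Polynomial
open Cfsg.Agent.Lib.Helper44.QSpace Cfsg.Agent.Lib.Helper44.OGroup Cfsg.Agent.Lib.Helper44.OMat
open Cfsg.Agent.Lib.Helper44.OExt

universe u

/-- [PSPELT] `PSp(2n, q)` has an element of order `p * (q ^ (n-1) + 1)`.
Sketch (`Helper42.SpOrdC`, `Helper42.SpOrdD`, `Helper43.SpBasic.pr`): write `n = 1 + m`;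
`X : symplecticGroup (Fin m) F` of order `M := q ^ m + 1` (`SpOrdD.torus_plus_n`);
`U := !![1, 1; 0, 1]`-type element of `symplecticGroup (Fin 1) F` (`U ^ j = 1 + j • E`);
`G := blk U X` (`blk_mem`, `blk_pow`, `blk_inj`, `blk_smul`).  `(pr G) ^ j = 1` iff
`G ^ j = c • 1` with `c * c = 1` (`pr_pow_eq_one_iff`) iff `U ^ j = c • 1` and `X ^ j = c • 1`;
the first forces `c = 1` and `p ∣ j`, then `M ∣ j`; `p` and `M` are coprime.
`SpOrdD.orderOf_eq_of_pow_iff`. -/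
def PspElt : Prop := ∀ (F : Type u) [Field F] [Fintype F] (p : ℕ) [Fact p.Prime] [CharP F p],
  p ≠ 2 → ∀ n : ℕ, 3 ≤ n → ∃ g : Cfsg.PSp n F, orderOf g = p * (Fintype.card F ^ (n - 1) + 1)

/-- [ZSIG] A primitive prime divisor of `q ^ (2m) - 1` (from `Cfsg.Agent.S2904.result`, Zsigmondy,
with `a = q`, `n = 2m ≥ 4`): `r ≠ 2` since `2 ∣ q - 1`; `r ≠ p` since `p ∣ q`; `r ∣ q ^ m + 1`
since `r ∣ (q ^ m - 1) * (q ^ m + 1)` and `r ∤ q ^ m - 1`; the order of `q` in `ZMod r` is `2m`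
(`orderOf_eq_iff`, `ZMod.natCast_eq_zero_iff`/`Nat.modEq_iff_dvd'`). -/
def Zsig : Prop := ∀ (F : Type u) [Field F] [Fintype F] (p : ℕ) [Fact p.Prime] [CharP F p],
  p ≠ 2 → ∀ m : ℕ, 2 ≤ m → ∃ r : ℕ, r.Prime ∧ r ≠ 2 ∧ r ≠ p ∧ r ∣ Fintype.card F ^ m + 1 ∧
    orderOf ((Fintype.card F : ℕ) : ZMod r) = 2 * m

/-- [SPLIT] Coordinates adapted to `ker (T - 1) ⊕ range (T - 1)` for `T ^ r = 1`, `r ≠ 0` in `F`.
Sketch: `e := r⁻¹ • Σ_{i<r} T ^ i` is idempotent, `T * e = e = e * T`; `V₁ := ker (T - 1) = range e`,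
`W := ker e`, `IsCompl V₁ W`, `W` is `T`-stable and `T` fixes no nonzero vector of `W`.  Bases of
`V₁` and `W` (`Module.finBasis`) give `J` (`Submodule.prodEquivOfIsCompl`, `Basis.equivFun`,
`LinearEquiv.sumArrowLequivProdArrow`); `T₂` is the matrix of `T` restricted to `W`. -/
def Split : Prop := ∀ (F : Type u) [Field F] (ι : Type) [Fintype ι] [DecidableEq ι]
  (T : Matrix ι ι F) (r : ℕ), 0 < r → (r : F) ≠ 0 → T ^ r = 1 →
  ∃ (k₁ k₂ : ℕ) (T₂ : Matrix (Fin k₂) (Fin k₂) F) (J : (Fin k₁ ⊕ Fin k₂ → F) ≃ₗ[F] (ι → F)),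
    (∀ v : Fin k₂ → F, T₂ *ᵥ v = v → v = 0) ∧
    (∀ u : Fin k₁ ⊕ Fin k₂ → F,
      T *ᵥ (J u) = J (Sum.elim (u ∘ Sum.inl) (T₂ *ᵥ (u ∘ Sum.inr))))

/-- [FORMS] The quadratic form in the coordinates of `Split`, for an isometry `T`.
Sketch: `Split` gives `J`, `T₂`.  The two blocks are orthogonal: `T₂ - 1` is injective hence
surjective, so `J (0, w) = (T - 1) (J (0, w'))`, and for `x = J (v, 0)` (fixed by `T`)
`polar x ((T - 1) y) = polar (T x) (T y) - polar x y = 0`.  Hence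
`Q (J u) = Q (J (u₁, 0)) + Q (J (0, u₂))`.  `N₁ i j := 2⁻¹ * polar (J (e_i, 0)) (J (e_j, 0))`
(symmetric), then `qN N₁ v = 2⁻¹ * polar x x = Q x` for `x = J (v, 0)`; same for `N₂`.
`N₁ + N₁ᵀ` is the Gram matrix of the first block; it is nondegenerate because a vector of the first
block orthogonal to the first block is orthogonal to everything (`Sep Q`).  `T₂ ^ r = 1` and the
invariance of `qN N₂` under `T₂` follow from the intertwining relation. -/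
def Decomp : Prop := ∀ (F : Type u) [Field F] (ι : Type) [Fintype ι] [DecidableEq ι]
  (Q : QuadraticForm F (ι → F)), (2 : F) ≠ 0 → Sep Q → ∀ (T : Matrix ι ι F) (r : ℕ), 0 < r →
  (r : F) ≠ 0 → T ^ r = 1 → (∀ u, Q (T *ᵥ u) = Q u) →
  ∃ (k₁ k₂ : ℕ) (N₁ : Matrix (Fin k₁) (Fin k₁) F) (N₂ T₂ : Matrix (Fin k₂) (Fin k₂) F)
    (J : (Fin k₁ ⊕ Fin k₂ → F) ≃ₗ[F] (ι → F)),
    (N₁ + N₁ᵀ).det ≠ 0 ∧ (N₂ + N₂ᵀ).det ≠ 0 ∧ T₂ ^ r = 1 ∧
    (∀ v : Fin k₂ → F, qN N₂ (T₂ *ᵥ v) = qN N₂ v) ∧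
    (∀ v : Fin k₂ → F, T₂ *ᵥ v = v → v = 0) ∧
    (∀ u : Fin k₁ ⊕ Fin k₂ → F, Q (J u) = qN N₁ (u ∘ Sum.inl) + qN N₂ (u ∘ Sum.inr)) ∧
    (∀ u : Fin k₁ ⊕ Fin k₂ → F,
      T *ᵥ (J u) = J (Sum.elim (u ∘ Sum.inl) (T₂ *ᵥ (u ∘ Sum.inr))))

/-- [BLOCKDIAG] A matrix commuting with `T` is block diagonal in the coordinates of `Split`.
Sketch: `D' := LinearMap.toMatrix' (J.symm ∘ D ∘ J) = fromBlocks A B C E`; commuting with
`fromBlocks 1 0 0 T₂` gives `B * T₂ = B`, `C = T₂ * C`, `E * T₂ = T₂ * E`; `T₂ - 1` is injective,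
hence invertible (`Matrix.mulVec_injective_iff_isUnit`), so `B = 0` and `C = 0`. -/
def BlockDiag : Prop := ∀ (F : Type u) [Field F] (ι : Type) [Fintype ι] [DecidableEq ι]
  (T D : Matrix ι ι F) (k₁ k₂ : ℕ) (T₂ : Matrix (Fin k₂) (Fin k₂) F)
  (J : (Fin k₁ ⊕ Fin k₂ → F) ≃ₗ[F] (ι → F)),
  (∀ v : Fin k₂ → F, T₂ *ᵥ v = v → v = 0) →
  (∀ u : Fin k₁ ⊕ Fin k₂ → F,
    T *ᵥ (J u) = J (Sum.elim (u ∘ Sum.inl) (T₂ *ᵥ (u ∘ Sum.inr)))) →
  D * T = T * D →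
  ∃ (D₁ : Matrix (Fin k₁) (Fin k₁) F) (D₂ : Matrix (Fin k₂) (Fin k₂) F),
    (∀ u : Fin k₁ ⊕ Fin k₂ → F,
      D *ᵥ (J u) = J (Sum.elim (D₁ *ᵥ (u ∘ Sum.inl)) (D₂ *ᵥ (u ∘ Sum.inr)))) ∧
    D₂ * T₂ = T₂ * D₂

/-- [BDDET] The determinant of a matrix in block form (`LinearMap.det_conj`,
`LinearMap.det_toLin'`, `Matrix.det_fromBlocks_zero₁₂`; `D = J ∘ fromBlocks D₁ 0 0 D₂ ∘ J⁻¹`). -/
def BlockDet : Prop := ∀ (F : Type u) [Field F] (ι : Type) [Fintype ι] [DecidableEq ι]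
  (D : Matrix ι ι F) (k₁ k₂ : ℕ) (D₁ : Matrix (Fin k₁) (Fin k₁) F)
  (D₂ : Matrix (Fin k₂) (Fin k₂) F) (J : (Fin k₁ ⊕ Fin k₂ → F) ≃ₗ[F] (ι → F)),
  (∀ u : Fin k₁ ⊕ Fin k₂ → F,
    D *ᵥ (J u) = J (Sum.elim (D₁ *ᵥ (u ∘ Sum.inl)) (D₂ *ᵥ (u ∘ Sum.inr)))) →
  D.det = D₁.det * D₂.det

/-- [BLOCKFACTS] Bookkeeping for block forms: powers, commutation, isometries.
(Apply the block form to `J (Sum.elim v 0)` and `J (Sum.elim 0 w)`; `J` is injective;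
`Cfsg.Agent.Lib.Helper44.OMat.matrix_ext_mulVec`; induction for powers.) -/
def BlockFacts : Prop := ∀ (F : Type u) [Field F] (ι : Type) [Fintype ι] [DecidableEq ι]
  (k₁ k₂ : ℕ) (J : (Fin k₁ ⊕ Fin k₂ → F) ≃ₗ[F] (ι → F)) (D : Matrix ι ι F)
  (D₁ : Matrix (Fin k₁) (Fin k₁) F) (D₂ : Matrix (Fin k₂) (Fin k₂) F),
  (∀ u : Fin k₁ ⊕ Fin k₂ → F,
    D *ᵥ (J u) = J (Sum.elim (D₁ *ᵥ (u ∘ Sum.inl)) (D₂ *ᵥ (u ∘ Sum.inr)))) →
  (∀ j : ℕ, (D ^ j = 1 ↔ D₁ ^ j = 1 ∧ D₂ ^ j = 1)) ∧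
  (∀ (E : Matrix ι ι F) (E₁ : Matrix (Fin k₁) (Fin k₁) F) (E₂ : Matrix (Fin k₂) (Fin k₂) F),
    (∀ u : Fin k₁ ⊕ Fin k₂ → F,
      E *ᵥ (J u) = J (Sum.elim (E₁ *ᵥ (u ∘ Sum.inl)) (E₂ *ᵥ (u ∘ Sum.inr)))) →
    D * E = E * D → D₁ * E₁ = E₁ * D₁ ∧ D₂ * E₂ = E₂ * D₂) ∧
  (∀ (Q : QuadraticForm F (ι → F)) (N₁ : Matrix (Fin k₁) (Fin k₁) F)
    (N₂ : Matrix (Fin k₂) (Fin k₂) F),
    (∀ u : Fin k₁ ⊕ Fin k₂ → F, Q (J u) = qN N₁ (u ∘ Sum.inl) + qN N₂ (u ∘ Sum.inr)) →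
    (∀ x, Q (D *ᵥ x) = Q x) →
    (∀ v : Fin k₁ → F, qN N₁ (D₁ *ᵥ v) = qN N₁ v) ∧
    (∀ v : Fin k₂ → F, qN N₂ (D₂ *ᵥ v) = qN N₂ v))

/-- [DIMS] The dimensions of the two blocks for an isometry of order `r`, `r` a primitive prime
divisor of `q ^ (2m) - 1`, of a space of dimension `2m + 3`; the second block is irreducible.
Sketch: `c := T₂.charpoly`; its irreducible factors divide `X ^ r - 1` (`SPStmt.CharFacts` for
`qN N₂`, `sep_qN`) and `X - 1 ∤ c` (`SPStmt.NoFixIff`), so `2m ∣ natDegree c = k₂`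
(`Helper44.OTyp3.facts` with `i = 2m`, `t = (r - 1) / (2m)`); `0 < k₂ ≤ 2m + 3 < 4m`, so
`k₂ = 2m`.  An irreducible monic factor `P₀` of `c` divides `X ^ r - 1`, `P₀ ≠ X - 1`, so it has
degree `2m` (`OCls3.setup`/`S2568.cyclo_facts`), hence `c = P₀`. -/
def Dims : Prop := ∀ (F : Type u) [Field F] [Fintype F] (p : ℕ) [Fact p.Prime] [CharP F p]
  (r m : ℕ), r.Prime → r ≠ 2 → r ≠ p → orderOf ((Fintype.card F : ℕ) : ZMod r) = 2 * m → 2 ≤ m →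
  ∀ (k₁ k₂ : ℕ) (N₂ T₂ : Matrix (Fin k₂) (Fin k₂) F), k₁ + k₂ = 2 * m + 3 → 0 < k₂ →
  (N₂ + N₂ᵀ).det ≠ 0 → (∀ v : Fin k₂ → F, qN N₂ (T₂ *ᵥ v) = qN N₂ v) → T₂ ^ r = 1 →
  (∀ v : Fin k₂ → F, T₂ *ᵥ v = v → v = 0) →
  k₂ = 2 * m ∧ k₁ = 3 ∧ Irreducible T₂.charpoly

/-- [IRRKILL] If the characteristic polynomial of `T` is irreducible, a matrix commuting with `T`
that kills a nonzero vector is `0`.
Sketch: `I := {f : F[X] | aeval T f *ᵥ v = 0}` is an ideal containing `T.charpoly`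
(Cayley–Hamilton) and not `1`, so `I = span {charpoly}` (maximal ideal); the map
`F[X] ⧸ I → κ → F`, `f ↦ aeval T f *ᵥ v` is injective between spaces of the same dimension
(`natDegree charpoly = card κ`), hence onto; `D` kills every `aeval T f *ᵥ v`. -/
def IrrKill : Prop := ∀ (F : Type u) [Field F] (κ : Type) [Fintype κ] [DecidableEq κ]
  (T D : Matrix κ κ F), Irreducible T.charpoly → D * T = T * D →
  (∃ v : κ → F, v ≠ 0 ∧ D *ᵥ v = 0) → D = 0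

/-- [UNIPTRIV] A matrix of `p`-power order commuting with an irreducible `T` is trivial:
`(U - 1) ^ p = U ^ p - 1 = 0` (`sub_pow_char_of_commute`), so `U - 1` is not injective
(`Matrix.exists_mulVec_eq_zero_iff`; `κ` is nonempty); `IrrKill`. -/
def UnipTriv : Prop := ∀ (F : Type u) [Field F] (p : ℕ) [Fact p.Prime] [CharP F p] (κ : Type)
  [Fintype κ] [DecidableEq κ] (T U : Matrix κ κ F), Irreducible T.charpoly → U * T = T * U →
  U ^ p = 1 → U = 1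

/-- [INVOLNEG] An involution commuting with an irreducible `T` is `-1`:
`(Z - 1) * (Z + 1) = 0`; if `Z + 1 ≠ 0` some `v = (Z + 1) *ᵥ w ≠ 0` is killed by `Z - 1`, and
`IrrKill` gives `Z = 1`. -/
def InvolNeg : Prop := ∀ (F : Type u) [Field F] (κ : Type) [Fintype κ] [DecidableEq κ]
  (T Z : Matrix κ κ F), Irreducible T.charpoly → Z * T = T * Z → Z * Z = 1 → Z ≠ 1 → Z = -1

/-- [RANK1] No orthogonal "transvections": an isometry `U` with `U - 1` nilpotent of rank at most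
one is trivial (`2 ≠ 0`).
Sketch: `R := U - 1 = vecMulVec w φ`; assume `w ≠ 0`, `φ ≠ 0`.  `R ^ k = 0` gives `φ ⬝ᵥ w = 0`
(`R ^ (j+1) = (φ ⬝ᵥ w) ^ j • R`).  `Uᵀ G U = G` gives `Rᵀ G + G R + Rᵀ G R = 0`, i.e. with
`g := G *ᵥ w`, `c := w ⬝ᵥ g`: `vecMulVec φ g + vecMulVec g φ + c • vecMulVec φ φ = 0`; applying it
to `w`: `c • φ = 0`, so `c = 0`; `g ≠ 0`, pick `i` with `g i ≠ 0`: the `(i, i)` entry gives
`2 * φ i * g i = 0`, so `φ i = 0`, then the `(j, i)` entry gives `φ j * g i = 0`: `φ = 0`. -/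
def RankOne : Prop := ∀ (F : Type u) [Field F] (κ : Type) [Fintype κ] [DecidableEq κ]
  (G U : Matrix κ κ F) (w φ : κ → F) (k : ℕ), (2 : F) ≠ 0 → Gᵀ = G → G.det ≠ 0 →
  Uᵀ * G * U = G → U - 1 = Matrix.vecMulVec w φ → (U - 1) ^ k = 0 → U = 1

/-- [CENT3] In dimension `3`: an isometry `S` of order prime to `p` commuting with a nontrivial
unipotent isometry `U` is `± 1`.
Sketch: `G := N + Nᵀ` is symmetric invertible, `Sᵀ G S = G`, `Uᵀ G U = G` (`polar_qN`).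
`R := U - 1`, `R ^ p = 0`, so `R ^ 3 = 0` (nilpotent `3 × 3`).  `R * R ≠ 0`: otherwise
`range R ≤ ker R`, so `rank R ≤ 1` (rank–nullity), `R = vecMulVec w φ`, and `RankOne` gives `U = 1`.
Take `v` with `R *ᵥ (R *ᵥ v) ≠ 0`; `v, R v, R² v` is a basis; `S v = a v + b R v + c R² v`, and
`S = a • 1 + b • R + c • R * R` (both sides commute with `R` and agree on `v`).  `a ≠ 0`.
`S ^ M = 1` with `(M : F) ≠ 0` forces `b = 0`, `c = 0` (coefficients of `R`, then `R * R`, in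
`(a + b R + c R²) ^ M`; or: the minimal polynomial of `S` divides `(X - a) ^ 3` and the separable
`X ^ M - 1`).  So `S = a • 1` and `a ^ 2 = 1` from `Sᵀ G S = G`. -/
def Cent3 : Prop := ∀ (F : Type u) [Field F] (p : ℕ) [Fact p.Prime] [CharP F p], (2 : F) ≠ 0 →
  ∀ (N S U : Matrix (Fin 3) (Fin 3) F) (M : ℕ), (N + Nᵀ).det ≠ 0 →
  (∀ v : Fin 3 → F, qN N (S *ᵥ v) = qN N v) → (∀ v : Fin 3 → F, qN N (U *ᵥ v) = qN N v) →
  S * U = U * S → U ^ p = 1 → U ≠ 1 → S ^ M = 1 → Nat.Coprime M p → S = 1 ∨ S = -1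

/-- [DETONE] An isometry commuting with an isometry `T` of odd order without fixed vectors has
determinant `1` (`Cfsg.Agent.Lib.Helper43.SMNOFIX.core` with `B := N + Nᵀ`, `ν := 1`, `S := T`,
`T := T ^ (r - 1)`, `D := S`; the Gram identities `Sᵀ B S = B` from `polar_qN`). -/
def DetOne : Prop := ∀ (F : Type u) [Field F] (κ : Type) [Fintype κ] [DecidableEq κ]
  (N T S : Matrix κ κ F) (k r : ℕ), (2 : F) ≠ 0 → Fintype.card κ = 2 * k → (N + Nᵀ).det ≠ 0 →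
  (∀ v : κ → F, qN N (T *ᵥ v) = qN N v) → (∀ v : κ → F, qN N (S *ᵥ v) = qN N v) → Odd r →
  T ^ r = 1 → (∀ v : κ → F, T *ᵥ v = v → v = 0) → S * T = T * S → S.det = 1

/-- [LEVEL] In even dimension all nonzero level sets of a nondegenerate quadratic form have the
same size.  (`c = a * a`: `x ↦ a • x`.  Otherwise `SPStmt.SimEx` gives a similarity `g` with
non-square multiplier `ν`, `c = ν * a * a` (the non-squares form one coset: `FiniteField`,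
`Helper45.OmegaAutMain.chi`), `x ↦ a • g x`.) -/
def Level : Prop := ∀ (F : Type u) [Field F] [Fintype F] (ι : Type) [Fintype ι] [DecidableEq ι]
  (Q : QuadraticForm F (ι → F)), (2 : F) ≠ 0 → Sep Q → ∀ k : ℕ, Fintype.card ι = 2 * (k + 1) →
  ∀ c : F, c ≠ 0 → Nat.card {x : ι → F // Q x = c} = Nat.card {x : ι → F // Q x = 1}

/-- [COUNT1] The number of vectors of value `1` in the irreducible block.
Sketch: `Helper44.OTyp3.obs_matrix` (`k + 1 = m`, `i = 2m`, `t = (r - 1) / (2m)`, second clause as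
`i` is even and `2m / i = 1` is odd; `¬ X - 1 ∣ charpoly` by `SPStmt.NoFixIff`) gives
`#{Q = 0} * q = q ^ m + q ^ 2 * ((q ^ (m-1) - 1) * q ^ (m-1))`; by `Level`,
`q ^ (2m) = #{Q = 0} + (q - 1) * #{Q = 1}` (fibres of `Q`). -/
def Count1 : Prop := ∀ (F : Type u) [Field F] [Fintype F] (p : ℕ) [Fact p.Prime] [CharP F p]
  (r m : ℕ), (2 : F) ≠ 0 → r.Prime → r ≠ 2 → r ≠ p →
  orderOf ((Fintype.card F : ℕ) : ZMod r) = 2 * m → 1 ≤ m →
  ∀ (κ : Type) [Fintype κ] [DecidableEq κ] (N T : Matrix κ κ F), Fintype.card κ = 2 * m →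
  (N + Nᵀ).det ≠ 0 → (∀ v : κ → F, qN N (T *ᵥ v) = qN N v) → T ^ r = 1 →
  (∀ v : κ → F, T *ᵥ v = v → v = 0) →
  Nat.card {x : κ → F // qN N x = 1} = Fintype.card F ^ (m - 1) * (Fintype.card F ^ m + 1)

/-- [SIGNODD] An isometry `g` with `g ^ (2 ^ (a+1)) = 1`, `g ^ (2 ^ a) = -1`, acting on a set
`{Q = 1}` of size an odd multiple of `2 ^ (a+1)`, is not in `Ω`.
Sketch: `Helper44.Spinor.signChar Q (isoEquiv Q g) = -1` by `Helper43.SPStmt.SignP` (the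
permutation `permHom Q 1 (isoEquiv Q g)`; `-x ≠ x` as `Q x = 1`; instances as in the definition
of `signChar`, see `Helper43.SPIrr`); `signChar` is trivial on the commutator subgroup
(`OMat.mem_omega_iff`, `Abelianization`/`commutator_le_ker`-type argument: `ℤˣ` is commutative). -/
def SignOdd : Prop := ∀ (F : Type u) [Field F] [Fintype F] (κ : Type) [Fintype κ]
  [DecidableEq κ] (Q : QuadraticForm F (κ → F)), (2 : F) ≠ 0 →
  ∀ (g : ↥(Cfsg.isometryGroup F ⇑Q)) (a : ℕ), g ^ (2 ^ (a + 1)) = 1 →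
  (((g ^ (2 ^ a) : ↥(Cfsg.isometryGroup F ⇑Q)) : GL κ F) : Matrix κ κ F) = -1 →
  2 ^ (a + 1) ∣ Nat.card {x : κ → F // Q x = 1} →
  Odd (Nat.card {x : κ → F // Q x = 1} / 2 ^ (a + 1)) → g ∉ Cfsg.Omega F ⇑Q

/-- [TRANSFER] If `s` is the extension by the identity of an isometry `s₂` of the second block and
`s ∈ Ω`, then `s₂ ∈ Ω`.
Sketch: Cartan–Dieudonné (`Helper44.Omega2.cdp_of_two_ne_zero` through `isoEquiv`, as in
`Helper2.SPCLIST`): `s₂ x = (vs₂.map (reflE (qN N₂))).prod x`; `vs := vs₂.map (fun v => J (Sum.elim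
0 v))`; `reflE Q (J (0, v)) (J u) = J (u₁, reflE (qN N₂) v u₂)` (as in `Helper8.SPEXTRA`), so
`s x = (vs.map (reflE Q)).prod x`; `OMat.mem_omega_iff_of_mulVec` for `s` and for `s₂`
(`Q (J (0, v)) = qN N₂ v`; `card ι = k₁ + k₂ ≥ 2`). -/
def Transfer : Prop := ∀ (F : Type u) [Field F] [Fintype F] (ι : Type) [Fintype ι]
  [DecidableEq ι] (Q : QuadraticForm F (ι → F)), (2 : F) ≠ 0 → Sep Q → ∀ (k₁ k₂ : ℕ)
  (N₁ : Matrix (Fin k₁) (Fin k₁) F) (N₂ : Matrix (Fin k₂) (Fin k₂) F)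
  (J : (Fin k₁ ⊕ Fin k₂ → F) ≃ₗ[F] (ι → F)), (N₂ + N₂ᵀ).det ≠ 0 → 2 ≤ k₂ →
  (∀ u : Fin k₁ ⊕ Fin k₂ → F, Q (J u) = qN N₁ (u ∘ Sum.inl) + qN N₂ (u ∘ Sum.inr)) →
  ∀ (s : ↥(Cfsg.isometryGroup F ⇑Q)) (s₂ : ↥(Cfsg.isometryGroup F ⇑(qN N₂))),
    (∀ u : Fin k₁ ⊕ Fin k₂ → F, ((s : GL ι F) : Matrix ι ι F) *ᵥ (J u)
      = J (Sum.elim (u ∘ Sum.inl)
          (((s₂ : GL (Fin k₂) F) : Matrix (Fin k₂) (Fin k₂) F) *ᵥ (u ∘ Sum.inr)))) →
    s ∈ Cfsg.Omega F ⇑Q → s₂ ∈ Cfsg.Omega F ⇑(qN N₂)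

/-- [NOELT] (assembly, helper44) `Ω(2n+1, q)` has no element of order `p * (q ^ (n-1) + 1)`. -/
def NoElt : Prop := ∀ (F : Type u) [Field F] [Fintype F] (p : ℕ) [Fact p.Prime] [CharP F p],
  p ≠ 2 → ∀ n : ℕ, 3 ≤ n → ∀ h : ↥(Cfsg.isometryGroup F (Cfsg.quadFormOdd n F)),
  orderOf h = p * (Fintype.card F ^ (n - 1) + 1) → h ∉ Cfsg.Omega F (Cfsg.quadFormOdd n F)

end Cfsg.Agent.Lib.Helper44.BCStmt
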