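import Mathlib
import Cfsg.Agent.Lib.Helper44.BCStmt

set_option autoImplicit false

/-! Piece statements for S2474 (10u): for `q` odd and `n ≥ 3` the groups `PΩ(2n+1, q)` and
`PSp(2n, q)` have the same prime graph (`r * s` is an element order of one iff of the other, for
distinct primes `r`, `s`).

Both sides are compared with arithmetic criteria (`p` the characteristic, `q = #F`;
`Tor q k r` means `r ∣ q ^ k - 1 ∨ r ∣ q ^ k + 1`):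
* `r, s` odd, `≠ p`:  `CritI q n r s`  (two blocks `k₁ + k₂ ≤ n`, or one torus `k ≤ n` for `r * s`);
* `p * s`, `s` odd `≠ p`:  `CritII q n s`  (`s` lives in a block `k ≤ n - 1`);
* `2 * p`: always;
* `2 * r`, `r` odd `≠ p`:  `CritIV q n r`  (`CritII q n r`, or `4 * r ∣ q ^ n ± 1`).

NECESSITY is proved at the level of Gram matrices (`Zᵀ * G * Z = G`, `det G ≠ 0`), simultaneously
for the orthogonal group (`G` = Gram matrix of the polar form) and the symplectic group (`G = J`),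
with the block coordinates of `BCStmt` (`Split`, `BlockDiag`, `BlockFacts`, all landed, form-free).
SUFFICIENCY is by torus elements in blocks: `Helper42.SpOrdC.exists_torus_minus/plus`, `blk` on the
symplectic side; `OTorMinus`, `OTorPlus`, `BlockSum`, `OEmbed` on the orthogonal side; an isometry
of odd order, or the square of any isometry, lies in `Ω` (`SqMem`). -/

namespace Cfsg.Agent.Lib.Helper44.PGStmt

open Matrix Polynomial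
open Cfsg.Agent.Lib.Helper44.QSpace Cfsg.Agent.Lib.Helper44.OGroup Cfsg.Agent.Lib.Helper44.OMat
open Cfsg.Agent.Lib.Helper44.OExt Cfsg.Agent.Lib.Helper40.RecipPoly

universe u

/-! ### Vocabulary -/

/-- `r` divides the order `q ^ k - 1` or `q ^ k + 1` of a cyclic torus of rank `k`. -/
def Tor (q k r : ℕ) : Prop := r ∣ q ^ k - 1 ∨ r ∣ q ^ k + 1

def CritI (q n r s : ℕ) : Prop :=
  (∃ k₁ k₂ : ℕ, 1 ≤ k₁ ∧ 1 ≤ k₂ ∧ k₁ + k₂ ≤ n ∧ Tor q k₁ r ∧ Tor q k₂ s) ∨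
  (∃ k : ℕ, 1 ≤ k ∧ k ≤ n ∧ Tor q k (r * s))

def CritII (q n s : ℕ) : Prop := ∃ k : ℕ, 1 ≤ k ∧ k + 1 ≤ n ∧ Tor q k s

def CritIV (q n r : ℕ) : Prop := CritII q n r ∨ Tor q n (4 * r)

/-- `Ω(2n+1, q)` has an element of order `k`. -/
def HasB (F : Type u) [Field F] (n k : ℕ) : Prop :=
  ∃ g : ↥(Cfsg.isometryGroup F (Cfsg.quadFormOdd n F)),
    g ∈ Cfsg.Omega F (Cfsg.quadFormOdd n F) ∧ orderOf g = k

/-- `PΩ(2n+1, q)` has an element of order `k`. -/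
def HasPB (F : Type u) [Field F] (n k : ℕ) : Prop :=
  k ∈ Set.range (orderOf : Cfsg.POmega F (Cfsg.quadFormOdd n F) → ℕ)

/-- `PSp(2n, q)` has an element of order `k`. -/
def HasPC (F : Type u) [Field F] (n k : ℕ) : Prop :=
  k ∈ Set.range (orderOf : Cfsg.PSp n F → ℕ)

/-! ### Gram-level toolkit (necessity) -/

/-- [GDEC] `BCStmt.Decomp` for an arbitrary nondegenerate bilinear form with Gram matrix `G`.
Sketch: `BCStmt.Split` gives `k₁ k₂ T₂ J`.  `G₁ i j := (J (e_i, 0)) ⬝ᵥ G *ᵥ (J (e_j, 0))`, same for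
`G₂`.  The blocks are orthogonal on both sides: `T₂ - 1` is injective hence surjective, so
`J (0, w) = (T - 1) (J (0, w'))`, and for `x = J (v, 0)` (fixed by `T`), with `B a b := a ⬝ᵥ G *ᵥ b`:
`B x ((T - 1) y) = B (T x) (T y) - B x y = 0` and `B ((T - 1) y) x = 0` the same way.  The Gram
matrix in the coordinates `J` is `Pᵀ G P = fromBlocks G₁ 0 0 G₂` (`P` the matrix of `J`), so both
determinants are nonzero.  (Template: `Helper43.BCFORMS`.) -/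
def GDecomp : Prop := ∀ (F : Type u) [Field F] (ι : Type) [Fintype ι] [DecidableEq ι]
  (G T : Matrix ι ι F) (r : ℕ), G.det ≠ 0 → Tᵀ * G * T = G → 0 < r → (r : F) ≠ 0 → T ^ r = 1 →
  ∃ (k₁ k₂ : ℕ) (G₁ : Matrix (Fin k₁) (Fin k₁) F) (G₂ T₂ : Matrix (Fin k₂) (Fin k₂) F)
    (J : (Fin k₁ ⊕ Fin k₂ → F) ≃ₗ[F] (ι → F)),
    G₁.det ≠ 0 ∧ G₂.det ≠ 0 ∧ T₂ᵀ * G₂ * T₂ = G₂ ∧ T₂ ^ r = 1 ∧
    (∀ v : Fin k₂ → F, T₂ *ᵥ v = v → v = 0) ∧
    (∀ u w : Fin k₁ ⊕ Fin k₂ → F, (J u) ⬝ᵥ G *ᵥ (J w)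
      = (u ∘ Sum.inl) ⬝ᵥ G₁ *ᵥ (w ∘ Sum.inl) + (u ∘ Sum.inr) ⬝ᵥ G₂ *ᵥ (w ∘ Sum.inr)) ∧
    (∀ u : Fin k₁ ⊕ Fin k₂ → F,
      T *ᵥ (J u) = J (Sum.elim (u ∘ Sum.inl) (T₂ *ᵥ (u ∘ Sum.inr)))) ∧
    (Gᵀ = -G → G₁ᵀ = -G₁ ∧ G₂ᵀ = -G₂) ∧ (Gᵀ = G → G₁ᵀ = G₁ ∧ G₂ᵀ = G₂)

/-- [GBF] The blocks of a block-diagonal isometry are isometries of the blocks.
(Apply the hypotheses to `J (Sum.elim v 0)`, `J (Sum.elim 0 w)`; `Matrix.ext` through
`Pi.single`; `dotProduct_mulVec`/`mulVec_dot`.) -/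
def GBlockFacts : Prop := ∀ (F : Type u) [Field F] (ι : Type) [Fintype ι] [DecidableEq ι]
  (k₁ k₂ : ℕ) (J : (Fin k₁ ⊕ Fin k₂ → F) ≃ₗ[F] (ι → F)) (G D : Matrix ι ι F)
  (G₁ D₁ : Matrix (Fin k₁) (Fin k₁) F) (G₂ D₂ : Matrix (Fin k₂) (Fin k₂) F),
  (∀ u w : Fin k₁ ⊕ Fin k₂ → F, (J u) ⬝ᵥ G *ᵥ (J w)
      = (u ∘ Sum.inl) ⬝ᵥ G₁ *ᵥ (w ∘ Sum.inl) + (u ∘ Sum.inr) ⬝ᵥ G₂ *ᵥ (w ∘ Sum.inr)) →
  (∀ u : Fin k₁ ⊕ Fin k₂ → F,
    D *ᵥ (J u) = J (Sum.elim (D₁ *ᵥ (u ∘ Sum.inl)) (D₂ *ᵥ (u ∘ Sum.inr)))) →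
  Dᵀ * G * D = G → D₁ᵀ * G₁ * D₁ = G₁ ∧ D₂ᵀ * G₂ * D₂ = G₂

/-- [FO1] If all "eigenvalues" of `Z` have order exactly `K`, the root of an irreducible factor
`f` of the characteristic polynomial has order `K` in the field `AdjoinRoot f`.
Sketch: there is `v ≠ 0` with `aeval Z f *ᵥ v = 0`
(`Helper40.SSConj.exists_ker_of_dvd_charpoly`, as in `Helper40.RecipPoly.dvd_of_mem_nf_charpoly'`).
`f ∣ X ^ K - 1` (else `1 = a f + b (X ^ K - 1)` kills `v`), so `root ^ K = 1`.  If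
`root ^ j = 1` then `f ∣ X ^ j - 1`, so `Z ^ j` fixes `v`.  If `o := orderOf root ≠ K`, pick a
prime `ℓ ∣ K / o`; `o ∣ K / ℓ`, so `Z ^ (K / ℓ)` fixes `v`: contradiction. -/
def RootOrd : Prop := ∀ (F : Type u) [Field F] [Fintype F] (κ : Type) [Fintype κ] [DecidableEq κ]
  (Z : Matrix κ κ F) (K : ℕ), 0 < K → Z ^ K = 1 →
  (∀ ℓ : ℕ, ℓ.Prime → ℓ ∣ K → ∀ v : κ → F, (Z ^ (K / ℓ)) *ᵥ v = v → v = 0) →
  ∀ f : F[X], Irreducible f → f ∣ Z.charpoly →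
    ∀ j : ℕ, (AdjoinRoot.root f) ^ j = 1 ↔ K ∣ j

/-- [FO2] Arithmetic consequences.
Sketch: `E := AdjoinRoot f` is a field with `q ^ d` elements, `d = natDegree f`
(`Helper42.SpOrdB.card_adjoinRoot`); `ω := root f` has order `K` in `Eˣ` (`RootOrd`), so
`K ∣ q ^ d - 1`.  If `f ∣ rstar f`: `ω⁻¹` is a root of `f` (`rstar f = C _ * f.reverse`;
`f.reverse` vanishes at `ω⁻¹`; `f`, `rstar f` irreducible of the same degree, so associated);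
`Helper40.RecipPoly.root_eq_pow`: `ω⁻¹ = ω ^ (q ^ k)`, w.l.o.g. `k < d` (`ω ^ (q ^ d) = ω`);
`k ≠ 0` as `K > 2`; `ω ^ (q ^ (2k)) = ω`, so every element of `E = F[ω]` is fixed by
`y ↦ y ^ (q ^ (2k))` (`Helper40.RecipPoly.aeval_pow_card`) and also by `y ↦ y ^ (q ^ d)`; hence
`2 * k = d` (`Helper42.SpOrdB.card_le_of_frob` applied to `t = 2k` and, if `2k > d`, to
`t = 2k - d`); `ω ^ (q ^ k + 1) = 1`. -/
def RootDvd : Prop := ∀ (F : Type u) [Field F] [Fintype F] (κ : Type) [Fintype κ] [DecidableEq κ]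
  (Z : Matrix κ κ F) (K : ℕ), 0 < K → Z ^ K = 1 →
  (∀ ℓ : ℕ, ℓ.Prime → ℓ ∣ K → ∀ v : κ → F, (Z ^ (K / ℓ)) *ᵥ v = v → v = 0) →
  ∀ f : F[X], Irreducible f → f ∣ Z.charpoly →
    K ∣ Fintype.card F ^ f.natDegree - 1 ∧
    (2 < K → f ∣ rstar (RingHom.id F) f →
      Even f.natDegree ∧ K ∣ Fintype.card F ^ (f.natDegree / 2) + 1)

/-- [FO3] A non-self-reciprocal irreducible factor of a self-reciprocal polynomial comes with its
reciprocal.  (`rstar_mul`: `rstar f ∣ rstar c = c`; `rstar_irreducible`, `coeff0_of_dvd`,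
`rstar_natDegree`; two non-associated irreducibles are coprime.) -/
def PairDvd : Prop := ∀ (F : Type u) [Field F] (c f : F[X]), c.Monic → c.coeff 0 ≠ 0 →
  rstar (RingHom.id F) c = c → Irreducible f → f ∣ c → ¬ f ∣ rstar (RingHom.id F) f →
  f * rstar (RingHom.id F) f ∣ c ∧ (rstar (RingHom.id F) f).natDegree = f.natDegree

/-- [TORB] An isometry all of whose eigenvalues have order exactly `K > 2` lives in a torus of
rank `k` with `2k ≤ dim`.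
Sketch: `c := Z.charpoly` is monic of degree `card κ > 0`, `c.coeff 0 ≠ 0` (`Z` invertible),
`rstar c = c` (`Z⁻¹ = G⁻¹ Zᵀ G` has the same characteristic polynomial;
`Helper44.OCls1.rstar_charpoly_inv`).  Take an irreducible factor `f`.  If `f ∣ rstar f`:
`k := natDegree f / 2` (`RootDvd`).  Otherwise `f * rstar f ∣ c` (`PairDvd`), `k := natDegree f`. -/
def GTorBound : Prop := ∀ (F : Type u) [Field F] [Fintype F] (κ : Type) [Fintype κ]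
  [DecidableEq κ] (G Z : Matrix κ κ F) (K : ℕ), 0 < Fintype.card κ → G.det ≠ 0 →
  Zᵀ * G * Z = G → 2 < K → Z ^ K = 1 →
  (∀ ℓ : ℕ, ℓ.Prime → ℓ ∣ K → ∀ v : κ → F, (Z ^ (K / ℓ)) *ᵥ v = v → v = 0) →
  ∃ k : ℕ, 1 ≤ k ∧ 2 * k ≤ Fintype.card κ ∧ Tor (Fintype.card F) k K

/-- [PT] A nontrivial isometry of odd prime order `r ≠ p`.
(`GDecomp` for `Y`; `k₂ > 0` as `Y ≠ 1` (as in `BCFin.core`); `GTorBound` for `T₂`, `K = r`;
`k₁ + k₂ = card κ` by `J.finrank_eq`.) -/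
def PrimeTor : Prop := ∀ (F : Type u) [Field F] [Fintype F] (p : ℕ) [Fact p.Prime] [CharP F p]
  (κ : Type) [Fintype κ] [DecidableEq κ] (G Y : Matrix κ κ F) (r : ℕ), G.det ≠ 0 →
  Yᵀ * G * Y = G → r.Prime → r ≠ 2 → r ≠ p → Y ^ r = 1 → Y ≠ 1 →
  ∃ k : ℕ, 1 ≤ k ∧ 2 * k ≤ Fintype.card κ ∧ Tor (Fintype.card F) k r

/-- [SQFU] A matrix of `p`-power order commuting with `T` is trivial when `T.charpoly` is
squarefree (generalises `BCStmt.UnipTriv`).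
Sketch: `D := U - 1`, `D ^ p = 0`.  If `D ≠ 0`: `I := {g | aeval T g * D = 0}` is a proper ideal
containing `T.charpoly`; its generator `m` is squarefree; `m = f * m'` with `f` irreducible;
`E := aeval T m' * D ≠ 0` is nilpotent, commutes with `T`, `aeval T f * E = 0`.  `W := range E` and
`ker E ⊇ range (E ^ j) ≠ 0` are `T`-invariant and killed by `aeval T f`, and `V / ker E ≅ W`; so
`f * f ∣ T.charpoly`.  (Or: primary decomposition `V = ⨁ ker (aeval T fᵢ)`, each summand of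
dimension `natDegree fᵢ`, and `BCStmt.IrrKill` on each summand.) -/
def SqfreeUnip : Prop := ∀ (F : Type u) [Field F] (p : ℕ) [Fact p.Prime] [CharP F p] (κ : Type)
  [Fintype κ] [DecidableEq κ] (T U : Matrix κ κ F), Squarefree T.charpoly → U * T = T * U →
  U ^ p = 1 → U = 1

/-- [ALTEVEN] `det G = det Gᵀ = (-1) ^ n * det G`. -/
def AltEven : Prop := ∀ (F : Type u) [Field F] (κ : Type) [Fintype κ] [DecidableEq κ]
  (G : Matrix κ κ F), (2 : F) ≠ 0 → Gᵀ = -G → G.det ≠ 0 → Even (Fintype.card κ)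

/-- [GNEC1] Necessity for `r * s` (`r`, `s` odd, prime to `p`).
Sketch: `T := x ^ s`, `Y := x ^ r` (`T ^ j = 1 ↔ r ∣ j`, `Y ^ j = 1 ↔ s ∣ j`).  `GDecomp` for
`T`; `BlockDiag`: `Y = (Y₁, Y₂)`; `GBlockFacts`, `BlockFacts`.  `k₂ > 0`.
If `Y₁ ≠ 1`: `PrimeTor` for `Y₁` on `G₁` (`2 k' ≤ k₁`) and `GTorBound` for `T₂`, `K = r`
(`2 k'' ≤ k₂`): first alternative.  If `Y₁ = 1`: the same with the roles exchanged (`GDecomp` for
`Y`, `T = (T₁', T₂')`); if `T₁' ≠ 1` first alternative again.  Otherwise `Y₂` has no nonzero fixed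
vector (`Y₂ w = w` ⇒ `v := J (0, w)` is fixed by `Y`, so `v = J' (u₁, 0)`, so `T v = v`, so
`T₂ w = w`), and `Z := T₂ * Y₂` satisfies the hypotheses of `GTorBound` with `K = r * s`
(`Z ^ s = T₂ ^ s`, `Z ^ r = Y₂ ^ r`, powers prime to the order have the same fixed vectors). -/
def GNecI : Prop := ∀ (F : Type u) [Field F] [Fintype F] (p : ℕ) [Fact p.Prime] [CharP F p]
  (ι : Type) [Fintype ι] [DecidableEq ι] (G x : Matrix ι ι F) (r s : ℕ), (2 : F) ≠ 0 →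
  G.det ≠ 0 → xᵀ * G * x = G → r.Prime → s.Prime → r ≠ s → r ≠ 2 → s ≠ 2 → r ≠ p → s ≠ p →
  (∀ j : ℕ, x ^ j = 1 ↔ r * s ∣ j) →
  (∃ k₁ k₂ : ℕ, 1 ≤ k₁ ∧ 1 ≤ k₂ ∧ 2 * (k₁ + k₂) ≤ Fintype.card ι ∧
      Tor (Fintype.card F) k₁ r ∧ Tor (Fintype.card F) k₂ s) ∨
  (∃ k : ℕ, 1 ≤ k ∧ 2 * k ≤ Fintype.card ι ∧ Tor (Fintype.card F) k (r * s))

/-- [GNEC2] Necessity for `p * s` (`s` odd, prime to `p`).
Sketch: by contradiction assume `(*)`: no `k ≥ 1` with `Tor q k s` and `2k + 2 ≤ card ι`.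
`T := x ^ p` (order `s`), `U := x ^ s` (order `p`).  `GDecomp` for `T`, `k₂ > 0`; `GTorBound`
(`K = s`) and `(*)` give `k₂ ≥ card ι - 1`, so `k₁ ≤ 1`.  `U = (U₁, U₂)` (`BlockDiag`,
`BlockFacts`); `U₁ ^ p = 1` with `k₁ ≤ 1` gives `U₁ = 1` (a scalar `a` with `a ^ p = 1` is `1`),
so `U₂ ≠ 1`.  By `SqfreeUnip`, `c := T₂.charpoly` is not squarefree: `f * f ∣ c`, `f` irreducible,
`2 * natDegree f ≤ k₂`.  `RootDvd` (`K = s`): `Tor q (natDegree f) s`, so by `(*)`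
`2 * natDegree f ≥ card ι - 1 ≥ k₂ - 1`.  If `f ∣ rstar f`: `natDegree f` is even and
`Tor q (natDegree f / 2) s`, so `natDegree f ≥ card ι - 1`: impossible.  Otherwise
`(rstar f) ^ 2 ∣ rstar c = c` (`rstar_mul`, `rstar c = c` as in `GTorBound`) and `f`, `rstar f`
are coprime, so `4 * natDegree f ≤ k₂`: impossible. -/
def GNecII : Prop := ∀ (F : Type u) [Field F] [Fintype F] (p : ℕ) [Fact p.Prime] [CharP F p]
  (ι : Type) [Fintype ι] [DecidableEq ι] (G x : Matrix ι ι F) (s : ℕ), (2 : F) ≠ 0 →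
  G.det ≠ 0 → xᵀ * G * x = G → s.Prime → s ≠ 2 → s ≠ p → (∀ j : ℕ, x ^ j = 1 ↔ p * s ∣ j) →
  ∃ k : ℕ, 1 ≤ k ∧ 2 * k + 2 ≤ Fintype.card ι ∧ Tor (Fintype.card F) k s

/-! ### Orthogonal side -/

/-- [CNT1P] `BCStmt.Count1` in the hyperbolic case (`orderOf q` odd): `Helper44.OTyp3.obs_matrix`,
first clause (`k + 1 = m`, `i = m`, `t = (r - 1) / m`), gives
`#{Q = 0} * q = q ^ (m + 1) + (q ^ m - 1) * q ^ m`; then `BCStmt.Level` and the fibres of `Q` as in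
`Helper43.BCCOUNT1`. -/
def Count1Plus : Prop := ∀ (F : Type u) [Field F] [Fintype F] (p : ℕ) [Fact p.Prime] [CharP F p]
  (r m : ℕ), (2 : F) ≠ 0 → r.Prime → r ≠ 2 → r ≠ p →
  orderOf ((Fintype.card F : ℕ) : ZMod r) = m → Odd m →
  ∀ (κ : Type) [Fintype κ] [DecidableEq κ] (N T : Matrix κ κ F), Fintype.card κ = 2 * m →
  (N + Nᵀ).det ≠ 0 → (∀ v : κ → F, qN N (T *ᵥ v) = qN N v) → T ^ r = 1 →
  (∀ v : κ → F, T *ᵥ v = v → v = 0) →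
  Nat.card {x : κ → F // qN N x = 1} = Fintype.card F ^ (m - 1) * (Fintype.card F ^ m - 1)

/-- [OTM] Split torus: an isometry of order exactly `K ∣ q ^ k - 1` of a `2k`-dimensional space.
Sketch: `A : Matrix (Fin k) (Fin k) F` with `A ^ j = 1 ↔ K ∣ j` (multiplication by an element of
order `K` of `FiniteField.Extension F p k` in a basis, as in `Helper42.SpOrdC.exists_torus_minus`);
`κ := Fin k ⊕ Fin k`, `N := fromBlocks 0 1 0 0`, `s := fromBlocks A 0 0 (A⁻¹)ᵀ`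
(as in `Helper44.OCls2.real_hyp`). -/
def OTorMinus : Prop := ∀ (F : Type u) [Field F] [Fintype F], (2 : F) ≠ 0 → ∀ (k K : ℕ), 1 ≤ k →
  K ∣ Fintype.card F ^ k - 1 → ∃ (κ : Type) (_ : Fintype κ) (_ : DecidableEq κ)
    (N s : Matrix κ κ F), Fintype.card κ = 2 * k ∧ (N + Nᵀ).det ≠ 0 ∧
    (∀ u, qN N (s *ᵥ u) = qN N u) ∧ ∀ j : ℕ, s ^ j = 1 ↔ K ∣ j

/-- [OTP] Non-split torus: an isometry of order exactly `K ∣ q ^ k + 1` of a `2k`-dimensional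
space.  Sketch: `E := FiniteField.Extension F p (2k)`, `σ y := y ^ (q ^ k)` (an `F`-algebra
involution), `B y z := Algebra.trace F E (y * σ z)` is symmetric and nondegenerate (trace form);
`ζ ∈ Eˣ` of order `K` has `ζ * σ ζ = ζ ^ (q ^ k + 1) = 1`, so multiplication by `ζ` preserves `B`.
In a basis: `N := 2⁻¹ • Gram matrix` (symmetric, `N + Nᵀ` = Gram), `s` = matrix of the
multiplication.  (Template: `Helper42.SpOrdC.torus_plus_aux`, `exists_torus_plus`.) -/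
def OTorPlus : Prop := ∀ (F : Type u) [Field F] [Fintype F], (2 : F) ≠ 0 → ∀ (k K : ℕ), 1 ≤ k →
  K ∣ Fintype.card F ^ k + 1 → ∃ (κ : Type) (_ : Fintype κ) (_ : DecidableEq κ)
    (N s : Matrix κ κ F), Fintype.card κ = 2 * k ∧ (N + Nᵀ).det ≠ 0 ∧
    (∀ u, qN N (s *ᵥ u) = qN N u) ∧ ∀ j : ℕ, s ^ j = 1 ↔ K ∣ j

/-- [BSUM] Orthogonal direct sum of two isometries (`fromBlocks`;
`Helper44.OCls2.fromBlocks_diag_pow`, `real_mul`). -/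
def BlockSum : Prop := ∀ (F : Type u) [Field F] (κ₁ κ₂ : Type) [Fintype κ₁] [DecidableEq κ₁]
  [Fintype κ₂] [DecidableEq κ₂] (N₁ s₁ : Matrix κ₁ κ₁ F) (N₂ s₂ : Matrix κ₂ κ₂ F),
  (N₁ + N₁ᵀ).det ≠ 0 → (N₂ + N₂ᵀ).det ≠ 0 → (∀ u, qN N₁ (s₁ *ᵥ u) = qN N₁ u) →
  (∀ u, qN N₂ (s₂ *ᵥ u) = qN N₂ u) →
  ((fromBlocks N₁ 0 0 N₂ : Matrix (κ₁ ⊕ κ₂) (κ₁ ⊕ κ₂) F) + (fromBlocks N₁ 0 0 N₂)ᵀ).det ≠ 0 ∧
  (∀ u, qN (fromBlocks N₁ 0 0 N₂) ((fromBlocks s₁ 0 0 s₂ : Matrix (κ₁ ⊕ κ₂) (κ₁ ⊕ κ₂) F) *ᵥ u)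
    = qN (fromBlocks N₁ 0 0 N₂) u) ∧
  ∀ j : ℕ, (fromBlocks s₁ 0 0 s₂ : Matrix (κ₁ ⊕ κ₂) (κ₁ ⊕ κ₂) F) ^ j = 1 ↔
    (s₁ ^ j = 1 ∧ s₂ ^ j = 1)

/-- [UNIP3] A unipotent isometry in dimension `3`:
`N = !![1,0,0; 0,0,1; 0,0,0]` (`x₀² + x₁x₂`), `U = !![1,0,1; -2,1,-1; 0,0,1]`;
`(U - 1) ^ 3 = 0`, `U ^ p = 1 + (U - 1) ^ p` (`p ≥ 3`). -/
def Unip3 : Prop := ∀ (F : Type u) [Field F] (p : ℕ) [Fact p.Prime] [CharP F p], (2 : F) ≠ 0 →
  ∃ N U : Matrix (Fin 3) (Fin 3) F, (N + Nᵀ).det ≠ 0 ∧ (∀ u, qN N (U *ᵥ u) = qN N u) ∧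
    U ^ p = 1 ∧ U ≠ 1

/-- [SQMEM] The square of an isometry lies in `Ω`: the isometry group is generated by reflections
(`Helper44.Omega2.cdp_of_two_ne_zero`, `OMat.isoEquiv`), which have order `2`, so its
abelianisation has exponent `2`.  (Or `OMat.mem_omega_iff_of_mulVec` for the doubled list.) -/
def SqMem : Prop := ∀ (F : Type u) [Field F] [Fintype F] (ι : Type) [Fintype ι] [DecidableEq ι]
  (Q : QuadraticForm F (ι → F)), (2 : F) ≠ 0 → Sep Q →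
  ∀ g : ↥(Cfsg.isometryGroup F ⇑Q), g ^ 2 ∈ Cfsg.Omega F ⇑Q

/-- [OSIM] Every nondegenerate quadratic form in dimension `2n + 1` is similar to the standard
one.  Sketch: `Helper44.QClass.exists_hyp_odd`: `x`, hyperbolic pairs `e i`, `f i`; they form a
basis (`QBasis`); `Q (a • x + Σ αᵢ • eᵢ + βᵢ • fᵢ) = Q x * a² + Σ αᵢ βᵢ`; `c := (Q x)⁻¹`,
`J` = coordinates `(a, α, (Q x)⁻¹ • β)`. -/
def OSim : Prop := ∀ (F : Type u) [Field F] [Fintype F], (2 : F) ≠ 0 → ∀ (n : ℕ) (ι : Type)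
  [Fintype ι] [DecidableEq ι] (N : Matrix ι ι F), Fintype.card ι = 2 * n + 1 →
  (N + Nᵀ).det ≠ 0 → ∃ (c : F) (J : (ι → F) ≃ₗ[F] (Unit ⊕ (Fin n ⊕ Fin n) → F)), c ≠ 0 ∧
    ∀ u, Cfsg.quadFormOdd n F (J u) = c * qN N u

/-- [OEMB] Transport of an isometry of a space of dimension `≤ 2n + 1` into the isometry group of
the standard form, with the same order.  Sketch: pad with the identity on
`Fin (2n + 1 - card κ)` with form `1` (`BlockSum`, `N₂ := 1`, `s₂ := 1`); `OSim` for the sum;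
`g := J ∘ s' ∘ J⁻¹` as a matrix (`LinearMap.toMatrix'`, or `Helper42.OFinal.conjMat`), inverse
from `s ^ (order - 1)` or `J ∘ s'⁻¹ ∘ J⁻¹` (`s` is invertible: `sᵀ (N + Nᵀ) s = N + Nᵀ`,
`Helper6.BCDetOne.gram_isom`). -/
def OEmbed : Prop := ∀ (F : Type u) [Field F] [Fintype F], (2 : F) ≠ 0 → ∀ (n : ℕ) (κ : Type)
  [Fintype κ] [DecidableEq κ] (N s : Matrix κ κ F), Fintype.card κ ≤ 2 * n + 1 →
  (N + Nᵀ).det ≠ 0 → (∀ u, qN N (s *ᵥ u) = qN N u) →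
  ∃ g : ↥(Cfsg.isometryGroup F (Cfsg.quadFormOdd n F)), ∀ j : ℕ, g ^ j = 1 ↔ s ^ j = 1

/-- [CENTER] `Ω(2n+1, q)` has trivial centre, so `PΩ` has the same element orders.
(`Helper45.OmegaCenter.centralizer_odd`, `center_centralizes`, `det_of_mem_omega`: a central `z`
has matrix `±1`, and `det (-1) = -1` in odd dimension; then `QuotientGroup.mk` is injective:
`orderOf_injective`.  `Helper44.NegPairs.oddQ`, `sep_oddQ`.) -/
def BtoPB : Prop := ∀ (F : Type u) [Field F] [Fintype F], (2 : F) ≠ 0 → ∀ n : ℕ, 2 ≤ n →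
  ∀ k : ℕ, HasB F n k → HasPB F n k

def BNecI : Prop := ∀ (F : Type u) [Field F] [Fintype F] (p : ℕ) [Fact p.Prime] [CharP F p],
  p ≠ 2 → ∀ n : ℕ, 3 ≤ n → ∀ r s : ℕ, r.Prime → s.Prime → r ≠ s → r ≠ 2 → s ≠ 2 → r ≠ p →
  s ≠ p → HasB F n (r * s) → CritI (Fintype.card F) n r s

def BSufI : Prop := ∀ (F : Type u) [Field F] [Fintype F] (p : ℕ) [Fact p.Prime] [CharP F p],
  p ≠ 2 → ∀ n : ℕ, 3 ≤ n → ∀ r s : ℕ, r.Prime → s.Prime → r ≠ s → r ≠ 2 → s ≠ 2 → r ≠ p →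
  s ≠ p → CritI (Fintype.card F) n r s → HasB F n (r * s)

def BNecII : Prop := ∀ (F : Type u) [Field F] [Fintype F] (p : ℕ) [Fact p.Prime] [CharP F p],
  p ≠ 2 → ∀ n : ℕ, 3 ≤ n → ∀ s : ℕ, s.Prime → s ≠ 2 → s ≠ p →
  HasB F n (p * s) → CritII (Fintype.card F) n s

def BSufII : Prop := ∀ (F : Type u) [Field F] [Fintype F] (p : ℕ) [Fact p.Prime] [CharP F p],
  p ≠ 2 → ∀ n : ℕ, 3 ≤ n → ∀ s : ℕ, s.Prime → s ≠ 2 → s ≠ p →
  CritII (Fintype.card F) n s → HasB F n (p * s)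

def BIII : Prop := ∀ (F : Type u) [Field F] [Fintype F] (p : ℕ) [Fact p.Prime] [CharP F p],
  p ≠ 2 → ∀ n : ℕ, 3 ≤ n → HasB F n (2 * p)

/-- [BNEC4] Necessity for `2 * r` in `Ω(2n+1, q)` (`r` odd, prime to `p`).  Template:
`Helper44.BCFin.core` (landed); pieces of `BCStmt` with their landed providers.
Sketch: assume `¬ CritII q n r`.  `x ∈ Ω` of order `2r`, `T := x ^ 2`, `t := x ^ r ∈ Ω`.
`BCStmt.Decomp` for `T` (`Q := NegPairs.oddQ n F`): `k₁ + k₂ = 2n + 1`, `k₂ > 0`.  `GTorBound`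
(`G := N₂ + N₂ᵀ`, `Helper6.BCDetOne.gram_isom`, `K = r`): `2k ≤ k₂`, `Tor q k r`, so `k = n`
and `k₂ ≥ 2n`; `k₂` is even (`SPStmt.EvenCard` with `N := N₂ + N₂ᵀ`), so `k₂ = 2n`, `k₁ = 1`.
`t = (t₁, t₂)` (`BlockDiag`, `BlockFacts`), `t₂ ^ 2 = 1`.  `BCStmt.Decomp` for `t₂` on
`qN N₂` (order `2`): blocks `a + b = 2n`; `T₂ = (T_a, T_b)` fixed-point-free isometries of order
`r`; if `a > 0` and `b > 0`, `GTorBound` gives `a ≥ 2n` and `b ≥ 2n`: impossible.  So `t₂ = 1` or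
`t₂ = -1`.  `det t = 1` (`ODet.omega_le_special`), `BlockDet`: `t₁ = 1`, so `t₂ = -1` (`t ≠ 1`).
`BCStmt.Transfer`: `-1 ∈ Ω (qN N₂)`.  From `Tor q n r` and `¬ CritII`: either `r ∣ q ^ n + 1` and
`orderOf (q : ZMod r) = 2n`, or `r ∣ q ^ n - 1`, `orderOf (q : ZMod r) = n`, `n` odd.
`BCStmt.Count1` resp. `Count1Plus`: `#{qN N₂ = 1} = q ^ (n-1) * (q ^ n ± 1)`.  `BCStmt.SignOdd`
with `a = 0`: `#{qN N₂ = 1} / 2` is not odd, so `4 ∣ q ^ n ± 1`, hence `4 * r ∣ q ^ n ± 1`. -/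
def BNecIV : Prop := ∀ (F : Type u) [Field F] [Fintype F] (p : ℕ) [Fact p.Prime] [CharP F p],
  p ≠ 2 → ∀ n : ℕ, 3 ≤ n → ∀ r : ℕ, r.Prime → r ≠ 2 → r ≠ p →
  HasB F n (2 * r) → CritIV (Fintype.card F) n r

def BSufIV : Prop := ∀ (F : Type u) [Field F] [Fintype F] (p : ℕ) [Fact p.Prime] [CharP F p],
  p ≠ 2 → ∀ n : ℕ, 3 ≤ n → ∀ r : ℕ, r.Prime → r ≠ 2 → r ≠ p →
  CritIV (Fintype.card F) n r → HasB F n (2 * r)

/-! ### Symplectic side -/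

/-- [SPSUM] Block sum of two symplectic matrices, padded with the identity
(`Helper42.SpOrdC.blk`, `blk_mem`, `blk_pow`, `blk_inj`, `blk_smul`, `blk_one`,
`sp_pow_eq_one_iff`; write `n = a + b + c` and take `blk (blk X₁ X₂) 1`). -/
def SpSum : Prop := ∀ (F : Type u) [Field F] (a b n : ℕ), a + b ≤ n →
  ∀ (X₁ : Matrix.symplecticGroup (Fin a) F) (X₂ : Matrix.symplecticGroup (Fin b) F),
  ∃ Y : Matrix.symplecticGroup (Fin n) F, (∀ j : ℕ, Y ^ j = 1 ↔ (X₁ ^ j = 1 ∧ X₂ ^ j = 1)) ∧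
    (∀ (j : ℕ) (c : F), (Y : Matrix (Fin n ⊕ Fin n) (Fin n ⊕ Fin n) F) ^ j = c • 1 →
      (X₁ : Matrix (Fin a ⊕ Fin a) (Fin a ⊕ Fin a) F) ^ j = c • 1 ∧
      (X₂ : Matrix (Fin b ⊕ Fin b) (Fin b ⊕ Fin b) F) ^ j = c • 1)

def CNecI : Prop := ∀ (F : Type u) [Field F] [Fintype F] (p : ℕ) [Fact p.Prime] [CharP F p],
  p ≠ 2 → ∀ n : ℕ, 3 ≤ n → ∀ r s : ℕ, r.Prime → s.Prime → r ≠ s → r ≠ 2 → s ≠ 2 → r ≠ p →
  s ≠ p → HasPC F n (r * s) → CritI (Fintype.card F) n r s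

def CSufI : Prop := ∀ (F : Type u) [Field F] [Fintype F] (p : ℕ) [Fact p.Prime] [CharP F p],
  p ≠ 2 → ∀ n : ℕ, 3 ≤ n → ∀ r s : ℕ, r.Prime → s.Prime → r ≠ s → r ≠ 2 → s ≠ 2 → r ≠ p →
  s ≠ p → CritI (Fintype.card F) n r s → HasPC F n (r * s)

def CNecII : Prop := ∀ (F : Type u) [Field F] [Fintype F] (p : ℕ) [Fact p.Prime] [CharP F p],
  p ≠ 2 → ∀ n : ℕ, 3 ≤ n → ∀ s : ℕ, s.Prime → s ≠ 2 → s ≠ p →
  HasPC F n (p * s) → CritII (Fintype.card F) n s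

def CSufII : Prop := ∀ (F : Type u) [Field F] [Fintype F] (p : ℕ) [Fact p.Prime] [CharP F p],
  p ≠ 2 → ∀ n : ℕ, 3 ≤ n → ∀ s : ℕ, s.Prime → s ≠ 2 → s ≠ p →
  CritII (Fintype.card F) n s → HasPC F n (p * s)

def CIII : Prop := ∀ (F : Type u) [Field F] [Fintype F] (p : ℕ) [Fact p.Prime] [CharP F p],
  p ≠ 2 → ∀ n : ℕ, 3 ≤ n → HasPC F n (2 * p)

/-- [CNEC4] Necessity for `2 * r` in `PSp(2n, q)`.
Sketch: lift to `A ∈ Sp` (`Helper43.SpBasic.pr_surjective`); by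
`Helper42.SpOrdD.pr_pow_eq_one_iff`: `A ^ (2r) = c • 1`, `c * c = 1`, while `A ^ 2`, `A ^ r` are not
`± 1`.  `G := J` (`Aᵀ J A = J`: `Matrix.SymplecticGroup.transpose_mem`), `Gᵀ = -G`, `det G ≠ 0`.
Case `c = 1`: `t := A ^ r`, `t ^ 2 = 1`, `t ≠ ± 1`; `y := A ^ 2` has order `r`.  `GDecomp` for `t`
(order `2`): blocks `a + b = 2n`, both positive and even (`AltEven`), so `≤ 2n - 2`;
`y = (y_a, y_b)` (`BlockDiag`, `GBlockFacts`, `BlockFacts`); one of them is `≠ 1`; `PrimeTor`: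
`2k ≤ 2n - 2`: `CritII`.
Case `c = -1`: `y := A ^ 4` has order `r`.  If `y` fixes a nonzero vector: `GDecomp` for `y`,
`k₁ > 0` even, `GTorBound` (`K = r`) on the second block: `2k ≤ 2n - 2`: `CritII`.  Otherwise
`GTorBound` for `A` with `K = 4 * r` (`A ^ (2r) = -1` and `A ^ 4` have no nonzero fixed vectors):
`Tor q k (4r)`, `k ≤ n`; `k = n` is the second alternative, `k < n` gives `CritII`. -/
def CNecIV : Prop := ∀ (F : Type u) [Field F] [Fintype F] (p : ℕ) [Fact p.Prime] [CharP F p],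
  p ≠ 2 → ∀ n : ℕ, 3 ≤ n → ∀ r : ℕ, r.Prime → r ≠ 2 → r ≠ p →
  HasPC F n (2 * r) → CritIV (Fintype.card F) n r

def CSufIV : Prop := ∀ (F : Type u) [Field F] [Fintype F] (p : ℕ) [Fact p.Prime] [CharP F p],
  p ≠ 2 → ∀ n : ℕ, 3 ≤ n → ∀ r : ℕ, r.Prime → r ≠ 2 → r ≠ p →
  CritIV (Fintype.card F) n r → HasPC F n (2 * r)

end Cfsg.Agent.Lib.Helper44.PGStmt
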