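import Mathlib
import Cfsg.Agent.Lib.Helper44.BCStmt
import Cfsg.Agent.Lib.Helper44.NegPairs
import Cfsg.Agent.Lib.Helper44.ODet

set_option autoImplicit false

/-! Assembly for S2362 from the pieces of `BCStmt`. -/

namespace Cfsg.Agent.Lib.Helper44.BCFin

open Matrix Polynomial
open Cfsg.Agent.Lib.Helper44.QSpace Cfsg.Agent.Lib.Helper44.OGroup Cfsg.Agent.Lib.Helper44.OMat
open Cfsg.Agent.Lib.Helper44.OExt Cfsg.Agent.Lib.Helper44.BCStmt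

universe u

theorem mat_pow {F : Type u} [Field F] {ι : Type} [Fintype ι] [DecidableEq ι] (Q : (ι → F) → F)
    (g : ↥(Cfsg.isometryGroup F Q)) (k : ℕ) :
    (((g ^ k : ↥(Cfsg.isometryGroup F Q)) : GL ι F) : Matrix ι ι F)
      = ((g : GL ι F) : Matrix ι ι F) ^ k := by
  rw [Subgroup.coe_pow, Units.val_pow_eq_pow_val]

theorem mat_eq_one_iff {F : Type u} [Field F] {ι : Type} [Fintype ι] [DecidableEq ι]
    (Q : (ι → F) → F) (g : ↥(Cfsg.isometryGroup F Q)) :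
    ((g : GL ι F) : Matrix ι ι F) = 1 ↔ g = 1 := by
  constructor
  · intro hg
    apply Subtype.ext
    apply Units.ext
    simpa using hg
  · rintro rfl
    simp

theorem pow_eq_one_iff_mat {F : Type u} [Field F] {ι : Type} [Fintype ι] [DecidableEq ι]
    (Q : (ι → F) → F) (g : ↥(Cfsg.isometryGroup F Q)) (k : ℕ) :
    g ^ k = 1 ↔ ((g : GL ι F) : Matrix ι ι F) ^ k = 1 := by
  rw [← mat_pow, mat_eq_one_iff]

theorem core (hZ : Zsig.{u}) (hDec : Decomp.{u}) (hBD : BlockDiag.{u}) (hBDet : BlockDet.{u})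
    (hBF : BlockFacts.{u}) (hDims : Dims.{u}) (hUT : UnipTriv.{u}) (hIN : InvolNeg.{u})
    (hC3 : Cent3.{u}) (hD1 : DetOne.{u}) (hCnt : Count1.{u}) (hSO : SignOdd.{u})
    (hTr : Transfer.{u})
    (F : Type u) [Field F] [Fintype F] (p : ℕ) [Fact p.Prime] [CharP F p] (hp2 : p ≠ 2)
    (m : ℕ) (hm : 2 ≤ m) (ι : Type) [Fintype ι] [DecidableEq ι]
    (hcard : Fintype.card ι = 2 * m + 3)
    (Q : QuadraticForm F (ι → F)) (hS : Sep Q)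
    (h : ↥(Cfsg.isometryGroup F ⇑Q)) (hord : orderOf h = p * (Fintype.card F ^ m + 1)) :
    h ∉ Cfsg.Omega F ⇑Q := by
  classical
  intro hmem
  have hp : p.Prime := Fact.out
  have h2 : (2 : F) ≠ 0 := by
    intro h0
    have h0' : ((2 : ℕ) : F) = 0 := by exact_mod_cast h0
    rw [CharP.cast_eq_zero_iff F p] at h0'
    exact hp2 ((Nat.prime_dvd_prime_iff_eq hp Nat.prime_two).1 h0')
  obtain ⟨q, hq⟩ : ∃ q : ℕ, q = Fintype.card F := ⟨_, rfl⟩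
  rw [← hq] at hord
  have hpq : p ∣ q := by
    obtain ⟨k, -, hk⟩ := FiniteField.card F p
    rw [hq, hk]
    exact dvd_pow_self p k.pos.ne'
  have hqodd : Odd q := by
    obtain ⟨k, -, hk⟩ := FiniteField.card F p
    rw [hq, hk]
    exact (hp.odd_of_ne_two hp2).pow
  obtain ⟨M, hM⟩ : ∃ M : ℕ, M = q ^ m + 1 := ⟨_, rfl⟩
  rw [← hM] at hord
  have hMpos : 0 < M := by omega
  have hMeven : Even M := by rw [hM]; exact Odd.add_one (hqodd.pow)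
  have hpM : Nat.Coprime M p := by
    apply Nat.Coprime.symm
    rw [Nat.Prime.coprime_iff_not_dvd hp]
    intro hd
    have h1 : p ∣ q ^ m := dvd_pow hpq (by omega)
    rw [hM] at hd
    exact hp.one_lt.ne' (Nat.dvd_one.1 ((Nat.dvd_add_right h1).1 hd))
  obtain ⟨r, hr, hr2, hrp, hrM, hro⟩ := hZ F p hp2 m hm
  rw [← hq, ← hM] at hrM
  obtain ⟨c, hc⟩ := hrM
  have hcpos : 0 < c := by
    rcases Nat.eq_zero_or_pos c with h0 | h0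
    · subst h0; omega
    · exact h0
  have hrF : ((r : ℕ) : F) ≠ 0 := by
    intro h0
    rw [CharP.cast_eq_zero_iff F p] at h0
    exact hrp ((Nat.prime_dvd_prime_iff_eq hp hr).1 h0).symm
  have hrodd : Odd r := hr.odd_of_ne_two hr2
  obtain ⟨Hm, hHm⟩ : ∃ Hm : Matrix ι ι F, Hm = ((h : GL ι F) : Matrix ι ι F) := ⟨_, rfl⟩
  have hpow : ∀ k : ℕ, h ^ k = 1 ↔ Hm ^ k = 1 := fun k => by
    rw [hHm]; exact pow_eq_one_iff_mat _ h k
  have hHQ : ∀ x, Q (Hm *ᵥ x) = Q x := fun x => by rw [hHm]; exact h.2 x x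
  have hHpowQ : ∀ (k : ℕ) x, Q ((Hm ^ k) *ᵥ x) = Q x := by
    intro k
    induction k with
    | zero => intro x; simp
    | succ k ih => intro x; rw [pow_succ, ← Matrix.mulVec_mulVec, ih, hHQ]
  have hdvd : ∀ k : ℕ, Hm ^ k = 1 ↔ p * M ∣ k := by
    intro k; rw [← hpow, ← hord]; exact orderOf_dvd_iff_pow_eq_one.symm
  obtain ⟨Sm, hSm⟩ : ∃ Sm : Matrix ι ι F, Sm = Hm ^ p := ⟨_, rfl⟩
  obtain ⟨Um, hUm⟩ : ∃ Um : Matrix ι ι F, Um = Hm ^ M := ⟨_, rfl⟩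
  obtain ⟨Tm, hTm⟩ : ∃ Tm : Matrix ι ι F, Tm = Hm ^ (p * c) := ⟨_, rfl⟩
  have hSpow : ∀ j : ℕ, Sm ^ j = 1 ↔ M ∣ j := by
    intro j; rw [hSm, ← pow_mul, hdvd]; exact Nat.mul_dvd_mul_iff_left hp.pos
  have hUpow : ∀ j : ℕ, Um ^ j = 1 ↔ p ∣ j := by
    intro j; rw [hUm, ← pow_mul, hdvd, mul_comm p M]; exact Nat.mul_dvd_mul_iff_left hMpos
  have hTr1 : Tm ^ r = 1 := by
    rw [hTm, ← pow_mul, hdvd, hc]; exact ⟨1, by ring⟩
  have hTne : Tm ≠ 1 := by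
    intro h1
    have h3 : Hm ^ (p * c) = 1 := by rw [← hTm]; exact h1
    rw [hdvd, Nat.mul_dvd_mul_iff_left hp.pos, hc] at h3
    have h4 := Nat.le_of_dvd hcpos h3
    have h5 : 2 ≤ r := hr.two_le
    nlinarith
  have hSQ : ∀ x, Q (Sm *ᵥ x) = Q x := by rw [hSm]; exact hHpowQ p
  have hUQ : ∀ x, Q (Um *ᵥ x) = Q x := by rw [hUm]; exact hHpowQ M
  have hTQ : ∀ x, Q (Tm *ᵥ x) = Q x := by rw [hTm]; exact hHpowQ _
  have hST : Sm * Tm = Tm * Sm := by rw [hSm, hTm]; exact (Commute.pow_pow_self Hm _ _).eq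
  have hUT' : Um * Tm = Tm * Um := by rw [hUm, hTm]; exact (Commute.pow_pow_self Hm _ _).eq
  have hSU : Sm * Um = Um * Sm := by rw [hSm, hUm]; exact (Commute.pow_pow_self Hm _ _).eq
  obtain ⟨k₁, k₂, N₁, N₂, T₂, J, hN₁, hN₂, hT₂r, hT₂Q, hT₂fix, hQJ, hTJ⟩ :=
    hDec F ι Q h2 hS Tm r hr.pos hrF hTr1 hTQ
  have hk : k₁ + k₂ = 2 * m + 3 := by
    have h3 := J.finrank_eq
    rw [Module.finrank_fintype_fun_eq_card, Module.finrank_fintype_fun_eq_card, Fintype.card_sum,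
      Fintype.card_fin, Fintype.card_fin, hcard] at h3
    exact h3
  have hk₂pos : 0 < k₂ := by
    rcases Nat.eq_zero_or_pos k₂ with h0 | h0
    · exfalso
      subst h0
      apply hTne
      apply matrix_ext_mulVec
      intro x
      obtain ⟨y, rfl⟩ := J.surjective x
      rw [hTJ, Matrix.one_mulVec]
      congr 1
      funext i
      rcases i with i | i
      · rfl
      · exact i.elim0
    · exact h0
  obtain ⟨hk₂, hk₁, hirr⟩ :=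
    hDims F p r m hr hr2 hrp hro hm k₁ k₂ N₂ T₂ hk hk₂pos hN₂ hT₂Q hT₂r hT₂fix
  subst hk₂
  subst hk₁
  obtain ⟨S₁, S₂, hSJ, hS₂T⟩ := hBD F ι Tm Sm 3 (2 * m) T₂ J hT₂fix hTJ hST
  obtain ⟨U₁, U₂, hUJ, hU₂T⟩ := hBD F ι Tm Um 3 (2 * m) T₂ J hT₂fix hTJ hUT'
  obtain ⟨hSp, hSc, hSi⟩ := hBF F ι 3 (2 * m) J Sm S₁ S₂ hSJ
  obtain ⟨hUp, hUc, hUi⟩ := hBF F ι 3 (2 * m) J Um U₁ U₂ hUJ
  obtain ⟨hS₁Q, hS₂Q⟩ := hSi Q N₁ N₂ hQJ hSQ
  obtain ⟨hU₁Q, hU₂Q⟩ := hUi Q N₁ N₂ hQJ hUQ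
  obtain ⟨hS₁U₁, hS₂U₂⟩ := hSc Um U₁ U₂ hUJ hSU
  obtain ⟨hS₁M, hS₂M⟩ := (hSp M).1 ((hSpow M).2 dvd_rfl)
  obtain ⟨hU₁p, hU₂p⟩ := (hUp p).1 ((hUpow p).2 dvd_rfl)
  have hU₂1 : U₂ = 1 := hUT F p (Fin (2 * m)) T₂ U₂ hirr hU₂T hU₂p
  have hU₁ne : U₁ ≠ 1 := by
    intro h1
    have h3 : Um ^ 1 = 1 := (hUp 1).2 ⟨by rw [h1, one_pow], by rw [hU₂1, one_pow]⟩
    rw [hUpow] at h3
    exact hp.one_lt.ne' (Nat.dvd_one.1 h3)
  have hS₂det : S₂.det = 1 :=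
    hD1 F (Fin (2 * m)) N₂ T₂ S₂ m r h2 (by simp) hN₂ hT₂Q hS₂Q hrodd hT₂r hT₂fix hS₂T
  have hSdet : Sm.det = S₁.det * S₂.det := hBDet F ι Sm 3 (2 * m) S₁ S₂ J hSJ
  have hsmem : h ^ p ∈ Cfsg.Omega F ⇑Q := Subgroup.pow_mem _ hmem p
  have hSm' : (((h ^ p : ↥(Cfsg.isometryGroup F ⇑Q)) : GL ι F) : Matrix ι ι F) = Sm := by
    rw [mat_pow, ← hHm, hSm]
  have hSdet1 : Sm.det = 1 := by
    have h1 := Cfsg.Agent.Lib.Helper44.ODet.omega_le_special Q hsmem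
    unfold Cfsg.specialIsometryGroup at h1
    rw [MonoidHom.mem_ker] at h1
    have h2' := congrArg (fun z : Fˣ => (z : F)) h1
    simp only [MonoidHom.comp_apply, Subgroup.subtype_apply,
      Matrix.GeneralLinearGroup.val_det_apply, Units.val_one] at h2'
    rw [← hSm']; exact h2'
  rcases hC3 F p h2 N₁ S₁ U₁ M hN₁ hS₁Q hU₁Q hS₁U₁ hU₁p hU₁ne hS₁M hpM with hS₁ | hS₁
  swap
  · rw [hSdet, hS₂det, hS₁, Matrix.det_neg, Matrix.det_one] at hSdet1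
    have h3 : ((-1 : F)) ^ Fintype.card (Fin 3) = -1 := by rw [Fintype.card_fin]; ring
    rw [h3] at hSdet1
    apply h2
    linear_combination -hSdet1
  · have hS₂pow : ∀ j : ℕ, S₂ ^ j = 1 ↔ M ∣ j := by
      intro j
      rw [← hSpow, hSp j, hS₁, one_pow]
      simp
    have hinv1 : S₂ * S₂ ^ (M - 1) = 1 := by rw [← pow_succ', Nat.sub_add_cancel hMpos, hS₂M]
    have hinv2 : S₂ ^ (M - 1) * S₂ = 1 := by rw [← pow_succ, Nat.sub_add_cancel hMpos, hS₂M]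
    obtain ⟨s₂, hs₂mat⟩ : ∃ s₂ : ↥(Cfsg.isometryGroup F ⇑(qN N₂)),
        ((s₂ : GL (Fin (2 * m)) F) : Matrix (Fin (2 * m)) (Fin (2 * m)) F) = S₂ :=
      ⟨⟨⟨S₂, S₂ ^ (M - 1), hinv1, hinv2⟩, fun u _ => hS₂Q u⟩, rfl⟩
    have hs₂mem : s₂ ∈ Cfsg.Omega F ⇑(qN N₂) := by
      refine hTr F ι Q h2 hS 3 (2 * m) N₁ N₂ J hN₂ (by omega) hQJ (h ^ p) s₂ ?_ hsmem
      intro u
      rw [hSm', hs₂mat, hSJ, hS₁, Matrix.one_mulVec]
    obtain ⟨k, M', hM'odd, hMk⟩ := Nat.exists_eq_two_pow_mul_odd hMpos.ne'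
    obtain ⟨a, rfl⟩ : ∃ a, k = a + 1 := by
      rcases k with _ | a
      · exfalso
        rw [pow_zero, one_mul] at hMk
        rw [hMk] at hMeven
        exact (Nat.not_even_iff_odd.2 hM'odd) hMeven
      · exact ⟨a, rfl⟩
    have hs₂pow : ∀ j : ℕ, s₂ ^ j = 1 ↔ M ∣ j := by
      intro j; rw [pow_eq_one_iff_mat, hs₂mat, hS₂pow]
    have hgmem : s₂ ^ M' ∈ Cfsg.Omega F ⇑(qN N₂) := Subgroup.pow_mem _ hs₂mem M'
    have hg1 : (s₂ ^ M') ^ (2 ^ (a + 1)) = 1 := by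
      rw [← pow_mul, hs₂pow, hMk]; exact ⟨1, by ring⟩
    have hZmat : ((((s₂ ^ M') ^ (2 ^ a) : ↥(Cfsg.isometryGroup F ⇑(qN N₂))) :
        GL (Fin (2 * m)) F) : Matrix (Fin (2 * m)) (Fin (2 * m)) F) = S₂ ^ (M' * 2 ^ a) := by
      rw [← pow_mul, mat_pow, hs₂mat]
    have hZZ : S₂ ^ (M' * 2 ^ a) * S₂ ^ (M' * 2 ^ a) = 1 := by
      rw [← pow_add, hS₂pow, hMk]; exact ⟨1, by ring⟩
    have hZ1 : S₂ ^ (M' * 2 ^ a) ≠ 1 := by
      intro h1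
      rw [hS₂pow] at h1
      have hpos : 0 < M' * 2 ^ a := Nat.mul_pos hM'odd.pos (by positivity)
      have h3 := Nat.le_of_dvd hpos h1
      rw [hMk, pow_succ] at h3
      nlinarith [hpos]
    have hZT : S₂ ^ (M' * 2 ^ a) * T₂ = T₂ * S₂ ^ (M' * 2 ^ a) :=
      (Commute.pow_left (show Commute S₂ T₂ from hS₂T) _).eq
    have hZneg := hIN F (Fin (2 * m)) T₂ (S₂ ^ (M' * 2 ^ a)) hirr hZT hZZ hZ1
    have hcnt := hCnt F p r m h2 hr hr2 hrp hro (by omega) (Fin (2 * m)) N₂ T₂ (by simp) hN₂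
      hT₂Q hT₂r hT₂fix
    rw [← hq, ← hM, hMk] at hcnt
    refine hSO F (Fin (2 * m)) (qN N₂) h2 (s₂ ^ M') a hg1 (by rw [hZmat, hZneg]) ?_ ?_ hgmem
    · rw [hcnt]; exact ⟨q ^ (m - 1) * M', by ring⟩
    · rw [hcnt]
      have h3 : q ^ (m - 1) * (2 ^ (a + 1) * M') / 2 ^ (a + 1) = q ^ (m - 1) * M' := by
        rw [show q ^ (m - 1) * (2 ^ (a + 1) * M') = 2 ^ (a + 1) * (q ^ (m - 1) * M') by ring]
        exact Nat.mul_div_cancel_left _ (by positivity)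
      rw [h3]
      exact (hqodd.pow).mul hM'odd

theorem noelt_of (hZ : Zsig.{u}) (hDec : Decomp.{u}) (hBD : BlockDiag.{u}) (hBDet : BlockDet.{u})
    (hBF : BlockFacts.{u}) (hDims : Dims.{u}) (hUT : UnipTriv.{u}) (hIN : InvolNeg.{u})
    (hC3 : Cent3.{u}) (hD1 : DetOne.{u}) (hCnt : Count1.{u}) (hSO : SignOdd.{u})
    (hTr : Transfer.{u}) : NoElt.{u} := by
  intro F _ _ p _ _ hp2 n hn h hord
  have hp : p.Prime := Fact.out
  have h2 : (2 : F) ≠ 0 := by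
    intro h0
    have h0' : ((2 : ℕ) : F) = 0 := by exact_mod_cast h0
    rw [CharP.cast_eq_zero_iff F p] at h0'
    exact hp2 ((Nat.prime_dvd_prime_iff_eq hp Nat.prime_two).1 h0')
  obtain ⟨m, rfl⟩ : ∃ m, n = m + 1 := ⟨n - 1, by omega⟩
  have hcard : Fintype.card (Unit ⊕ (Fin (m + 1) ⊕ Fin (m + 1))) = 2 * m + 3 := by
    simp; omega
  rw [Nat.add_sub_cancel] at hord
  exact core hZ hDec hBD hBDet hBF hDims hUT hIN hC3 hD1 hCnt hSO hTr F p hp2 m (by omega) _ hcard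
    (Cfsg.Agent.Lib.Helper44.NegPairs.oddQ (m + 1) F)
    (Cfsg.Agent.Lib.Helper44.NegPairs.sep_oddQ h2 (m + 1)) h hord

theorem final_of (hPsp : PspElt.{u}) (hNo : NoElt.{u}) {F : Type u} [Field F] [Fintype F]
    (hodd : Odd (Fintype.card F)) (n : ℕ) (hn : 3 ≤ n) :
    Set.range (orderOf : Cfsg.POmega F (Cfsg.quadFormOdd n F) → ℕ)
      ≠ Set.range (orderOf : Cfsg.PSp n F → ℕ) := by
  classical
  obtain ⟨p, hp⟩ := CharP.exists F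
  haveI : Fact p.Prime := ⟨CharP.char_is_prime F p⟩
  have hp2 : p ≠ 2 := by
    rintro rfl
    obtain ⟨k, -, hk⟩ := FiniteField.card F 2
    rw [hk] at hodd
    have h1 : Even (2 ^ (k : ℕ)) := (Nat.even_pow.2 ⟨even_two, k.pos.ne'⟩)
    exact (Nat.not_odd_iff_even.2 h1) hodd
  intro heq
  obtain ⟨g, hg⟩ := hPsp F p hp2 n hn
  have h1 : p * (Fintype.card F ^ (n - 1) + 1)
      ∈ Set.range (orderOf : Cfsg.POmega F (Cfsg.quadFormOdd n F) → ℕ) := by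
    rw [heq]; exact ⟨g, hg⟩
  obtain ⟨x, hx⟩ := h1
  obtain ⟨y, rfl⟩ := QuotientGroup.mk_surjective x
  have hdvd : p * (Fintype.card F ^ (n - 1) + 1) ∣ orderOf y := by
    rw [← hx]
    exact orderOf_map_dvd (QuotientGroup.mk' _) y
  obtain ⟨c, hc⟩ := hdvd
  have hy0 : orderOf y ≠ 0 := (isOfFinOrder_of_finite y).orderOf_pos.ne'
  have hc0 : c ≠ 0 := by
    rintro rfl
    exact hy0 (by rw [hc, mul_zero])
  have h3 : orderOf (y ^ c) = p * (Fintype.card F ^ (n - 1) + 1) := by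
    rw [orderOf_pow_of_dvd hc0 ⟨_, by rw [hc, mul_comm]⟩, hc, Nat.mul_div_cancel _ (Nat.pos_of_ne_zero hc0)]
  have h4 : orderOf (((y ^ c : ↥(Cfsg.Omega F (Cfsg.quadFormOdd n F))) :
      ↥(Cfsg.isometryGroup F (Cfsg.quadFormOdd n F)))) = p * (Fintype.card F ^ (n - 1) + 1) := by
    rw [Subgroup.orderOf_coe]; exact h3
  exact hNo F p hp2 n hn _ h4 (y ^ c).2

end Cfsg.Agent.Lib.Helper44.BCFin
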