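import Mathlib
import Cfsg.Agent.Lib.Helper44.Parity

set_option autoImplicit false

namespace Cfsg.Agent.Lib.Helper44.MaxTS

open Module QuadraticMap
open Cfsg.Agent.Lib.Helper44.QSpace Cfsg.Agent.Lib.Helper44.OGroup Cfsg.Agent.Lib.Helper44.Parity

universe u

variable {F : Type*} [Field F] {V : Type u} [AddCommGroup V] [Module F V]

/-- A totally singular subspace of dimension `m` (maximal when `dim V = 2m`). -/
def TS (Q : QuadraticForm F V) (m : ℕ) (U : Submodule F V) : Prop :=
  finrank F U = m ∧ ∀ u ∈ U, Q u = 0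

variable {Q : QuadraticForm F V} {m : ℕ} {U U' W X : Submodule F V}

theorem TS.polar_eq_zero (hU : TS Q m U) {x y : V} (hx : x ∈ U) (hy : y ∈ U) :
    polar Q x y = 0 := by
  unfold polar
  rw [hU.2 _ (U.add_mem hx hy), hU.2 x hx, hU.2 y hy]
  ring

variable [FiniteDimensional F V]

theorem TS.orth_eq (hS : Sep Q) (hV : finrank F V = 2 * m) (hU : TS Q m U) :
    LinearMap.BilinForm.orthogonal (polarBilin Q) U = U := by
  symm
  apply Submodule.eq_of_le_of_finrank_eq
  · intro x hx y hy
    exact hU.polar_eq_zero hy hx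
  · rw [LinearMap.BilinForm.finrank_orthogonal (nondegenerate_of_sep hS), hV, hU.1]
    omega

theorem TS.mem_of_orth (hS : Sep Q) (hV : finrank F V = 2 * m) (hU : TS Q m U) {x : V}
    (h : ∀ u ∈ U, polar Q u x = 0) : x ∈ U := by
  rw [← hU.orth_eq hS hV]
  exact h

/-- If `U`, `U'` meet in codimension one, `u ∈ U \ U'` and `u' ∈ U'` is orthogonal to `u`,
then `u' ∈ U`. -/
theorem mem_of_adjacent (hS : Sep Q) (hV : finrank F V = 2 * m) (hU : TS Q m U)
    (hU' : TS Q m U') (hR : finrank F ↥(U ⊓ U') + 1 = m) {u u' : V} (hu : u ∈ U)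
    (hu' : u ∉ U') (hu'' : u' ∈ U') (hp : polar Q u u' = 0) : u' ∈ U := by
  have hsup : (U ⊓ U') ⊔ (F ∙ u) = U := by
    apply Submodule.eq_of_le_of_finrank_le
    · exact sup_le inf_le_left ((Submodule.span_singleton_le_iff_mem u U).mpr hu)
    · have hlt : U ⊓ U' < (U ⊓ U') ⊔ (F ∙ u) := by
        apply lt_of_le_of_ne le_sup_left
        intro heq
        apply hu'
        have : u ∈ U ⊓ U' := by
          rw [heq]
          exact Submodule.mem_sup_right (Submodule.mem_span_singleton_self u)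
        exact this.2
      have h1 := Submodule.finrank_lt_finrank_of_lt hlt
      rw [hU.1]
      omega
  apply hU.mem_of_orth hS hV
  intro x hx
  rw [← hsup] at hx
  obtain ⟨r, hr, z, hz, rfl⟩ := Submodule.mem_sup.mp hx
  obtain ⟨c, rfl⟩ := Submodule.mem_span_singleton.mp hz
  rw [polar_add_left, polar_smul_l, hp, hU'.polar_eq_zero hr.2 hu'', mul_zero, add_zero]

theorem finrank_inf_hyperplane {A R : Submodule F V} (hA : A ≤ U) (hRU : R ≤ U)
    (hR : finrank F R + 1 = finrank F U) (hAR : ¬ A ≤ R) :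
    finrank F ↥(A ⊓ R) + 1 = finrank F A := by
  have h1 := Submodule.finrank_sup_add_finrank_inf_eq A R
  have hlt : R < A ⊔ R := by
    apply lt_of_le_of_ne le_sup_right
    intro heq
    apply hAR
    rw [heq]
    exact le_sup_left
  have h2 := Submodule.finrank_lt_finrank_of_lt hlt
  have h3 := Submodule.finrank_mono (sup_le hA hRU)
  omega

/-- **Adjacency lemma**: if `U` and `U'` are maximal totally singular subspaces meeting in
codimension one, then the dimensions of their intersections with any maximal totally singular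
subspace `W` differ by exactly one. -/
theorem ts_step (hS : Sep Q) (hV : finrank F V = 2 * m) (hU : TS Q m U) (hU' : TS Q m U')
    (hW : TS Q m W) (hR : finrank F ↥(U ⊓ U') + 1 = m) :
    finrank F ↥(W ⊓ U) = finrank F ↥(W ⊓ U') + 1 ∨
      finrank F ↥(W ⊓ U') = finrank F ↥(W ⊓ U) + 1 := by
  have hR' : finrank F ↥(U' ⊓ U) + 1 = m := by rw [inf_comm]; exact hR
  have hnd := nondegenerate_of_sep hS
  -- not both intersections leave `U ⊓ U'`
  have ha : ¬ (¬ W ⊓ U ≤ U ⊓ U' ∧ ¬ W ⊓ U' ≤ U ⊓ U') := by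
    rintro ⟨h1, h2⟩
    obtain ⟨x, hx, hx'⟩ := Set.not_subset.mp h1
    obtain ⟨y, hy, hy'⟩ := Set.not_subset.mp h2
    have hxU' : x ∉ U' := fun h => hx' ⟨hx.2, h⟩
    have hyU : y ∉ U := fun h => hy' ⟨h, hy.2⟩
    exact hyU (mem_of_adjacent hS hV hU hU' hR hx.2 hxU' hy.2 (hW.polar_eq_zero hx.1 hy.1))
  -- not both intersections lie in `U ⊓ U'`
  have hb : ¬ (W ⊓ U ≤ U ⊓ U' ∧ W ⊓ U' ≤ U ⊓ U') := by
    rintro ⟨h1, h2⟩
    set R := U ⊓ U' with hRdef
    set Rp := LinearMap.BilinForm.orthogonal (polarBilin Q) R with hRp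
    have hRd : finrank F R + 1 = m := hR
    have hRpd : finrank F Rp = m + 1 := by
      have h0 := LinearMap.BilinForm.finrank_orthogonal hnd R
      rw [hV] at h0
      rw [hRp, h0]
      omega
    have hUle : U ≤ Rp := by
      intro x hx r hr
      exact hU.polar_eq_zero hr.1 hx
    have hU'le : U' ≤ Rp := by
      intro x hx r hr
      exact hU'.polar_eq_zero hr.2 hx
    have hsup : U ⊔ U' = Rp := by
      apply Submodule.eq_of_le_of_finrank_le (sup_le hUle hU'le)
      have := Submodule.finrank_sup_add_finrank_inf_eq U U'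
      rw [hU.1, hU'.1, ← hRdef] at this
      omega
    have hRle : R ≤ Rp := le_trans inf_le_left hUle
    -- the dimension of `W ⊓ Rp`
    have hle : W ⊓ R ≤ LinearMap.BilinForm.orthogonal (polarBilin Q) (W ⊔ Rp) := by
      intro x hx y hy
      obtain ⟨w, hw, z, hz, rfl⟩ := Submodule.mem_sup.mp hy
      show polarBilin Q (w + z) x = 0
      rw [map_add, LinearMap.add_apply]
      have e1 : polarBilin Q w x = 0 := hW.polar_eq_zero hw hx.1
      have e2 : polarBilin Q z x = 0 := by
        rw [pB_symm]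
        exact hz x hx.2
      rw [e1, e2, add_zero]
    have h3 := Submodule.finrank_mono hle
    rw [LinearMap.BilinForm.finrank_orthogonal hnd] at h3
    have h4 := Submodule.finrank_sup_add_finrank_inf_eq W Rp
    rw [hW.1, hRpd] at h4
    have h5 : finrank F ↥(W ⊔ Rp) ≤ finrank F V := Submodule.finrank_le _
    have h6 : finrank F ↥(W ⊓ R) < finrank F ↥(W ⊓ Rp) := by omega
    obtain ⟨x, hx, hx'⟩ : ∃ x ∈ W ⊓ Rp, x ∉ R := by
      by_contra hcon
      push Not at hcon
      have : W ⊓ Rp ≤ W ⊓ R := fun x hx => ⟨hx.1, hcon x hx⟩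
      have := Submodule.finrank_mono this
      omega
    have hxs : x ∈ U ⊔ U' := by rw [hsup]; exact hx.2
    obtain ⟨u, hu, u', hu', rfl⟩ := Submodule.mem_sup.mp hxs
    have hq := hW.2 _ hx.1
    rw [q_add, hU.2 u hu, hU'.2 u' hu', zero_add, zero_add] at hq
    by_cases huU' : u ∈ U'
    · apply hx'
      apply h2
      exact ⟨hx.1, U'.add_mem huU' hu'⟩
    · have := mem_of_adjacent hS hV hU hU' hR hu huU' hu' hq
      apply hx'
      apply h1
      exact ⟨hx.1, U.add_mem hu this⟩
  by_cases h1 : W ⊓ U ≤ U ⊓ U'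
  · by_cases h2 : W ⊓ U' ≤ U ⊓ U'
    · exact absurd ⟨h1, h2⟩ hb
    · right
      have e1 : W ⊓ U = W ⊓ (U ⊓ U') :=
        le_antisymm (le_inf inf_le_left h1) (inf_le_inf_left W inf_le_left)
      have e2 : (W ⊓ U') ⊓ (U ⊓ U') = W ⊓ (U ⊓ U') := by
        apply le_antisymm
        · exact le_inf (le_trans inf_le_left inf_le_left) inf_le_right
        · exact le_inf (le_inf inf_le_left (le_trans inf_le_right inf_le_right)) inf_le_right
      have := finrank_inf_hyperplane (U := U') (A := W ⊓ U') (R := U ⊓ U') inf_le_right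
        inf_le_right (by rw [hU'.1]; exact hR) h2
      rw [e2, ← e1] at this
      omega
  · by_cases h2 : W ⊓ U' ≤ U ⊓ U'
    · left
      have e1 : W ⊓ U' = W ⊓ (U ⊓ U') :=
        le_antisymm (le_inf inf_le_left h2) (inf_le_inf_left W inf_le_right)
      have e2 : (W ⊓ U) ⊓ (U ⊓ U') = W ⊓ (U ⊓ U') := by
        apply le_antisymm
        · exact le_inf (le_trans inf_le_left inf_le_left) inf_le_right
        · exact le_inf (le_inf inf_le_left (le_trans inf_le_right inf_le_left)) inf_le_right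
      have := finrank_inf_hyperplane (U := U) (A := W ⊓ U) (R := U ⊓ U') inf_le_right
        inf_le_left (by rw [hU.1]; exact hR) h1
      rw [e2, ← e1] at this
      omega
    · exact absurd ⟨h1, h2⟩ ha

/-- Two distinct maximal totally singular subspaces: there is a third one adjacent to the first
and closer to the second. -/
theorem exists_adjacent (hS : Sep Q) (hV : finrank F V = 2 * m) (hU : TS Q m U)
    (hW : TS Q m W) (hne : U ≠ W) :
    ∃ U₁, TS Q m U₁ ∧ finrank F ↥(U ⊓ U₁) + 1 = m ∧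
      finrank F ↥(W ⊓ U₁) = finrank F ↥(W ⊓ U) + 1 := by
  obtain ⟨w, hw, hwU⟩ : ∃ w ∈ W, w ∉ U := by
    by_contra hcon
    push Not at hcon
    apply hne
    symm
    apply Submodule.eq_of_le_of_finrank_le hcon
    rw [hU.1, hW.1]
  set φ : V →ₗ[F] F := polarBilin Q w with hφ
  have hφa : ∀ x, φ x = polar Q w x := fun x => rfl
  have hUker : ¬ U ≤ LinearMap.ker φ := by
    intro h
    apply hwU
    apply hU.mem_of_orth hS hV
    intro u hu
    rw [polar_comm, ← hφa]
    exact LinearMap.mem_ker.mp (h hu)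
  have hU₀ : finrank F ↥(U ⊓ LinearMap.ker φ) + 1 = m := by
    rcases finrank_inf_ker U φ with ⟨h1, -⟩ | ⟨-, h2⟩
    · exact absurd h1 hUker
    · rw [h2, hU.1]
  set U₀ := U ⊓ LinearMap.ker φ with hU₀def
  have hwU₀ : w ∉ U₀ := fun h => hwU h.1
  have hinf : U₀ ⊓ (F ∙ w) = ⊥ := by
    rw [eq_bot_iff]
    rintro y ⟨hy1, hy2⟩
    obtain ⟨c, rfl⟩ := Submodule.mem_span_singleton.mp hy2
    by_cases hc : c = 0
    · rw [hc, zero_smul]
      exact Submodule.zero_mem _
    · exfalso
      apply hwU₀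
      have := U₀.smul_mem c⁻¹ hy1
      rwa [smul_smul, inv_mul_cancel₀ hc, one_smul] at this
  have hw0 : w ≠ 0 := by
    rintro rfl
    exact hwU (Submodule.zero_mem _)
  set U₁ := U₀ ⊔ (F ∙ w) with hU₁
  have hU₁d : finrank F U₁ = m := by
    have := Submodule.finrank_sup_add_finrank_inf_eq U₀ (F ∙ w)
    rw [hinf, finrank_bot, finrank_span_singleton hw0, ← hU₁] at this
    omega
  have hTS₁ : TS Q m U₁ := by
    refine ⟨hU₁d, ?_⟩
    intro x hx
    obtain ⟨y, hy, z, hz, rfl⟩ := Submodule.mem_sup.mp hx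
    obtain ⟨c, rfl⟩ := Submodule.mem_span_singleton.mp hz
    have e1 : polar Q w y = 0 := LinearMap.mem_ker.mp hy.2
    rw [q_add, hU.2 y hy.1, q_smul, hW.2 w hw, polar_smul_r, polar_comm, e1]
    ring
  have hwU₁ : w ∈ U₁ := Submodule.mem_sup_right (Submodule.mem_span_singleton_self w)
  have hU₀le : U₀ ≤ U ⊓ U₁ := le_inf inf_le_left le_sup_left
  have hadj : finrank F ↥(U ⊓ U₁) + 1 = m := by
    have h1 := Submodule.finrank_mono hU₀le
    have hlt : U ⊓ U₁ < U₁ := by
      apply lt_of_le_of_ne inf_le_right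
      intro heq
      apply hwU
      have : w ∈ U ⊓ U₁ := by rw [heq]; exact hwU₁
      exact this.1
    have h2 := Submodule.finrank_lt_finrank_of_lt hlt
    omega
  refine ⟨U₁, hTS₁, hadj, ?_⟩
  have hle : W ⊓ U ≤ W ⊓ U₁ := by
    intro x hx
    refine ⟨hx.1, Submodule.mem_sup_left ⟨hx.2, ?_⟩⟩
    show φ x = 0
    rw [hφa]
    exact hW.polar_eq_zero hw hx.1
  have hlt : W ⊓ U < W ⊓ U₁ := by
    apply lt_of_le_of_ne hle
    intro heq
    apply hwU
    have : w ∈ W ⊓ U := by rw [heq]; exact ⟨hw, hwU₁⟩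
    exact this.2
  have h3 := Submodule.finrank_lt_finrank_of_lt hlt
  rcases ts_step hS hV hU hTS₁ hW hadj with h | h
  · omega
  · exact h

/-- **Parity theorem** for maximal totally singular subspaces. -/
theorem ts_parity (hS : Sep Q) (hV : finrank F V = 2 * m) (d : ℕ) :
    ∀ {U W X : Submodule F V}, TS Q m U → TS Q m W → TS Q m X →
      m - finrank F ↥(U ⊓ W) = d →
      ((m - finrank F ↥(X ⊓ U)) + (m - finrank F ↥(X ⊓ W))) % 2 = d % 2 := by
  induction d with
  | zero =>
    intro U W X hU hW hX hd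
    have h1 : finrank F ↥(U ⊓ W) ≤ finrank F U := Submodule.finrank_mono inf_le_left
    have e1 : U ⊓ W = U := by
      apply Submodule.eq_of_le_of_finrank_le inf_le_left
      rw [hU.1] at h1 ⊢
      omega
    have e2 : U = W := by
      apply Submodule.eq_of_le_of_finrank_le (inf_eq_left.mp e1)
      rw [hU.1, hW.1]
    rw [e2]
    omega
  | succ d ih =>
    intro U W X hU hW hX hd
    have hne : U ≠ W := by
      rintro rfl
      rw [inf_idem, hU.1] at hd
      omega
    obtain ⟨U₁, hU₁, hadj, hcl⟩ := exists_adjacent hS hV hU hW hne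
    have e : finrank F ↥(U₁ ⊓ W) = finrank F ↥(U ⊓ W) + 1 := by
      rw [inf_comm U₁ W, inf_comm U W]
      exact hcl
    have hb1 : finrank F ↥(U₁ ⊓ W) ≤ m := by
      have := Submodule.finrank_mono (inf_le_left : U₁ ⊓ W ≤ U₁)
      rw [hU₁.1] at this
      exact this
    have ih' := ih hU₁ hW hX (by omega)
    have hb2 : finrank F ↥(X ⊓ U) ≤ m := by
      have := Submodule.finrank_mono (inf_le_right : X ⊓ U ≤ U)
      rw [hU.1] at this
      exact this
    have hb3 : finrank F ↥(X ⊓ U₁) ≤ m := by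
      have := Submodule.finrank_mono (inf_le_right : X ⊓ U₁ ≤ U₁)
      rw [hU₁.1] at this
      exact this
    have hb4 : finrank F ↥(X ⊓ W) ≤ m := by
      have := Submodule.finrank_mono (inf_le_right : X ⊓ W ≤ W)
      rw [hW.1] at this
      exact this
    rcases ts_step hS hV hU hU₁ hX hadj with h | h
    · omega
    · omega

end Cfsg.Agent.Lib.Helper44.MaxTS
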