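import Mathlib
import Cfsg.Agent.Lib.Helper44.MaxTS
import Cfsg.Agent.Lib.Helper44.CartanD

set_option autoImplicit false

namespace Cfsg.Agent.Lib.Helper44.MaxTS2

open Module QuadraticMap
open Cfsg.Agent.Lib.Helper44.QSpace Cfsg.Agent.Lib.Helper44.OGroup Cfsg.Agent.Lib.Helper44.Parity
open Cfsg.Agent.Lib.Helper44.MaxTS Cfsg.Agent.Lib.Helper44.CartanD

universe u

variable {F : Type*} [Field F] {V : Type u} [AddCommGroup V] [Module F V]
variable {Q : QuadraticForm F V} {m : ℕ} {U : Submodule F V}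

/-- The image of a maximal totally singular subspace under an isometry. -/
theorem ts_map {g : V ≃ₗ[F] V} (hg : g ∈ O Q) (hU : TS Q m U) :
    TS Q m (U.map (g : V →ₗ[F] V)) := by
  refine ⟨?_, ?_⟩
  · rw [LinearEquiv.finrank_map_eq, hU.1]
  · rintro _ ⟨u, hu, rfl⟩
    show Q (g u) = 0
    rw [hg u]
    exact hU.2 u hu

variable [FiniteDimensional F V]

/-- A reflection moves a maximal totally singular subspace to an adjacent one. -/
theorem adjacent_refl (hS : Sep Q) (hV : finrank F V = 2 * m) (hU : TS Q m U) {v : V}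
    (hv : Q v ≠ 0) :
    finrank F ↥(U ⊓ U.map ((reflE Q v : V ≃ₗ[F] V) : V →ₗ[F] V)) + 1 = m := by
  set φ : V →ₗ[F] F := polarBilin Q v with hφ
  have hφa : ∀ x, φ x = polar Q v x := fun x => rfl
  have hvU : v ∉ U := fun h => hv (hU.2 v h)
  have hUker : ¬ U ≤ LinearMap.ker φ := by
    intro h
    apply hvU
    apply hU.mem_of_orth hS hV
    intro u hu
    rw [polar_comm, ← hφa]
    exact LinearMap.mem_ker.mp (h hu)
  have e : U ⊓ U.map ((reflE Q v : V ≃ₗ[F] V) : V →ₗ[F] V) = U ⊓ LinearMap.ker φ := by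
    apply le_antisymm
    · rintro x ⟨hx1, u, hu, hx2⟩
      refine ⟨hx1, ?_⟩
      have hx3 : reflE Q v u = x := hx2
      rw [reflE_apply] at hx3
      by_cases hc : polar Q u v = 0
      · rw [hc, mul_zero, zero_smul, sub_zero] at hx3
        show φ x = 0
        rw [hφa, ← hx3, polar_comm]
        exact hc
      · exfalso
        apply hvU
        have h1 : ((Q v)⁻¹ * polar Q u v) • v = u - x := by
          rw [← hx3]; abel
        have h2 : ((Q v)⁻¹ * polar Q u v) • v ∈ U := by
          rw [h1]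
          exact U.sub_mem hu hx1
        have hne : (Q v)⁻¹ * polar Q u v ≠ 0 := mul_ne_zero (inv_ne_zero hv) hc
        have := U.smul_mem ((Q v)⁻¹ * polar Q u v)⁻¹ h2
        rwa [smul_smul, inv_mul_cancel₀ hne, one_smul] at this
    · rintro x ⟨hx1, hx2⟩
      refine ⟨hx1, x, hx1, ?_⟩
      have h0 : polar Q x v = 0 := by
        rw [polar_comm, ← hφa]
        exact LinearMap.mem_ker.mp hx2
      exact reflE_of_orth h0
  rw [e]
  rcases finrank_inf_ker U φ with ⟨h1, -⟩ | ⟨-, h2⟩
  · exact absurd h1 hUker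
  · rw [h2, hU.1]

/-- **Parity of a product of reflections** on a maximal totally singular subspace. -/
theorem parity_prod (hS : Sep Q) (hV : finrank F V = 2 * m) (hU : TS Q m U) (vs : List V)
    (hvs : ∀ v ∈ vs, Q v ≠ 0) :
    (m - finrank F ↥(U ⊓ U.map (((vs.map (reflE Q)).prod : V ≃ₗ[F] V) : V →ₗ[F] V))) % 2
      = vs.length % 2 := by
  induction vs with
  | nil =>
    have e : U.map (((([] : List V).map (reflE Q)).prod : V ≃ₗ[F] V) : V →ₗ[F] V) = U := by
      rw [List.map_nil, List.prod_nil]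
      exact Submodule.map_id U
    rw [e, inf_idem, hU.1]
    simp
  | cons w ws ih =>
    have hw : Q w ≠ 0 := hvs w List.mem_cons_self
    have ih' := ih (fun v hv => hvs v (List.mem_cons_of_mem _ hv))
    set g' : V ≃ₗ[F] V := (ws.map (reflE Q)).prod with hg'
    have hg'O : g' ∈ O Q := prod_reflE_mem Q ws
    have hU' : TS Q m (U.map (g' : V →ₗ[F] V)) := ts_map hg'O hU
    have e : U.map ((((w :: ws).map (reflE Q)).prod : V ≃ₗ[F] V) : V →ₗ[F] V)
        = (U.map (g' : V →ₗ[F] V)).map ((reflE Q w : V ≃ₗ[F] V) : V →ₗ[F] V) := by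
      rw [List.map_cons, List.prod_cons, ← Submodule.map_comp]
      rfl
    rw [e]
    have hadj := adjacent_refl hS hV hU' hw
    have hU'' : TS Q m ((U.map (g' : V →ₗ[F] V)).map ((reflE Q w : V ≃ₗ[F] V) : V →ₗ[F] V)) :=
      ts_map (reflE_mem Q w) hU'
    have hp := ts_parity hS hV 1 hU' hU'' hU (by omega)
    rw [List.length_cons]
    omega

end Cfsg.Agent.Lib.Helper44.MaxTS2
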