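import Mathlib
import Cfsg.Agent.Lib.Helper44.MaxTS2
import Cfsg.Agent.Lib.Helper44.ReflClass

set_option autoImplicit false

namespace Cfsg.Agent.Lib.Helper44.TSTrans

open Module QuadraticMap
open Cfsg.Agent.Lib.Helper44.QSpace Cfsg.Agent.Lib.Helper44.OGroup Cfsg.Agent.Lib.Helper44.Parity
open Cfsg.Agent.Lib.Helper44.MaxTS Cfsg.Agent.Lib.Helper44.CartanD
open Cfsg.Agent.Lib.Helper44.ReflClass

universe u

variable {F : Type*} [Field F] {V : Type u} [AddCommGroup V] [Module F V]
variable {Q : QuadraticForm F V}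

/-- The polar form vanishes on a totally singular subspace. -/
theorem polar_of_sing {U : Submodule F V} (hU : ∀ u ∈ U, Q u = 0) {x y : V} (hx : x ∈ U)
    (hy : y ∈ U) : polar Q x y = 0 := by
  unfold polar
  rw [hU _ (U.add_mem hx hy), hU x hx, hU y hy]
  ring

theorem map_mul_eq (a b : V ≃ₗ[F] V) (U : Submodule F V) :
    U.map ((a * b : V ≃ₗ[F] V) : V →ₗ[F] V)
      = (U.map (b : V →ₗ[F] V)).map (a : V →ₗ[F] V) := by
  rw [← Submodule.map_comp]
  rfl

/-- **Adjacent totally singular subspaces are swapped by a reflection.** -/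
theorem map_refl_sup {R : Submodule F V} {u w : V} (hu : Q u = 0) (hw : Q w = 0)
    (hRu : ∀ r ∈ R, polar Q r u = 0) (hRw : ∀ r ∈ R, polar Q r w = 0)
    (huw : polar Q u w ≠ 0) :
    Q (u - w) ≠ 0 ∧
      (R ⊔ (F ∙ u)).map ((reflE Q (u - w) : V ≃ₗ[F] V) : V →ₗ[F] V) = R ⊔ (F ∙ w) := by
  have hq : Q (u - w) = - polar Q u w := by
    rw [q_sub, hu, hw]; ring
  have hq0 : Q (u - w) ≠ 0 := by
    rw [hq]; exact neg_ne_zero.mpr huw
  refine ⟨hq0, ?_⟩
  have h1 : reflE Q (u - w) u = w := by
    rw [reflE_apply, polar_sub_right, polar_self', hu, hq]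
    have : (-polar Q u w)⁻¹ * (2 * 0 - polar Q u w) = 1 := by
      field_simp
      ring
    rw [this, one_smul]
    abel
  have h2 : ∀ r ∈ R, reflE Q (u - w) r = r := by
    intro r hr
    apply reflE_of_orth
    rw [polar_sub_right, hRu r hr, hRw r hr, sub_zero]
  have h3 : R.map ((reflE Q (u - w) : V ≃ₗ[F] V) : V →ₗ[F] V) = R := by
    apply le_antisymm
    · rintro _ ⟨r, hr, rfl⟩
      show reflE Q (u - w) r ∈ R
      rw [h2 r hr]
      exact hr
    · intro r hr
      exact ⟨r, hr, h2 r hr⟩
  rw [Submodule.map_sup, h3, Submodule.map_span, Set.image_singleton]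
  show R ⊔ (F ∙ (reflE Q (u - w) u)) = _
  rw [h1]

theorem isRefl_pB (Q : QuadraticForm F V) : (polarBilin Q).IsRefl := by
  intro x y h
  rw [pB_symm]
  exact h

variable [FiniteDimensional F V]

/-- If `u ∉ H` there is a vector orthogonal to `H` but not to `u`. -/
theorem exists_orth_not (hS : Sep Q) {H : Submodule F V} {u : V} (hu : u ∉ H) :
    ∃ a, (∀ h ∈ H, polar Q h a = 0) ∧ polar Q a u ≠ 0 := by
  by_contra hcon
  push Not at hcon
  apply hu
  rw [← LinearMap.BilinForm.orthogonal_orthogonal (nondegenerate_of_sep hS) (isRefl_pB Q) H]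
  intro a ha
  exact hcon a ha

/-- A singular vector orthogonal to `H` and to neither of `u`, `w`. -/
theorem exists_sing_link (hS : Sep Q) {H : Submodule F V} {u w : V} (hu : u ∉ H) (hw : w ∉ H)
    (hQu : Q u = 0) (huw : polar Q u w = 0) (hHu : ∀ h ∈ H, polar Q h u = 0) :
    ∃ z, Q z = 0 ∧ (∀ h ∈ H, polar Q h z = 0) ∧ polar Q u z ≠ 0 ∧ polar Q z w ≠ 0 := by
  obtain ⟨a, ha1, ha2⟩ := exists_orth_not hS hu
  obtain ⟨b, hb1, hb2⟩ := exists_orth_not hS hw
  obtain ⟨z', hz1, hz2, hz3⟩ : ∃ z', (∀ h ∈ H, polar Q h z' = 0) ∧ polar Q z' u ≠ 0 ∧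
      polar Q z' w ≠ 0 := by
    by_cases h1 : polar Q a w = 0
    · by_cases h2 : polar Q b u = 0
      · refine ⟨a + b, ?_, ?_, ?_⟩
        · intro h hh
          rw [polar_add_right, ha1 h hh, hb1 h hh, add_zero]
        · rw [polar_add_left, h2, add_zero]
          exact ha2
        · rw [polar_add_left, h1, zero_add]
          exact hb2
      · exact ⟨b, hb1, h2, hb2⟩
    · exact ⟨a, ha1, ha2, h1⟩
  refine ⟨z' - (Q z' / polar Q z' u) • u, ?_, ?_, ?_, ?_⟩
  · rw [q_sub, q_smul, hQu, polar_smul_r]
    field_simp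
    ring
  · intro h hh
    rw [polar_sub_right, polar_smul_r, hz1 h hh, hHu h hh]
    ring
  · rw [polar_sub_right, polar_smul_r, polar_self', hQu, polar_comm]
    intro h0
    apply hz2
    rw [← h0]
    ring
  · rw [polar_sub_left, polar_smul_l, huw, mul_zero, sub_zero]
    exact hz3

/-- **Witt's theorem for totally singular subspaces, by reflections**: two totally singular
subspaces of the same dimension are mapped to one another by a product of reflections. -/
theorem exists_prod_map (hS : Sep Q) : ∀ (d : ℕ) (U W : Submodule F V), (∀ u ∈ U, Q u = 0) →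
    (∀ w ∈ W, Q w = 0) → finrank F U = finrank F W →
    finrank F U - finrank F ↥(U ⊓ W) = d →
    ∃ vs : List V, (∀ v ∈ vs, Q v ≠ 0) ∧
      U.map (((vs.map (reflE Q)).prod : V ≃ₗ[F] V) : V →ₗ[F] V) = W := by
  intro d
  induction d using Nat.strong_induction_on with
  | _ d ih =>
    intro U W hU hW hdim hd
    by_cases hUW : U = W
    · refine ⟨[], by simp, ?_⟩
      rw [List.map_nil, List.prod_nil, ← hUW]
      exact Submodule.map_id U
    -- a vector of `W` outside `U`, and one of `U` outside `W`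
    obtain ⟨w, hwW, hwU⟩ : ∃ w ∈ W, w ∉ U := by
      by_contra hcon
      push Not at hcon
      apply hUW
      symm
      apply Submodule.eq_of_le_of_finrank_le hcon
      rw [hdim]
    obtain ⟨u₀, hu₀U, hu₀W⟩ : ∃ u ∈ U, u ∉ W := by
      by_contra hcon
      push Not at hcon
      apply hUW
      apply Submodule.eq_of_le_of_finrank_le hcon
      rw [hdim]
    -- a hyperplane `H` of `U` containing `U ⊓ W` and orthogonal to `w`
    obtain ⟨y, u, huU, hyu, hyUW, hyw⟩ : ∃ y u, u ∈ U ∧ polar Q y u ≠ 0 ∧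
        (∀ x ∈ U ⊓ W, polar Q y x = 0) ∧ (∀ x ∈ U, polar Q y x = 0 → polar Q w x = 0) := by
      by_cases hc : ∀ x ∈ U, polar Q w x = 0
      · have hu₀ : u₀ ∉ U ⊓ W := fun h => hu₀W h.2
        obtain ⟨a, ha1, ha2⟩ := exists_orth_not hS hu₀
        refine ⟨a, u₀, hu₀U, ha2, ?_, ?_⟩
        · intro x hx
          rw [polar_comm]
          exact ha1 x hx
        · intro x hx _
          exact hc x hx
      · push Not at hc
        obtain ⟨u, hu, hwu⟩ := hc
        refine ⟨w, u, hu, hwu, ?_, ?_⟩
        · intro x hx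
          exact polar_of_sing hW hwW hx.2
        · intro x _ h
          exact h
    set ψ : V →ₗ[F] F := polarBilin Q y with hψ
    have hψa : ∀ x, ψ x = polar Q y x := fun x => rfl
    have hUker : ¬ U ≤ LinearMap.ker ψ := by
      intro h
      apply hyu
      rw [← hψa]
      exact LinearMap.mem_ker.mp (h huU)
    have hHd : finrank F ↥(U ⊓ LinearMap.ker ψ) + 1 = finrank F U := by
      rcases finrank_inf_ker U ψ with ⟨h1, -⟩ | ⟨-, h2⟩
      · exact absurd h1 hUker
      · exact h2
    set H := U ⊓ LinearMap.ker ψ with hH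
    have hHU : H ≤ U := inf_le_left
    have hHw : ∀ h ∈ H, polar Q h w = 0 := by
      intro h hh
      rw [polar_comm]
      apply hyw h hh.1
      rw [← hψa]
      exact LinearMap.mem_ker.mp hh.2
    have hHu : ∀ h ∈ H, polar Q h u = 0 := fun h hh => polar_of_sing hU (hHU hh) huU
    have huH : u ∉ H := by
      intro h
      apply hyu
      rw [← hψa]
      exact LinearMap.mem_ker.mp h.2
    have hwH : w ∉ H := fun h => hwU (hHU h)
    have hUWH : U ⊓ W ≤ H := by
      intro x hx
      refine ⟨hx.1, ?_⟩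
      show ψ x = 0
      rw [hψa]
      exact hyUW x hx
    -- `U = H ⊔ span u`
    have hUeq : H ⊔ (F ∙ u) = U := by
      apply Submodule.eq_of_le_of_finrank_le
      · exact sup_le hHU ((Submodule.span_singleton_le_iff_mem u U).mpr huU)
      · have hlt : H < H ⊔ (F ∙ u) := by
          apply lt_of_le_of_ne le_sup_left
          intro heq
          apply huH
          rw [heq]
          exact Submodule.mem_sup_right (Submodule.mem_span_singleton_self u)
        have h1 := Submodule.finrank_lt_finrank_of_lt hlt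
        omega
    -- the new subspace
    set U₁ := H ⊔ (F ∙ w) with hU₁
    have hw0 : w ≠ 0 := by
      rintro rfl
      exact hwU (Submodule.zero_mem _)
    have hU₁s : ∀ x ∈ U₁, Q x = 0 := by
      intro x hx
      obtain ⟨h, hh, z, hz, rfl⟩ := Submodule.mem_sup.mp hx
      obtain ⟨c, rfl⟩ := Submodule.mem_span_singleton.mp hz
      rw [q_add, hU h (hHU hh), q_smul, hW w hwW, polar_smul_r, hHw h hh]
      ring
    have hU₁d : finrank F U₁ = finrank F U := by
      have hlt : H < H ⊔ (F ∙ w) := by
        apply lt_of_le_of_ne le_sup_left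
        intro heq
        apply hwH
        rw [heq]
        exact Submodule.mem_sup_right (Submodule.mem_span_singleton_self w)
      have h1 := Submodule.finrank_lt_finrank_of_lt hlt
      have h2 := Submodule.finrank_add_le_finrank_add_finrank H (F ∙ w)
      rw [finrank_span_singleton hw0] at h2
      rw [← hU₁] at h1 h2
      omega
    have hwU₁ : w ∈ U₁ := Submodule.mem_sup_right (Submodule.mem_span_singleton_self w)
    have hlt : U ⊓ W < U₁ ⊓ W := by
      apply lt_of_le_of_ne
      · intro x hx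
        exact ⟨Submodule.mem_sup_left (hUWH hx), hx.2⟩
      · intro heq
        apply hwU
        have : w ∈ U ⊓ W := by rw [heq]; exact ⟨hwU₁, hwW⟩
        exact this.1
    have h3 := Submodule.finrank_lt_finrank_of_lt hlt
    have h4 : finrank F ↥(U₁ ⊓ W) ≤ finrank F U₁ := Submodule.finrank_mono inf_le_left
    obtain ⟨vs₁, hvs₁, hmap₁⟩ := ih (finrank F U₁ - finrank F ↥(U₁ ⊓ W)) (by omega) U₁ W hU₁s hW
      (by rw [hU₁d, hdim]) rfl
    by_cases huw : polar Q u w = 0
    · -- two reflections, through an intermediate singular vector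
      obtain ⟨z, hz0, hzH, huz, hzw⟩ := exists_sing_link hS huH hwH (hU u huU) huw hHu
      obtain ⟨hq1, hm1⟩ := map_refl_sup (hU u huU) hz0 hHu hzH huz
      obtain ⟨hq2, hm2⟩ := map_refl_sup hz0 (hW w hwW) hzH hHw hzw
      refine ⟨vs₁ ++ [z - w, u - z], ?_, ?_⟩
      · intro v hv
        rcases List.mem_append.mp hv with h | h
        · exact hvs₁ v h
        · simp only [List.mem_cons, List.not_mem_nil, or_false] at h
          rcases h with h | h
          · rw [h]; exact hq2
          · rw [h]; exact hq1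
      · rw [List.map_append, List.prod_append, map_mul_eq, List.map_cons, List.map_cons,
          List.map_nil, List.prod_cons, List.prod_cons, List.prod_nil, mul_one, map_mul_eq,
          ← hUeq, hm1, hm2]
        exact hmap₁
    · obtain ⟨hq1, hm1⟩ := map_refl_sup (hU u huU) (hW w hwW) hHu hHw huw
      refine ⟨vs₁ ++ [u - w], ?_, ?_⟩
      · intro v hv
        rcases List.mem_append.mp hv with h | h
        · exact hvs₁ v h
        · simp only [List.mem_cons, List.not_mem_nil, or_false] at h
          rw [h]; exact hq1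
      · rw [List.map_append, List.prod_append, map_mul_eq, List.map_cons,
          List.map_nil, List.prod_cons, List.prod_nil, mul_one, ← hUeq, hm1]
        exact hmap₁

/-- **Parity fix**: a totally singular subspace of less than half the dimension is fixed
pointwise by some reflection. -/
theorem exists_refl_fix (hS : Sep Q) {W : Submodule F V}
    (hk : 2 * finrank F W < finrank F V) :
    ∃ v, Q v ≠ 0 ∧ W.map ((reflE Q v : V ≃ₗ[F] V) : V →ₗ[F] V) = W := by
  obtain ⟨v, hv1, hv2⟩ : ∃ v, (∀ w ∈ W, polar Q w v = 0) ∧ Q v ≠ 0 := by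
    by_contra hcon
    push Not at hcon
    set Wp := LinearMap.BilinForm.orthogonal (polarBilin Q) W with hWp
    have h1 : ∀ x ∈ Wp, Q x = 0 := fun x hx => hcon x hx
    have h2 : Wp ≤ LinearMap.BilinForm.orthogonal (polarBilin Q) Wp := by
      intro x hx y hy
      exact polar_of_sing h1 hy hx
    rw [hWp, LinearMap.BilinForm.orthogonal_orthogonal (nondegenerate_of_sep hS) (isRefl_pB Q) W]
      at h2
    have h3 := Submodule.finrank_mono h2
    rw [LinearMap.BilinForm.finrank_orthogonal (nondegenerate_of_sep hS)] at h3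
    omega
  refine ⟨v, hv2, ?_⟩
  apply le_antisymm
  · rintro _ ⟨w, hw, rfl⟩
    show reflE Q v w ∈ W
    rw [reflE_of_orth (hv1 w hw)]
    exact hw
  · intro w hw
    exact ⟨w, hw, reflE_of_orth (hv1 w hw)⟩

/-- **Spinor norm fix**: a non-zero totally singular subspace is stabilised by a product of two
reflections with any prescribed product of the values of `Q`. -/
theorem exists_refl_pair (hS : Sep Q) {W : Submodule F V} (hW : ∀ w ∈ W, Q w = 0)
    (hW0 : W ≠ ⊥) {a : F} (ha : a ≠ 0) :
    ∃ v₁ v₂, Q v₁ ≠ 0 ∧ Q v₂ ≠ 0 ∧ Q v₁ * Q v₂ = a ∧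
      W.map ((reflE Q v₁ * reflE Q v₂ : V ≃ₗ[F] V) : V →ₗ[F] V) = W := by
  obtain ⟨w, hwW, hw0⟩ := (Submodule.ne_bot_iff W).mp hW0
  obtain ⟨w', hw'0, hww'⟩ := exists_hyp_pair hS hw0 (hW w hwW)
  have hq1 : Q (w - a • w') = -a := by
    rw [q_sub, q_smul, hW w hwW, hw'0, polar_smul_r, hww']
    ring
  have hq2 : Q (w - w') = -1 := by
    rw [q_sub, hW w hwW, hw'0, hww']
    ring
  refine ⟨w - a • w', w - w', ?_, ?_, ?_, ?_⟩
  · rw [hq1]; exact neg_ne_zero.mpr ha
  · rw [hq2]; exact neg_ne_zero.mpr one_ne_zero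
  · rw [hq1, hq2]; ring
  · apply Submodule.eq_of_le_of_finrank_le
    · rintro _ ⟨x, hx, rfl⟩
      show reflE Q (w - a • w') (reflE Q (w - w') x) ∈ W
      have hxw : polar Q x w = 0 := polar_of_sing hW hx hwW
      have hw'w : polar Q w' w = 1 := by rw [polar_comm]; exact hww'
      have e : reflE Q (w - a • w') (reflE Q (w - w') x)
          = x - (polar Q x w' * (1 - a⁻¹)) • w := by
        rw [reflE_apply, reflE_apply, hq1, hq2]
        simp only [polar_sub_left, polar_sub_right, polar_smul_l, polar_smul_r, polar_self',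
          hW w hwW, hw'0, hxw, hww', hw'w]
        have h1 : ((-1 : F))⁻¹ = -1 := by norm_num
        rw [h1]
        match_scalars
        · ring
        · field_simp
          ring
        · field_simp
          ring
      rw [e]
      exact W.sub_mem hx (W.smul_mem _ hwW)
    · rw [LinearEquiv.finrank_map_eq]

end Cfsg.Agent.Lib.Helper44.TSTrans
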