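import Mathlib
import Cfsg.Agent.Lib.Helper44.Eichler
import Cfsg.Agent.Lib.Helper44.TSTrans
import Cfsg.Agent.Lib.Helper44.CD2a

set_option autoImplicit false

namespace Cfsg.Agent.Lib.Helper44.WittND

open Module QuadraticMap
open Cfsg.Agent.Lib.Helper44.QSpace Cfsg.Agent.Lib.Helper44.OGroup Cfsg.Agent.Lib.Helper44.Parity
open Cfsg.Agent.Lib.Helper44.TSTrans Cfsg.Agent.Lib.Helper44.Eichler
open Cfsg.Agent.Lib.Helper44.CD2a Cfsg.Agent.Lib.Helper44.ReflClass

universe u

variable {F : Type*} [Field F] {V : Type u} [AddCommGroup V] [Module F V]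
variable {Q : QuadraticForm F V}

/-- A subspace on which the polar form is non-degenerate. -/
def NDsub (Q : QuadraticForm F V) (U : Submodule F V) : Prop :=
  ∀ x ∈ U, (∀ y ∈ U, polar Q x y = 0) → x = 0

theorem polar_map {U : Submodule F V} {f : V →ₗ[F] V} (hf : ∀ u ∈ U, Q (f u) = Q u) {x y : V}
    (hx : x ∈ U) (hy : y ∈ U) : polar Q (f x) (f y) = polar Q x y := by
  unfold polar
  rw [← map_add, hf _ (U.add_mem hx hy), hf x hx, hf y hy]

theorem exists_nonsing {U : Submodule F V} (hnd : NDsub Q U) (hU : U ≠ ⊥) :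
    ∃ u ∈ U, Q u ≠ 0 := by
  by_contra hcon
  push Not at hcon
  apply hU
  rw [eq_bot_iff]
  intro x hx
  exact (Submodule.mem_bot F).mpr (hnd x hx (fun y hy => polar_of_sing hcon hx hy))

/-- One step of Witt's theorem in odd characteristic. -/
theorem step_odd (h2 : (2 : F) ≠ 0) {U' : Submodule F V} {u₀ u₁ : V} (hq : Q u₁ = Q u₀)
    (hu₀ : Q u₀ ≠ 0) (h0 : ∀ h ∈ U', polar Q h u₀ = 0) (h1 : ∀ h ∈ U', polar Q h u₁ = 0) :
    ∃ g ∈ O Q, g u₀ = u₁ ∧ ∀ h ∈ U', g h = h := by
  by_cases hne : Q (u₀ - u₁) = 0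
  · have hne' : Q (u₀ + u₁) ≠ 0 := by
      intro h0'
      have := q_sub_add Q u₀ u₁
      rw [hne, h0', hq] at this
      have h4 : (2 : F) * (2 * Q u₀) = 0 := by linear_combination -this
      rcases mul_eq_zero.mp h4 with h5 | h5
      · exact h2 h5
      · rcases mul_eq_zero.mp h5 with h6 | h6
        · exact h2 h6
        · exact hu₀ h6
    refine ⟨reflE Q u₁ * reflE Q (u₀ + u₁), Subgroup.mul_mem _ (reflE_mem Q u₁) (reflE_mem Q _),
      ?_, ?_⟩
    · rw [LinearEquiv.mul_apply, reflE_add hq.symm hne', map_neg, reflE_self (hq ▸ hu₀), neg_neg]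
    · intro h hh
      have e1 : reflE Q (u₀ + u₁) h = h :=
        reflE_of_orth (by rw [polar_add_right, h0 h hh, h1 h hh, add_zero])
      rw [LinearEquiv.mul_apply, e1, reflE_of_orth (h1 h hh)]
  · refine ⟨reflE Q (u₀ - u₁), reflE_mem Q _, reflE_sub hq.symm hne, ?_⟩
    intro h hh
    exact reflE_of_orth (by rw [polar_sub_right, h0 h hh, h1 h hh, sub_zero])

/-- Second half of a step of Witt's theorem in characteristic two. -/
theorem step_two_second [CharP F 2] {U' : Submodule F V} {v w w₁ : V} (hv : Q v ≠ 0)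
    (h1 : polar Q v w = 1) (h2 : polar Q v w₁ = 1) (hq : Q w₁ = Q w)
    (hUv : ∀ h ∈ U', polar Q h v = 0) (hUw : ∀ h ∈ U', polar Q h w = 0)
    (hUw₁ : ∀ h ∈ U', polar Q h w₁ = 0) :
    ∃ g ∈ O Q, g v = v ∧ g w = w₁ ∧ ∀ h ∈ U', g h = h := by
  by_cases hp : polar Q w w₁ = 0
  swap
  · have hne : Q (w - w₁) ≠ 0 := by rw [q_sub_of_eq Q hq.symm]; exact hp
    refine ⟨reflE Q (w - w₁), reflE_mem Q _, ?_, reflE_sub hq.symm hne, ?_⟩
    · exact reflE_of_orth (by rw [polar_sub_right, h1, h2, sub_self])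
    · intro h hh
      exact reflE_of_orth (by rw [polar_sub_right, hUw h hh, hUw₁ h hh, sub_self])
  · set w₂ := reflE Q v w₁ with hw₂
    have hw₂' : w₂ = w₁ - (Q v)⁻¹ • v := by
      rw [hw₂, reflE_apply, polar_comm Q w₁ v, h2, mul_one]
    have hq2 : Q w₂ = Q w := by
      rw [hw₂, reflE_mem Q v w₁, hq]
    have hp2 : polar Q w w₂ = - (Q v)⁻¹ := by
      rw [hw₂', polar_sub_right, polar_smul_r, hp, polar_comm Q w v, h1]
      ring
    have hne : Q (w - w₂) ≠ 0 := by
      rw [q_sub_of_eq Q hq2.symm, hp2]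
      exact neg_ne_zero.mpr (inv_ne_zero hv)
    have hvw₂ : polar Q v w₂ = 1 := by
      rw [hw₂', polar_sub_right, polar_smul_r, polar_self_two, h2]
      ring
    refine ⟨reflE Q v * reflE Q (w - w₂), Subgroup.mul_mem _ (reflE_mem Q v) (reflE_mem Q _),
      ?_, ?_, ?_⟩
    · have e1 : reflE Q (w - w₂) v = v :=
        reflE_of_orth (by rw [polar_sub_right, h1, hvw₂, sub_self])
      rw [LinearEquiv.mul_apply, e1, reflE_self hv, neg_eq_self (F := F)]
    · rw [LinearEquiv.mul_apply, reflE_sub hq2.symm hne, hw₂]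
      exact reflL_reflL Q v w₁
    · intro h hh
      have e1 : polar Q h w₂ = 0 := by
        rw [hw₂', polar_sub_right, polar_smul_r, hUw₁ h hh, hUv h hh]
        ring
      have e2 : reflE Q (w - w₂) h = h :=
        reflE_of_orth (by rw [polar_sub_right, hUw h hh, e1, sub_self])
      rw [LinearEquiv.mul_apply, e2, reflE_of_orth (hUv h hh)]

variable [FiniteDimensional F V]

/-- First half of a step of Witt's theorem in characteristic two. -/
theorem step_two_first [CharP F 2] (hS : Sep Q) {U' : Submodule F V} (hnd : NDsub Q U')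
    {v v₁ : V} (hq : Q v₁ = Q v) (hv : Q v ≠ 0) (h0 : ∀ h ∈ U', polar Q h v = 0)
    (h1 : ∀ h ∈ U', polar Q h v₁ = 0) :
    ∃ g ∈ O Q, g v = v₁ ∧ ∀ h ∈ U', g h = h := by
  by_cases hp : polar Q v v₁ = 0
  swap
  · have hne : Q (v - v₁) ≠ 0 := by rw [q_sub_of_eq Q hq.symm]; exact hp
    refine ⟨reflE Q (v - v₁), reflE_mem Q _, reflE_sub hq.symm hne, ?_⟩
    intro h hh
    exact reflE_of_orth (by rw [polar_sub_right, h0 h hh, h1 h hh, sub_self])
  · set d := v + v₁ with hd
    have hQd : Q d = 0 := by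
      rw [hd, q_add, hq, hp, add_zero, ← two_mul, CharTwo.two_eq_zero, zero_mul]
    have hUd : ∀ h ∈ U', polar Q h d = 0 := by
      intro h hh
      rw [hd, polar_add_right, h0 h hh, h1 h hh, add_zero]
    have hvH : v ∉ U' ⊔ (F ∙ d) := by
      intro hmem
      obtain ⟨h, hh, z, hz, e⟩ := Submodule.mem_sup.mp hmem
      obtain ⟨c, rfl⟩ := Submodule.mem_span_singleton.mp hz
      have hh0 : h = 0 := by
        apply hnd h hh
        intro y hy
        have e' : h = v - c • d := by rw [← e]; abel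
        rw [e', polar_sub_left, polar_smul_l, polar_comm Q v y, h0 y hy, polar_comm Q d y,
          hUd y hy]
        ring
      rw [hh0, zero_add] at e
      apply hv
      rw [← e, q_smul, hQd, mul_zero]
    obtain ⟨a, ha1, ha2⟩ := exists_orth_not hS hvH
    set y := (polar Q a v)⁻¹ • a with hy
    have hyv : polar Q y v = 1 := by
      rw [hy, polar_smul_l]
      exact inv_mul_cancel₀ ha2
    have hdy : polar Q d y = 0 := by
      rw [hy, polar_smul_r,
        ha1 d (Submodule.mem_sup_right (Submodule.mem_span_singleton_self d)), mul_zero]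
    have hUy : ∀ h ∈ U', polar Q y h = 0 := by
      intro h hh
      rw [hy, polar_smul_l, polar_comm Q a h, ha1 h (Submodule.mem_sup_left hh), mul_zero]
    have hdv : polar Q d v = 0 := by
      rw [hd, polar_add_left, polar_self_two, polar_comm Q v₁ v, hp, add_zero]
    refine ⟨eichE Q hQd hdy, eichE_mem Q hQd hdy, ?_, ?_⟩
    · rw [eichE_apply, hdv, hyv, hd]
      have hneg : -(v + v₁) = v + v₁ := neg_eq_self (F := F) (v + v₁)
      simp only [zero_smul, one_smul, mul_zero, add_zero, sub_zero]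
      rw [sub_eq_add_neg, hneg]
      have hvv : v + v = 0 := by
        have h : (2 : F) • v = 0 := by rw [CharTwo.two_eq_zero, zero_smul]
        rwa [two_smul] at h
      calc v + (v + v₁) = (v + v) + v₁ := by abel
        _ = v₁ := by rw [hvv, zero_add]
    · intro h hh
      rw [eichE_apply, polar_comm Q d h, hUd h hh, hUy h hh]
      simp

/-- **Witt's extension theorem for non-degenerate subspaces, odd characteristic.** -/
theorem witt_odd (h2 : (2 : F) ≠ 0) : ∀ (k : ℕ) (U : Submodule F V) (f : V →ₗ[F] V),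
    finrank F U = k → NDsub Q U → (∀ u ∈ U, Q (f u) = Q u) →
    ∃ g ∈ O Q, ∀ u ∈ U, g u = f u := by
  intro k
  induction k with
  | zero =>
    intro U f hk hnd hf
    have hU : U = ⊥ := Submodule.finrank_eq_zero.mp hk
    refine ⟨1, Subgroup.one_mem _, ?_⟩
    intro u hu
    rw [hU, Submodule.mem_bot] at hu
    rw [hu, map_zero, map_zero]
  | succ k ih =>
    intro U f hk hnd hf
    have hU : U ≠ ⊥ := by
      intro h0
      rw [h0, finrank_bot] at hk
      omega
    obtain ⟨u₀, hu₀U, hu₀⟩ := exists_nonsing hnd hU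
    have hpp : polar Q u₀ u₀ ≠ 0 := by
      rw [polar_self']; exact mul_ne_zero h2 hu₀
    set φ : V →ₗ[F] F := polarBilin Q u₀ with hφ
    have hφa : ∀ x, φ x = polar Q u₀ x := fun x => rfl
    have hUker : ¬ U ≤ LinearMap.ker φ := by
      intro h
      apply hpp
      rw [← hφa]
      exact LinearMap.mem_ker.mp (h hu₀U)
    have hU'd : finrank F ↥(U ⊓ LinearMap.ker φ) + 1 = finrank F U := by
      rcases finrank_inf_ker U φ with ⟨h1, -⟩ | ⟨-, h2⟩
      · exact absurd h1 hUker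
      · exact h2
    set U' := U ⊓ LinearMap.ker φ with hU'
    have hU'0 : ∀ h ∈ U', polar Q h u₀ = 0 := by
      intro h hh
      rw [polar_comm, ← hφa]
      exact LinearMap.mem_ker.mp hh.2
    -- decomposition of `U`
    have hdec : ∀ u ∈ U, ∃ h ∈ U', ∃ c : F, u = h + c • u₀ := by
      intro u hu
      refine ⟨u - (polar Q u₀ u / polar Q u₀ u₀) • u₀,
        ⟨U.sub_mem hu (U.smul_mem _ hu₀U), ?_⟩, polar Q u₀ u / polar Q u₀ u₀, by abel⟩
      show φ (u - (polar Q u₀ u / polar Q u₀ u₀) • u₀) = 0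
      rw [hφa, polar_sub_right, polar_smul_r]
      field_simp
      ring
    have hnd' : NDsub Q U' := by
      intro x hx hxy
      apply hnd x hx.1
      intro y hy
      obtain ⟨h, hh, c, rfl⟩ := hdec y hy
      rw [polar_add_right, polar_smul_r, hxy h hh, hU'0 x hx, mul_zero, add_zero]
    obtain ⟨g₀, hg₀, hg₀f⟩ := ih U' f (by omega) hnd' (fun u hu => hf u hu.1)
    set u₁ := g₀.symm (f u₀) with hu₁
    have hg₀u₁ : g₀ u₁ = f u₀ := g₀.apply_symm_apply (f u₀)
    have hq : Q u₁ = Q u₀ := by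
      rw [← hg₀ u₁, hg₀u₁, hf u₀ hu₀U]
    have hU'1 : ∀ h ∈ U', polar Q h u₁ = 0 := by
      intro h hh
      rw [← polar_of_mem_O hg₀ h u₁, hg₀u₁, hg₀f h hh, polar_map hf hh.1 hu₀U]
      exact hU'0 h hh
    obtain ⟨g₁, hg₁, hg₁u, hg₁h⟩ := step_odd h2 hq hu₀ hU'0 hU'1
    refine ⟨g₀ * g₁, Subgroup.mul_mem _ hg₀ hg₁, ?_⟩
    intro u hu
    obtain ⟨h, hh, c, rfl⟩ := hdec u hu
    rw [LinearEquiv.mul_apply, map_add, map_smul, hg₁u, hg₁h h hh, map_add, map_smul, hg₀u₁,
      hg₀f h hh, map_add, map_smul]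

/-- **Witt's extension theorem for non-degenerate subspaces, characteristic two.** -/
theorem witt_two [CharP F 2] (hS : Sep Q) : ∀ (k : ℕ) (U : Submodule F V) (f : V →ₗ[F] V),
    finrank F U = k → NDsub Q U → (∀ u ∈ U, Q (f u) = Q u) →
    ∃ g ∈ O Q, ∀ u ∈ U, g u = f u := by
  intro k
  induction k using Nat.strong_induction_on with
  | _ k ih =>
    intro U f hk hnd hf
    by_cases hU : U = ⊥
    · refine ⟨1, Subgroup.one_mem _, ?_⟩
      intro u hu
      rw [hU, Submodule.mem_bot] at hu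
      rw [hu, map_zero, map_zero]
    obtain ⟨v, hvU, hv⟩ := exists_nonsing hnd hU
    have hv0 : v ≠ 0 := ne_zero_of_q_ne_zero hv
    obtain ⟨w, hwU, hvw⟩ : ∃ w ∈ U, polar Q v w = 1 := by
      obtain ⟨w', hw'U, hw'⟩ : ∃ w' ∈ U, polar Q v w' ≠ 0 := by
        by_contra hcon
        push Not at hcon
        exact hv0 (hnd v hvU hcon)
      refine ⟨(polar Q v w')⁻¹ • w', U.smul_mem _ hw'U, ?_⟩
      rw [polar_smul_r]
      exact inv_mul_cancel₀ hw'
    have hwv : polar Q w v = 1 := by rw [polar_comm]; exact hvw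
    have hvv : polar Q v v = 0 := polar_self_two Q v
    have hww : polar Q w w = 0 := polar_self_two Q w
    set φ : V →ₗ[F] F := polarBilin Q v with hφ
    have hφa : ∀ x, φ x = polar Q v x := fun x => rfl
    set ψ : V →ₗ[F] F := polarBilin Q w with hψ
    have hψa : ∀ x, ψ x = polar Q w x := fun x => rfl
    have hUker : ¬ U ≤ LinearMap.ker φ := by
      intro h
      have := LinearMap.mem_ker.mp (h hwU)
      rw [hφa, hvw] at this
      exact one_ne_zero this
    have hd1 : finrank F ↥(U ⊓ LinearMap.ker φ) + 1 = finrank F U := by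
      rcases finrank_inf_ker U φ with ⟨h1, -⟩ | ⟨-, h2⟩
      · exact absurd h1 hUker
      · exact h2
    have hUker2 : ¬ (U ⊓ LinearMap.ker φ) ≤ LinearMap.ker ψ := by
      intro h
      have hmem : v ∈ U ⊓ LinearMap.ker φ := ⟨hvU, by show φ v = 0; rw [hφa]; exact hvv⟩
      have := LinearMap.mem_ker.mp (h hmem)
      rw [hψa, hwv] at this
      exact one_ne_zero this
    have hd2 : finrank F ↥((U ⊓ LinearMap.ker φ) ⊓ LinearMap.ker ψ) + 1
        = finrank F ↥(U ⊓ LinearMap.ker φ) := by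
      rcases finrank_inf_ker (U ⊓ LinearMap.ker φ) ψ with ⟨h1, -⟩ | ⟨-, h2⟩
      · exact absurd h1 hUker2
      · exact h2
    set U' := (U ⊓ LinearMap.ker φ) ⊓ LinearMap.ker ψ with hU'
    have hU'v : ∀ h ∈ U', polar Q h v = 0 := by
      intro h hh
      rw [polar_comm, ← hφa]
      exact LinearMap.mem_ker.mp hh.1.2
    have hU'w : ∀ h ∈ U', polar Q h w = 0 := by
      intro h hh
      rw [polar_comm, ← hψa]
      exact LinearMap.mem_ker.mp hh.2
    have hU'U : U' ≤ U := fun x hx => hx.1.1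
    have hdec : ∀ u ∈ U, ∃ h ∈ U', ∃ a b : F, u = h + a • v + b • w := by
      intro u hu
      refine ⟨u - polar Q w u • v - polar Q v u • w,
        ⟨⟨U.sub_mem (U.sub_mem hu (U.smul_mem _ hvU)) (U.smul_mem _ hwU), ?_⟩, ?_⟩,
        polar Q w u, polar Q v u, by abel⟩
      · show φ (u - polar Q w u • v - polar Q v u • w) = 0
        rw [hφa, polar_sub_right, polar_sub_right, polar_smul_r, polar_smul_r, hvv, hvw]
        ring
      · show ψ (u - polar Q w u • v - polar Q v u • w) = 0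
        rw [hψa, polar_sub_right, polar_sub_right, polar_smul_r, polar_smul_r, hww, hwv]
        ring
    have hnd' : NDsub Q U' := by
      intro x hx hxy
      apply hnd x (hU'U hx)
      intro y hy
      obtain ⟨h, hh, a, b, rfl⟩ := hdec y hy
      rw [polar_add_right, polar_add_right, polar_smul_r, polar_smul_r, hxy h hh, hU'v x hx,
        hU'w x hx]
      ring
    obtain ⟨g₀, hg₀, hg₀f⟩ := ih (finrank F U') (by omega) U' f rfl hnd'
      (fun u hu => hf u (hU'U hu))
    -- first vector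
    set v₁ := g₀.symm (f v) with hv₁
    have hg₀v₁ : g₀ v₁ = f v := g₀.apply_symm_apply (f v)
    have hq : Q v₁ = Q v := by
      rw [← hg₀ v₁, hg₀v₁, hf v hvU]
    have hU'1 : ∀ h ∈ U', polar Q h v₁ = 0 := by
      intro h hh
      rw [← polar_of_mem_O hg₀ h v₁, hg₀v₁, hg₀f h hh, polar_map hf (hU'U hh) hvU]
      exact hU'v h hh
    obtain ⟨g₁, hg₁, hg₁v, hg₁h⟩ := step_two_first hS hnd' hq hv hU'v hU'1
    -- second vector
    set w₁ := g₁.symm (g₀.symm (f w)) with hw₁
    have hg₁w₁ : g₀ (g₁ w₁) = f w := by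
      rw [hw₁, g₁.apply_symm_apply, g₀.apply_symm_apply]
    have hqw : Q w₁ = Q w := by
      rw [← hg₁ w₁, ← hg₀ (g₁ w₁), hg₁w₁, hf w hwU]
    have hvw₁ : polar Q v w₁ = 1 := by
      rw [← polar_of_mem_O hg₁ v w₁, ← polar_of_mem_O hg₀ (g₁ v) (g₁ w₁), hg₁w₁, hg₁v, hg₀v₁,
        polar_map hf hvU hwU]
      exact hvw
    have hU'w₁ : ∀ h ∈ U', polar Q h w₁ = 0 := by
      intro h hh
      rw [← polar_of_mem_O hg₁ h w₁, ← polar_of_mem_O hg₀ (g₁ h) (g₁ w₁), hg₁w₁, hg₁h h hh,
        hg₀f h hh, polar_map hf (hU'U hh) hwU]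
      exact hU'w h hh
    obtain ⟨g₂, hg₂, hg₂v, hg₂w, hg₂h⟩ := step_two_second hv hvw hvw₁ hqw hU'v hU'w hU'w₁
    refine ⟨g₀ * (g₁ * g₂), Subgroup.mul_mem _ hg₀ (Subgroup.mul_mem _ hg₁ hg₂), ?_⟩
    intro u hu
    obtain ⟨h, hh, a, b, rfl⟩ := hdec u hu
    have e1 : (g₀ * (g₁ * g₂)) h = f h := by
      rw [LinearEquiv.mul_apply, LinearEquiv.mul_apply, hg₂h h hh, hg₁h h hh, hg₀f h hh]
    have e2 : (g₀ * (g₁ * g₂)) v = f v := by
      rw [LinearEquiv.mul_apply, LinearEquiv.mul_apply, hg₂v, hg₁v, hg₀v₁]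
    have e3 : (g₀ * (g₁ * g₂)) w = f w := by
      rw [LinearEquiv.mul_apply, LinearEquiv.mul_apply, hg₂w, hg₁w₁]
    rw [map_add, map_add, map_smul, map_smul, e1, e2, e3, map_add, map_add, map_smul, map_smul]

end Cfsg.Agent.Lib.Helper44.WittND
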