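import Mathlib
import Cfsg.Agent.Lib.Helper44.WittND
import Cfsg.Agent.Lib.Helper44.Siegel

set_option autoImplicit false

namespace Cfsg.Agent.Lib.Helper44.Inv1

open Module QuadraticMap
open Cfsg.Agent.Lib.Helper44.QSpace Cfsg.Agent.Lib.Helper44.OGroup Cfsg.Agent.Lib.Helper44.Parity
open Cfsg.Agent.Lib.Helper44.CD2a

universe u

variable {F : Type*} [Field F] {V : Type u} [AddCommGroup V] [Module F V]
variable {Q : QuadraticForm F V}

/-- The map `t - 1` of an isometry. -/
def nil (t : V ≃ₗ[F] V) : V →ₗ[F] V := (t : V →ₗ[F] V) - LinearMap.id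

theorem nil_apply (t : V ≃ₗ[F] V) (v : V) : nil t v = t v - v := rfl

theorem apply_eq (t : V ≃ₗ[F] V) (v : V) : t v = v + nil t v := by
  rw [nil_apply]; abel

theorem nil_eq_zero_iff (t : V ≃ₗ[F] V) (v : V) : nil t v = 0 ↔ t v = v := by
  rw [nil_apply, sub_eq_zero]

theorem ker_nil (t : V ≃ₗ[F] V) : LinearMap.ker (nil t) = fixS t := rfl

/-- The rank of `t - 1`. -/
noncomputable def rk (t : V ≃ₗ[F] V) : ℕ := finrank F (LinearMap.range (nil t))

/-- Type `a`: `Q` vanishes on the image of `t - 1`. -/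
def IsA (Q : QuadraticForm F V) (t : V ≃ₗ[F] V) : Prop := ∀ v, Q (nil t v) = 0

theorem rk_add_finrank_fix [FiniteDimensional F V] (t : V ≃ₗ[F] V) :
    rk t + finrank F (fixS t) = finrank F V :=
  LinearMap.finrank_range_add_finrank_ker (nil t)

theorem nil_conj (g t : V ≃ₗ[F] V) (v : V) : nil (g * t * g⁻¹) v = g (nil t (g⁻¹ v)) := by
  rw [nil_apply, nil_apply, map_sub]
  have e : g (g⁻¹ v) = v := g.apply_symm_apply v
  rw [e]
  rfl

theorem rk_conj (g t : V ≃ₗ[F] V) : rk (g * t * g⁻¹) = rk t := by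
  unfold rk
  have e : LinearMap.range (nil (g * t * g⁻¹))
      = (LinearMap.range (nil t)).map (g : V →ₗ[F] V) := by
    ext x
    constructor
    · rintro ⟨v, rfl⟩
      exact ⟨nil t (g⁻¹ v), ⟨g⁻¹ v, rfl⟩, (nil_conj g t v).symm⟩
    · rintro ⟨_, ⟨v, rfl⟩, rfl⟩
      refine ⟨g v, ?_⟩
      rw [nil_conj]
      have e : g⁻¹ (g v) = v := g.symm_apply_apply v
      rw [e]
      rfl
  rw [e, LinearEquiv.finrank_map_eq]

theorem isA_conj {g : V ≃ₗ[F] V} (hg : g ∈ O Q) (t : V ≃ₗ[F] V) :
    IsA Q (g * t * g⁻¹) ↔ IsA Q t := by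
  constructor
  · intro h v
    have := h (g v)
    rw [nil_conj, hg] at this
    have e : g⁻¹ (g v) = v := g.symm_apply_apply v
    rwa [e] at this
  · intro h v
    rw [nil_conj, hg]
    exact h _

theorem nil_one : nil (1 : V ≃ₗ[F] V) = 0 := by
  apply LinearMap.ext
  intro v
  rw [nil_apply]
  simp

theorem eq_one_of_nil {t : V ≃ₗ[F] V} (h : ∀ v, nil t v = 0) : t = 1 := by
  apply LinearEquiv.ext
  intro v
  exact (nil_eq_zero_iff t v).mp (h v)

theorem add_self_two (F : Type*) [Field F] [CharP F 2] {V : Type*} [AddCommGroup V] [Module F V]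
    (x : V) : x + x = 0 := by
  have h : (2 : F) • x = 0 := by rw [CharTwo.two_eq_zero, zero_smul]
  rwa [two_smul] at h

variable {t : V ≃ₗ[F] V}

theorem apply_apply (ht : t * t = 1) (v : V) : t (t v) = v :=
  congrArg (fun s : V ≃ₗ[F] V => s v) ht

theorem q_nil_smul (c : F) (x : V) : Q (nil t (c • x)) = c * c * Q (nil t x) := by
  rw [map_smul, q_smul]

section chartwo

variable [CharP F 2]

theorem nil_nil (ht : t * t = 1) (v : V) : nil t (nil t v) = 0 := by
  have e : t (t v) = v := by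
    have := congrArg (fun s : V ≃ₗ[F] V => s v) ht
    exact this
  rw [nil_apply, nil_apply, map_sub, e]
  have : v - t v - (t v - v) = (v - t v) + (v - t v) := by abel
  rw [this]
  exact add_self_two F _

omit [CharP F 2] in
/-- `t - 1` is self-adjoint for the polar form. -/
theorem polar_nil (hO : t ∈ O Q) (ht : t * t = 1) (x y : V) :
    polar Q (nil t x) y = polar Q x (nil t y) := by
  rw [nil_apply, nil_apply, polar_sub_left, polar_sub_right]
  have : polar Q (t x) y = polar Q x (t y) := by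
    rw [← polar_of_mem_O hO (t x) y, apply_apply ht]
  rw [this]

theorem polar_nil_nil (hO : t ∈ O Q) (ht : t * t = 1) (x y : V) :
    polar Q (nil t x) (nil t y) = 0 := by
  rw [polar_nil hO ht, nil_nil ht]
  simp

theorem polar_self_nil (hO : t ∈ O Q) (v : V) : polar Q v (nil t v) = Q (nil t v) := by
  have h := hO v
  rw [apply_eq t v, q_add] at h
  have h2 : Q (nil t v) + polar Q v (nil t v) = 0 := by linear_combination h
  have h3 : Q (nil t v) + Q (nil t v) = 0 := CharTwo.add_self_eq_zero _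
  linear_combination h2 - h3

theorem q_nil_add (hO : t ∈ O Q) (ht : t * t = 1) (x y : V) :
    Q (nil t (x + y)) = Q (nil t x) + Q (nil t y) := by
  rw [map_add, q_add, polar_nil_nil hO ht, add_zero]

omit [CharP F 2] in
/-- Vectors fixed by `t` are orthogonal to the image of `t - 1`. -/
theorem polar_nil_of_fix (hO : t ∈ O Q) (ht : t * t = 1) {z : V} (hz : t z = z) (x : V) :
    polar Q z (nil t x) = 0 := by
  rw [← polar_nil hO ht, (nil_eq_zero_iff t z).mpr hz]
  simp

theorem apply_nil (ht : t * t = 1) (v : V) : t (nil t v) = nil t v :=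
  (nil_eq_zero_iff t _).mp (nil_nil ht v)

end chartwo

end Cfsg.Agent.Lib.Helper44.Inv1
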