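import Mathlib
import Cfsg.Agent.Lib.Helper44.Inv1

set_option autoImplicit false

namespace Cfsg.Agent.Lib.Helper44.Inv2

open Module QuadraticMap
open Cfsg.Agent.Lib.Helper44.QSpace Cfsg.Agent.Lib.Helper44.OGroup Cfsg.Agent.Lib.Helper44.Parity
open Cfsg.Agent.Lib.Helper44.CD2a Cfsg.Agent.Lib.Helper44.WittND Cfsg.Agent.Lib.Helper44.Eichler
open Cfsg.Agent.Lib.Helper44.TSTrans Cfsg.Agent.Lib.Helper44.Inv1

universe u

variable {F : Type*} [Field F] {V : Type u} [AddCommGroup V] [Module F V]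
variable {Q : QuadraticForm F V}

/-- A standard four-dimensional hyperbolic block `⟨u, w'⟩ ⟂ ⟨u', w⟩` orthogonal to `Z`. -/
structure Blk (Q : QuadraticForm F V) (Z : Submodule F V) (u u' w w' : V) : Prop where
  uZ : ∀ z ∈ Z, polar Q z u = 0
  u'Z : ∀ z ∈ Z, polar Q z u' = 0
  wZ : ∀ z ∈ Z, polar Q z w = 0
  w'Z : ∀ z ∈ Z, polar Q z w' = 0
  qu : Q u = 0
  qu' : Q u' = 0
  qw : Q w = 0
  qw' : Q w' = 0
  uu' : polar Q u u' = 0
  uw : polar Q u w = 0
  uw' : polar Q u w' = 1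
  u'w : polar Q u' w = 1
  u'w' : polar Q u' w' = 0
  ww' : polar Q w w' = 0

/-- The span of `Z` and a block. -/
def blockSup (Z : Submodule F V) (u u' w w' : V) : Submodule F V where
  carrier := {x | ∃ z ∈ Z, ∃ a b c d : F, x = z + a • u + b • u' + c • w + d • w'}
  add_mem' := by
    rintro _ _ ⟨z₁, hz₁, a₁, b₁, c₁, d₁, rfl⟩ ⟨z₂, hz₂, a₂, b₂, c₂, d₂, rfl⟩
    exact ⟨z₁ + z₂, Z.add_mem hz₁ hz₂, a₁ + a₂, b₁ + b₂, c₁ + c₂, d₁ + d₂, by module⟩
  zero_mem' := ⟨0, Z.zero_mem, 0, 0, 0, 0, by simp⟩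
  smul_mem' := by
    rintro r _ ⟨z, hz, a, b, c, d, rfl⟩
    exact ⟨r • z, Z.smul_mem r hz, r * a, r * b, r * c, r * d, by module⟩

theorem mem_blockSup {Z : Submodule F V} {u u' w w' x : V} :
    x ∈ blockSup Z u u' w w' ↔
      ∃ z ∈ Z, ∃ a b c d : F, x = z + a • u + b • u' + c • w + d • w' := Iff.rfl

theorem le_blockSup (Z : Submodule F V) (u u' w w' : V) : Z ≤ blockSup Z u u' w w' := by
  intro z hz
  exact ⟨z, hz, 0, 0, 0, 0, by simp⟩

theorem u_mem_blockSup (Z : Submodule F V) (u u' w w' : V) : u ∈ blockSup Z u u' w w' :=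
  ⟨0, Z.zero_mem, 1, 0, 0, 0, by simp⟩

theorem u'_mem_blockSup (Z : Submodule F V) (u u' w w' : V) : u' ∈ blockSup Z u u' w w' :=
  ⟨0, Z.zero_mem, 0, 1, 0, 0, by simp⟩

theorem w_mem_blockSup (Z : Submodule F V) (u u' w w' : V) : w ∈ blockSup Z u u' w w' :=
  ⟨0, Z.zero_mem, 0, 0, 1, 0, by simp⟩

theorem w'_mem_blockSup (Z : Submodule F V) (u u' w w' : V) : w' ∈ blockSup Z u u' w w' :=
  ⟨0, Z.zero_mem, 0, 0, 0, 1, by simp⟩

section chartwo

variable [CharP F 2] {Z : Submodule F V} {u u' w w' : V}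

/-- The pairings of a vector of the block sum with the block. -/
theorem Blk.pair (B : Blk Q Z u u' w w') {z : V} (hz : z ∈ Z) (a b c d : F) :
    polar Q (z + a • u + b • u' + c • w + d • w') u = d ∧
    polar Q (z + a • u + b • u' + c • w + d • w') u' = c ∧
    polar Q (z + a • u + b • u' + c • w + d • w') w = b ∧
    polar Q (z + a • u + b • u' + c • w + d • w') w' = a := by
  have huu : polar Q u u = 0 := polar_self_two Q u
  have hu'u' : polar Q u' u' = 0 := polar_self_two Q u'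
  have hww : polar Q w w = 0 := polar_self_two Q w
  have hw'w' : polar Q w' w' = 0 := polar_self_two Q w'
  have hu'u : polar Q u' u = 0 := by rw [polar_comm]; exact B.uu'
  have hwu : polar Q w u = 0 := by rw [polar_comm]; exact B.uw
  have hw'u : polar Q w' u = 1 := by rw [polar_comm]; exact B.uw'
  have hwu' : polar Q w u' = 1 := by rw [polar_comm]; exact B.u'w
  have hw'u' : polar Q w' u' = 0 := by rw [polar_comm]; exact B.u'w'
  have hw'w : polar Q w' w = 0 := by rw [polar_comm]; exact B.ww'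
  refine ⟨?_, ?_, ?_, ?_⟩
  · simp only [polar_add_left, polar_smul_l, B.uZ z hz, huu, hu'u, hwu, hw'u]
    ring
  · simp only [polar_add_left, polar_smul_l, B.u'Z z hz, B.uu', hu'u', hwu', hw'u']
    ring
  · simp only [polar_add_left, polar_smul_l, B.wZ z hz, B.uw, B.u'w, hww, hw'w]
    ring
  · simp only [polar_add_left, polar_smul_l, B.w'Z z hz, B.uw', B.u'w', B.ww', hw'w']
    ring

omit [CharP F 2] in
/-- The value of `Q` on the block sum. -/
theorem Blk.q (B : Blk Q Z u u' w w') {z : V} (hz : z ∈ Z) (a b c d : F) :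
    Q (z + a • u + b • u' + c • w + d • w') = Q z + a * d + b * c := by
  rw [q_add, q_add, q_add, q_add, q_smul, q_smul, q_smul, q_smul, B.qu, B.qu', B.qw, B.qw']
  simp only [polar_add_left, polar_smul_l, polar_smul_r, B.uZ z hz, B.u'Z z hz, B.wZ z hz,
    B.w'Z z hz, B.uu', B.uw, B.uw', B.u'w, B.u'w', B.ww']
  ring

/-- The block sum of a non-degenerate subspace with a block is non-degenerate. -/
theorem Blk.ndsub (B : Blk Q Z u u' w w') (hZ : NDsub Q Z) : NDsub Q (blockSup Z u u' w w') := by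
  rintro x ⟨z, hz, a, b, c, d, rfl⟩ hx
  obtain ⟨p1, p2, p3, p4⟩ := B.pair hz a b c d
  have hd : d = 0 := by rw [← p1]; exact hx u (u_mem_blockSup Z u u' w w')
  have hc : c = 0 := by rw [← p2]; exact hx u' (u'_mem_blockSup Z u u' w w')
  have hb : b = 0 := by rw [← p3]; exact hx w (w_mem_blockSup Z u u' w w')
  have ha : a = 0 := by rw [← p4]; exact hx w' (w'_mem_blockSup Z u u' w w')
  subst ha hb hc hd
  have hz0 : z = 0 := by
    apply hZ z hz
    intro y hy
    have := hx y (le_blockSup Z u u' w w' hy)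
    simpa using this
  rw [hz0]
  simp

omit [CharP F 2] in
/-- Decomposition of a vector along a non-degenerate subspace and its orthogonal complement. -/
theorem exists_decomp [FiniteDimensional F V] (hS : Sep Q) (hZ : NDsub Q Z) (v : V) :
    ∃ z ∈ Z, ∀ z' ∈ Z, polar Q z' (v - z) = 0 := by
  set Zp := LinearMap.BilinForm.orthogonal (polarBilin Q) Z with hZp
  have hinf : Z ⊓ Zp = ⊥ := by
    rw [eq_bot_iff]
    rintro x ⟨hx1, hx2⟩
    rw [Submodule.mem_bot]
    apply hZ x hx1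
    intro y hy
    rw [polar_comm]
    exact hx2 y hy
  have hfr := LinearMap.BilinForm.finrank_orthogonal (nondegenerate_of_sep hS) Z
  have hsup : Z ⊔ Zp = ⊤ := by
    apply Submodule.eq_top_of_finrank_eq
    have h1 := Submodule.finrank_sup_add_finrank_inf_eq Z Zp
    rw [hinf, finrank_bot] at h1
    have h2 := Submodule.finrank_le Z
    rw [← hZp] at hfr
    omega
  have hv : v ∈ Z ⊔ Zp := by rw [hsup]; exact Submodule.mem_top
  obtain ⟨z, hz, y, hy, rfl⟩ := Submodule.mem_sup.mp hv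
  refine ⟨z, hz, ?_⟩
  intro z' hz'
  have : z + y - z = y := by abel
  rw [this]
  exact hy z' hz'

/-- Two blocks orthogonal to `Z` are mapped to one another by an isometry fixing `Z`. -/
theorem exists_transport [FiniteDimensional F V] (hS : Sep Q) (hZ : NDsub Q Z)
    {v v' x x' : V} (B : Blk Q Z u u' w w') (B' : Blk Q Z v v' x x') :
    ∃ g ∈ O Q, (∀ z ∈ Z, g z = z) ∧ g u = v ∧ g u' = v' ∧ g w = x ∧ g w' = x' := by
  set L : V →ₗ[F] V := LinearMap.id + (polarBilin Q w').smulRight (v - u)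
    + (polarBilin Q u).smulRight (x' - w') + (polarBilin Q w).smulRight (v' - u')
    + (polarBilin Q u').smulRight (x - w) with hL
  have hLa : ∀ y, L y = y + polar Q w' y • (v - u) + polar Q u y • (x' - w')
      + polar Q w y • (v' - u') + polar Q u' y • (x - w) := by
    intro y
    simp [hL]
  have key : ∀ z ∈ Z, ∀ a b c d : F, L (z + a • u + b • u' + c • w + d • w')
      = z + a • v + b • v' + c • x + d • x' := by
    intro z hz a b c d
    obtain ⟨p1, p2, p3, p4⟩ := B.pair hz a b c d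
    rw [hLa, polar_comm Q w', p4, polar_comm Q u, p1, polar_comm Q w, p3, polar_comm Q u', p2]
    module
  have hLQ : ∀ y ∈ blockSup Z u u' w w', Q (L y) = Q y := by
    rintro _ ⟨z, hz, a, b, c, d, rfl⟩
    rw [key z hz, B.q hz, B'.q hz]
  obtain ⟨g, hg, hgL⟩ := witt_two hS _ (blockSup Z u u' w w') L rfl (B.ndsub hZ) hLQ
  refine ⟨g, hg, ?_, ?_, ?_, ?_, ?_⟩
  · intro z hz
    rw [hgL z (le_blockSup Z u u' w w' hz)]
    have := key z hz 0 0 0 0
    simpa using this
  · rw [hgL u (u_mem_blockSup Z u u' w w')]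
    have := key 0 Z.zero_mem 1 0 0 0
    simpa using this
  · rw [hgL u' (u'_mem_blockSup Z u u' w w')]
    have := key 0 Z.zero_mem 0 1 0 0
    simpa using this
  · rw [hgL w (w_mem_blockSup Z u u' w w')]
    have := key 0 Z.zero_mem 0 0 1 0
    simpa using this
  · rw [hgL w' (w'_mem_blockSup Z u u' w w')]
    have := key 0 Z.zero_mem 0 0 0 1
    simpa using this

variable {t : V ≃ₗ[F] V}

/-- From a pair `u, u'` of vectors with `Q((t-1)u) = Q((t-1)u') = 0` and `f(u, (t-1)u') ≠ 0`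
to a standard block adapted to the involution `t`. -/
theorem exists_adapted [FiniteDimensional F V] (hS : Sep Q) (hO : t ∈ O Q) (ht : t * t = 1)
    (hZ : NDsub Q Z) (hfix : ∀ z ∈ Z, t z = z) {u₀ u₀' : V}
    (h : polar Q u₀ (nil t u₀') ≠ 0) (hq : Q (nil t u₀) = 0) (hq' : Q (nil t u₀') = 0) :
    ∃ u u', Blk Q Z u u' (nil t u) (nil t u') := by
  have hnz : ∀ z ∈ Z, nil t z = 0 := fun z hz => (nil_eq_zero_iff t z).mpr (hfix z hz)
  have hZn : ∀ z ∈ Z, ∀ y, polar Q z (nil t y) = 0 :=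
    fun z hz y => polar_nil_of_fix hO ht (hfix z hz) y
  obtain ⟨z₁, hz₁, hz₁'⟩ := exists_decomp hS hZ ((polar Q u₀ (nil t u₀'))⁻¹ • u₀)
  obtain ⟨z₂, hz₂, hz₂'⟩ := exists_decomp hS hZ u₀'
  set a₁ := (polar Q u₀ (nil t u₀'))⁻¹ • u₀ - z₁ with ha₁
  set a₂ := u₀' - z₂ with ha₂
  have hw₁ : nil t a₁ = (polar Q u₀ (nil t u₀'))⁻¹ • nil t u₀ := by
    rw [ha₁, map_sub, map_smul, hnz z₁ hz₁, sub_zero]
  have hw₂ : nil t a₂ = nil t u₀' := by
    rw [ha₂, map_sub, hnz z₂ hz₂, sub_zero]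
  have W1 : Q (nil t a₁) = 0 := by rw [hw₁, q_smul, hq, mul_zero]
  have W2 : Q (nil t a₂) = 0 := by rw [hw₂]; exact hq'
  have P : polar Q a₁ (nil t a₂) = 1 := by
    rw [hw₂, ha₁, polar_sub_left, polar_smul_l, hZn z₁ hz₁, sub_zero]
    exact inv_mul_cancel₀ h
  have P' : polar Q a₂ (nil t a₁) = 1 := by
    rw [← polar_nil hO ht, polar_comm]
    exact P
  -- make the vectors singular
  set b₁ := a₁ + Q a₁ • nil t a₂ with hb₁
  set b₂ := a₂ + Q a₂ • nil t a₁ with hb₂
  have hn₁ : nil t b₁ = nil t a₁ := by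
    rw [hb₁, map_add, map_smul, nil_nil ht, smul_zero, add_zero]
  have hn₂ : nil t b₂ = nil t a₂ := by
    rw [hb₂, map_add, map_smul, nil_nil ht, smul_zero, add_zero]
  have hQb₁ : Q b₁ = 0 := by
    rw [hb₁, q_add, q_smul, W2, polar_smul_r, P, mul_zero, add_zero, mul_one]
    exact CharTwo.add_self_eq_zero _
  have hQb₂ : Q b₂ = 0 := by
    rw [hb₂, q_add, q_smul, W1, polar_smul_r, P', mul_zero, add_zero, mul_one]
    exact CharTwo.add_self_eq_zero _
  have hP₁ : polar Q b₁ (nil t b₂) = 1 := by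
    rw [hn₂, hb₁, polar_add_left, polar_smul_l, P, polar_nil_nil hO ht, mul_zero, add_zero]
  have hZb₁ : ∀ z ∈ Z, polar Q z b₁ = 0 := by
    intro z hz
    rw [hb₁, polar_add_right, polar_smul_r, hz₁' z hz, hZn z hz, mul_zero, add_zero]
  have hZb₂ : ∀ z ∈ Z, polar Q z b₂ = 0 := by
    intro z hz
    rw [hb₂, polar_add_right, polar_smul_r, hz₂' z hz, hZn z hz, mul_zero, add_zero]
  -- make them orthogonal
  set c₁ := b₁ + polar Q b₁ b₂ • nil t b₁ with hc₁
  have hn₁' : nil t c₁ = nil t b₁ := by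
    rw [hc₁, map_add, map_smul, nil_nil ht, smul_zero, add_zero]
  have hW₁ : Q (nil t b₁) = 0 := by rw [hn₁]; exact W1
  have hW₂ : Q (nil t b₂) = 0 := by rw [hn₂]; exact W2
  have hQc₁ : Q c₁ = 0 := by
    rw [hc₁, q_add, q_smul, hW₁, polar_smul_r, polar_self_nil hO, hW₁, hQb₁]
    ring
  have hc₁b₂ : polar Q c₁ b₂ = 0 := by
    rw [hc₁, polar_add_left, polar_smul_l, polar_nil hO ht, hP₁, mul_one]
    exact CharTwo.add_self_eq_zero _
  have hc₁w : polar Q c₁ (nil t b₂) = 1 := by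
    rw [hc₁, polar_add_left, polar_smul_l, polar_nil_nil hO ht, hP₁, mul_zero, add_zero]
  refine ⟨c₁, b₂, ?_⟩
  rw [hn₁']
  refine ⟨?_, hZb₂, fun z hz => hZn z hz _, fun z hz => hZn z hz _, hQc₁, hQb₂, hW₁, hW₂, hc₁b₂,
    ?_, hc₁w, ?_, ?_, polar_nil_nil hO ht _ _⟩
  · intro z hz
    rw [hc₁, polar_add_right, polar_smul_r, hZb₁ z hz, hZn z hz, mul_zero, add_zero]
  · rw [← hn₁', polar_self_nil hO, hn₁']
    exact hW₁
  · rw [← polar_nil hO ht, polar_comm]
    exact hP₁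
  · rw [polar_self_nil hO]
    exact hW₂

end chartwo

end Cfsg.Agent.Lib.Helper44.Inv2
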