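import Mathlib
import Cfsg.Agent.Lib.Helper44.Inv2

set_option autoImplicit false

namespace Cfsg.Agent.Lib.Helper44.Inv3

open Module QuadraticMap
open Cfsg.Agent.Lib.Helper44.QSpace Cfsg.Agent.Lib.Helper44.OGroup Cfsg.Agent.Lib.Helper44.Parity
open Cfsg.Agent.Lib.Helper44.CD2a Cfsg.Agent.Lib.Helper44.WittND Cfsg.Agent.Lib.Helper44.Eichler
open Cfsg.Agent.Lib.Helper44.TSTrans Cfsg.Agent.Lib.Helper44.Inv1 Cfsg.Agent.Lib.Helper44.Inv2
open Cfsg.Agent.Lib.Helper44.Siegel

universe u

variable {F : Type*} [Field F] {V : Type u} [AddCommGroup V] [Module F V]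
variable {Q : QuadraticForm F V}

theorem eichE_congr {d d' y y' : V} (hd : Q d = 0) (hdy : polar Q d y = 0) (hd' : Q d' = 0)
    (hdy' : polar Q d' y' = 0) (e1 : d = d') (e2 : y = y') :
    eichE Q hd hdy = eichE Q hd' hdy' := by
  subst e1 e2
  rfl

/-- Conjugating an Eichler transformation. -/
theorem conj_eichE {g : V ≃ₗ[F] V} (hg : g ∈ O Q) {d y d' y' : V} (hd : Q d = 0)
    (hdy : polar Q d y = 0) (hd' : Q d' = 0) (hdy' : polar Q d' y' = 0) (e1 : g d = d')
    (e2 : g y = y') : g * eichE Q hd hdy * g⁻¹ = eichE Q hd' hdy' := by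
  subst e1 e2
  exact congrArg Subtype.val (conj_eich hd hdy ⟨g, hg⟩ hd' hdy')

section chartwo

variable [CharP F 2] {Z : Submodule F V} {t : V ≃ₗ[F] V} {u u' : V}

/-- The Siegel transformation attached to two singular orthogonal vectors is an involution. -/
theorem eichE_sq {w w' : V} (hw : Q w = 0) (hww' : polar Q w w' = 0) (hw' : Q w' = 0) :
    eichE Q hw hww' * eichE Q hw hww' = 1 := by
  apply LinearEquiv.ext
  intro x
  show eichE Q hw hww' (eichE Q hw hww' x) = x
  have hw'w : polar Q w' w = 0 := by rw [polar_comm]; exact hww'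
  have h1 : polar Q w (eichE Q hw hww' x) = polar Q w x := by
    rw [eichE_apply]
    simp only [polar_add_right, polar_sub_right, polar_smul_r, polar_self_two, hww']
    ring
  have h2 : polar Q w' (eichE Q hw hww' x) = polar Q w' x := by
    rw [eichE_apply]
    simp only [polar_add_right, polar_sub_right, polar_smul_r, polar_self_two, hw'w]
    ring
  rw [eichE_apply Q hw hww' (eichE Q hw hww' x), h1, h2, eichE_apply, hw']
  have e : x + polar Q w x • w' - polar Q w' x • w - (0 * polar Q w x) • w
      + polar Q w x • w' - polar Q w' x • w - (0 * polar Q w x) • w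
      = x + (2 : F) • (polar Q w x • w' - polar Q w' x • w) := by module
  rw [e, CharTwo.two_eq_zero, zero_smul, add_zero]

variable (hO : t ∈ O Q) (ht : t * t = 1) (B : Blk Q Z u u' (nil t u) (nil t u'))

include hO ht B in
/-- The nilpotent part of the complementary factor. -/
theorem nil_factor (x : V) :
    nil (eichE Q B.qw B.ww' * t) x
      = nil t x + polar Q (nil t u) x • nil t u' - polar Q (nil t u') x • nil t u := by
  have h1 : polar Q (nil t u) (t x) = polar Q (nil t u) x := by
    rw [← polar_of_mem_O hO (nil t u) x, apply_nil ht]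
  have h2 : polar Q (nil t u') (t x) = polar Q (nil t u') x := by
    rw [← polar_of_mem_O hO (nil t u') x, apply_nil ht]
  rw [nil_apply, LinearEquiv.mul_apply, eichE_apply, B.qw', h1, h2, nil_apply t x]
  module

include hO ht B in
theorem nil_factor_eq_zero {y : V} (h0 : nil t y = 0) (h1 : polar Q (nil t u) y = 0)
    (h2 : polar Q (nil t u') y = 0) : nil (eichE Q B.qw B.ww' * t) y = 0 := by
  rw [nil_factor hO ht B, h0, h1, h2]
  simp

include hO ht B in
theorem nil_factor_fix {z : V} (hz : z ∈ Z) (htz : t z = z) :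
    nil (eichE Q B.qw B.ww' * t) z = 0 := by
  apply nil_factor_eq_zero hO ht B ((nil_eq_zero_iff t z).mpr htz)
  · rw [polar_comm]; exact B.wZ z hz
  · rw [polar_comm]; exact B.w'Z z hz

include hO ht B in
theorem nil_factor_u : nil (eichE Q B.qw B.ww' * t) u = 0 := by
  rw [nil_factor hO ht B, polar_comm Q (nil t u) u, B.uw, polar_comm Q (nil t u') u, B.uw']
  simp

include hO ht B in
theorem nil_factor_u' : nil (eichE Q B.qw B.ww' * t) u' = 0 := by
  rw [nil_factor hO ht B, polar_comm Q (nil t u) u', B.u'w, polar_comm Q (nil t u') u', B.u'w']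
  simp only [one_smul, zero_smul, sub_zero]
  exact add_self_two F _

include hO ht B in
theorem nil_factor_w : nil (eichE Q B.qw B.ww' * t) (nil t u) = 0 := by
  apply nil_factor_eq_zero hO ht B (nil_nil ht u) (polar_self_two Q _)
  rw [polar_comm]; exact B.ww'

include hO ht B in
theorem nil_factor_w' : nil (eichE Q B.qw B.ww' * t) (nil t u') = 0 := by
  exact nil_factor_eq_zero hO ht B (nil_nil ht u') B.ww' (polar_self_two Q _)

omit [CharP F 2] in
include hO B in
theorem factor_mem : eichE Q B.qw B.ww' * t ∈ O Q :=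
  Subgroup.mul_mem _ (eichE_mem Q B.qw B.ww') hO

include hO ht B in
theorem nil_nil_factor (x : V) :
    nil (eichE Q B.qw B.ww' * t) (nil (eichE Q B.qw B.ww' * t) x) = 0 := by
  apply nil_factor_eq_zero hO ht B
  · rw [nil_factor hO ht B, map_sub, map_add, map_smul, map_smul, nil_nil ht, nil_nil ht,
      nil_nil ht]
    simp
  · rw [nil_factor hO ht B, polar_sub_right, polar_add_right, polar_smul_r, polar_smul_r,
      polar_nil_nil hO ht, B.ww', polar_self_two]
    ring
  · rw [nil_factor hO ht B, polar_sub_right, polar_add_right, polar_smul_r, polar_smul_r,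
      polar_nil_nil hO ht, polar_self_two, polar_comm Q (nil t u') (nil t u), B.ww']
    ring

include hO ht B in
/-- The complementary factor is an involution. -/
theorem factor_sq : (eichE Q B.qw B.ww' * t) * (eichE Q B.qw B.ww' * t) = 1 := by
  apply LinearEquiv.ext
  intro x
  show (eichE Q B.qw B.ww' * t) ((eichE Q B.qw B.ww' * t) x) = x
  rw [apply_eq (eichE Q B.qw B.ww' * t) ((eichE Q B.qw B.ww' * t) x),
    apply_eq (eichE Q B.qw B.ww' * t) x, map_add, nil_nil_factor hO ht B, add_zero, add_assoc,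
    add_self_two F, add_zero]

include hO ht B in
theorem q_nil_factor (x : V) : Q (nil (eichE Q B.qw B.ww' * t) x) = Q (nil t x) := by
  have e : nil (eichE Q B.qw B.ww' * t) x
      = nil t x + (polar Q (nil t u) x • nil t u' + (-polar Q (nil t u') x) • nil t u) := by
    rw [nil_factor hO ht B]
    module
  rw [e, q_add, q_add, q_smul, q_smul, B.qw, B.qw']
  simp only [polar_add_right, polar_smul_r, polar_smul_l, polar_nil_nil hO ht]
  ring

include hO ht B in
theorem isA_factor : IsA Q (eichE Q B.qw B.ww' * t) ↔ IsA Q t := by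
  constructor
  · intro h x
    rw [← q_nil_factor hO ht B]
    exact h x
  · intro h x
    rw [q_nil_factor hO ht B]
    exact h x

include hO ht B in
/-- The rank drops by two. -/
theorem rk_factor [FiniteDimensional F V] : rk (eichE Q B.qw B.ww' * t) + 2 = rk t := by
  have h1 := rk_add_finrank_fix t
  have h2 := rk_add_finrank_fix (eichE Q B.qw B.ww' * t)
  set t₁ := eichE Q B.qw B.ww' * t with ht₁
  set φ : V →ₗ[F] F := polarBilin Q (nil t u) with hφ
  set ψ : V →ₗ[F] F := polarBilin Q (nil t u') with hψ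
  have hφa : ∀ x, φ x = polar Q (nil t u) x := fun x => rfl
  have hψa : ∀ x, ψ x = polar Q (nil t u') x := fun x => rfl
  have e : fixS t = (fixS t₁ ⊓ LinearMap.ker ψ) ⊓ LinearMap.ker φ := by
    ext x
    constructor
    · intro hx
      have hx0 : nil t x = 0 := hx
      have p1 : polar Q (nil t u) x = 0 := by rw [polar_nil hO ht, hx0]; simp
      have p2 : polar Q (nil t u') x = 0 := by rw [polar_nil hO ht, hx0]; simp
      refine ⟨⟨?_, ?_⟩, ?_⟩
      · show nil t₁ x = 0
        exact nil_factor_eq_zero hO ht B hx0 p1 p2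
      · show ψ x = 0
        rw [hψa]; exact p2
      · show φ x = 0
        rw [hφa]; exact p1
    · rintro ⟨⟨hx1, hx2⟩, hx3⟩
      have p1 : polar Q (nil t u) x = 0 := by rw [← hφa]; exact LinearMap.mem_ker.mp hx3
      have p2 : polar Q (nil t u') x = 0 := by rw [← hψa]; exact LinearMap.mem_ker.mp hx2
      have hx0 : nil t₁ x = 0 := hx1
      rw [ht₁, nil_factor hO ht B, p1, p2] at hx0
      show nil t x = 0
      simpa using hx0
  have hk1 : ¬ fixS t₁ ≤ LinearMap.ker ψ := by
    intro h
    have hu : u ∈ fixS t₁ := nil_factor_u hO ht B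
    have := LinearMap.mem_ker.mp (h hu)
    rw [hψa, polar_comm, B.uw'] at this
    exact one_ne_zero this
  have hk2 : ¬ (fixS t₁ ⊓ LinearMap.ker ψ) ≤ LinearMap.ker φ := by
    intro h
    have hu : u' ∈ fixS t₁ ⊓ LinearMap.ker ψ := by
      refine ⟨nil_factor_u' hO ht B, ?_⟩
      show ψ u' = 0
      rw [hψa, polar_comm]
      exact B.u'w'
    have := LinearMap.mem_ker.mp (h hu)
    rw [hφa, polar_comm, B.u'w] at this
    exact one_ne_zero this
  have d1 : finrank F ↥(fixS t₁ ⊓ LinearMap.ker ψ) + 1 = finrank F ↥(fixS t₁) := by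
    rcases finrank_inf_ker (fixS t₁) ψ with ⟨h, -⟩ | ⟨-, h⟩
    · exact absurd h hk1
    · exact h
  have d2 : finrank F ↥((fixS t₁ ⊓ LinearMap.ker ψ) ⊓ LinearMap.ker φ) + 1
      = finrank F ↥(fixS t₁ ⊓ LinearMap.ker ψ) := by
    rcases finrank_inf_ker (fixS t₁ ⊓ LinearMap.ker ψ) φ with ⟨h, -⟩ | ⟨-, h⟩
    · exact absurd h hk2
    · exact h
  rw [← e] at d2
  omega

include B in
/-- `t` is the product of its Siegel factor and the complementary factor. -/
theorem factor_mul : eichE Q B.qw B.ww' * (eichE Q B.qw B.ww' * t) = t := by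
  rw [← mul_assoc, eichE_sq B.qw B.ww' B.qw', one_mul]

end chartwo

end Cfsg.Agent.Lib.Helper44.Inv3
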