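import Mathlib
import Cfsg.Agent.Lib.Helper44.Inv3
import Cfsg.Agent.Lib.Helper44.ReflClass

set_option autoImplicit false

namespace Cfsg.Agent.Lib.Helper44.Inv4

open Module QuadraticMap
open Cfsg.Agent.Lib.Helper44.QSpace Cfsg.Agent.Lib.Helper44.OGroup Cfsg.Agent.Lib.Helper44.Parity
open Cfsg.Agent.Lib.Helper44.CD2a Cfsg.Agent.Lib.Helper44.WittND Cfsg.Agent.Lib.Helper44.Eichler
open Cfsg.Agent.Lib.Helper44.TSTrans Cfsg.Agent.Lib.Helper44.Inv1 Cfsg.Agent.Lib.Helper44.Inv2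
open Cfsg.Agent.Lib.Helper44.Inv3 Cfsg.Agent.Lib.Helper44.ReflClass

universe u

variable {F : Type*} [Field F] {V : Type u} [AddCommGroup V] [Module F V]
variable {Q : QuadraticForm F V}

theorem exists_sqrt [Finite F] [CharP F 2] (a : F) : ∃ r : F, r * r = a := by
  obtain ⟨r, hr⟩ := FiniteField.isSquare_of_char_two (ringChar.eq F 2) a
  exact ⟨r, hr.symm⟩

/-- A peelable pair for the involution `t`. -/
def Peel (Q : QuadraticForm F V) (t : V ≃ₗ[F] V) : Prop :=
  ∃ u u', polar Q u (nil t u') ≠ 0 ∧ Q (nil t u) = 0 ∧ Q (nil t u') = 0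

variable {t : V ≃ₗ[F] V}

theorem exists_nil_ne [FiniteDimensional F V] (h : rk t ≠ 0) : ∃ v, nil t v ≠ 0 := by
  by_contra hcon
  push Not at hcon
  apply h
  unfold rk
  have : LinearMap.range (nil t) = ⊥ := by
    rw [eq_bot_iff]
    rintro _ ⟨v, rfl⟩
    rw [hcon v]
    exact Submodule.zero_mem _
  rw [this, finrank_bot]

theorem peel_of_isA [FiniteDimensional F V] (hS : Sep Q) (hA : IsA Q t) (h : rk t ≠ 0) :
    Peel Q t := by
  obtain ⟨u', hu'⟩ := exists_nil_ne h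
  obtain ⟨u, hu⟩ : ∃ u, polar Q u (nil t u') ≠ 0 := by
    by_contra hcon
    push Not at hcon
    apply hu'
    apply hS
    intro y
    rw [polar_comm]
    exact hcon y
  exact ⟨u, u', hu, hA u, hA u'⟩

section chartwo

variable [CharP F 2]

/-- The hyperplane on which `Q ∘ (t - 1)` vanishes. -/
def nilKer (hO : t ∈ O Q) (ht : t * t = 1) : Submodule F V where
  carrier := {v | Q (nil t v) = 0}
  add_mem' := by
    intro a b ha hb
    show Q (nil t (a + b)) = 0
    rw [q_nil_add hO ht, ha, hb, add_zero]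
  zero_mem' := by
    show Q (nil t 0) = 0
    simp
  smul_mem' := by
    intro c x hx
    show Q (nil t (c • x)) = 0
    rw [q_nil_smul, hx, mul_zero]

theorem peel_of_three [Finite F] [FiniteDimensional F V] (hS : Sep Q) (hO : t ∈ O Q)
    (ht : t * t = 1) (h3 : 3 ≤ rk t) : Peel Q t := by
  by_cases hA : IsA Q t
  · exact peel_of_isA hS hA (by omega)
  unfold IsA at hA
  push Not at hA
  obtain ⟨u₀, hu₀⟩ := hA
  by_contra hcon
  unfold Peel at hcon
  push Not at hcon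
  have hcon' : ∀ u u', Q (nil t u) = 0 → Q (nil t u') = 0 → polar Q u (nil t u') = 0 := by
    intro u u' h1 h2
    by_contra h
    exact hcon u u' h h1 h2
  set H := nilKer hO ht with hH
  set Hp := LinearMap.BilinForm.orthogonal (polarBilin Q) H with hHp
  have hdec : ∀ x, ∃ h ∈ H, ∃ c : F, x = h + c • u₀ := by
    intro x
    obtain ⟨c, hc⟩ := exists_sqrt (Q (nil t x) / Q (nil t u₀))
    refine ⟨x + c • u₀, ?_, c, ?_⟩
    · show Q (nil t (x + c • u₀)) = 0
      rw [q_nil_add hO ht, q_nil_smul, hc, div_mul_cancel₀ _ hu₀]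
      exact CharTwo.add_self_eq_zero (Q (nil t x))
    · rw [add_assoc, add_self_two F, add_zero]
  have hHp1 : finrank F Hp ≤ 1 := by
    have hbot : Hp ⊓ LinearMap.ker (polarBilin Q u₀) = ⊥ := by
      rw [eq_bot_iff]
      rintro y ⟨hy1, hy2⟩
      rw [Submodule.mem_bot]
      apply hS
      intro x
      obtain ⟨h, hh, c, rfl⟩ := hdec x
      have e1 : polar Q h y = 0 := hy1 h hh
      have e2 : polar Q u₀ y = 0 := LinearMap.mem_ker.mp hy2
      rw [polar_comm, polar_add_left, polar_smul_l, e1, e2]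
      ring
    rcases finrank_inf_ker Hp (polarBilin Q u₀) with ⟨-, h⟩ | ⟨-, h⟩
    · rw [hbot, finrank_bot] at h
      omega
    · rw [hbot, finrank_bot] at h
      omega
  have hle : LinearMap.range (nil t) ≤ Hp ⊔ (F ∙ nil t u₀) := by
    rintro _ ⟨x, rfl⟩
    obtain ⟨h, hh, c, rfl⟩ := hdec x
    rw [map_add, map_smul]
    apply Submodule.add_mem
    · apply Submodule.mem_sup_left
      intro h' hh'
      exact hcon' h' h hh' hh
    · exact Submodule.mem_sup_right (Submodule.smul_mem _ _ (Submodule.mem_span_singleton_self _))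
  have h1 := Submodule.finrank_mono hle
  have h2 := Submodule.finrank_add_le_finrank_add_finrank Hp (F ∙ nil t u₀)
  have hn0 : nil t u₀ ≠ 0 := by
    intro h0
    apply hu₀
    rw [h0]
    exact QuadraticMap.map_zero Q
  rw [finrank_span_singleton hn0] at h2
  unfold rk at h3
  omega

/-- Involutions of rank one fixing `Z` pointwise are conjugate by an isometry fixing `Z`. -/
theorem conj_of_rk_one [Finite F] [FiniteDimensional F V] (hS : Sep Q) {Z : Submodule F V}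
    (hZ : NDsub Q Z) {t t' : V ≃ₗ[F] V} (hO : t ∈ O Q) (hO' : t' ∈ O Q)
    (hfix : ∀ z ∈ Z, t z = z) (hfix' : ∀ z ∈ Z, t' z = z) (h1 : rk t = 1) (h1' : rk t' = 1) :
    ∃ g ∈ O Q, (∀ z ∈ Z, g z = z) ∧ g * t * g⁻¹ = t' := by
  have e1 := rk_add_finrank_fix t
  have e1' := rk_add_finrank_fix t'
  obtain ⟨a, ha, rfl⟩ := eq_reflE_of_finrank_fix hS hO (by omega)
  obtain ⟨a', ha', rfl⟩ := eq_reflE_of_finrank_fix hS hO' (by omega)
  have hZa : ∀ z ∈ Z, polar Q z a = 0 := fun z hz => (reflE_fixed_iff ha z).mp (hfix z hz)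
  have hZa' : ∀ z ∈ Z, polar Q z a' = 0 := fun z hz => (reflE_fixed_iff ha' z).mp (hfix' z hz)
  obtain ⟨c, hc⟩ := exists_sqrt (Q a' / Q a)
  have hc0 : c ≠ 0 := by
    rintro rfl
    rw [mul_zero] at hc
    exact (div_ne_zero ha' ha) hc.symm
  have hq : Q a' = Q (c • a) := by
    rw [q_smul, hc]
    field_simp
  have hca : Q (c • a) ≠ 0 := by rw [← hq]; exact ha'
  obtain ⟨g, hg, hga, hgZ⟩ := step_two_first hS hZ hq hca (by
    intro z hz
    rw [polar_smul_r, hZa z hz, mul_zero]) hZa'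
  refine ⟨g, hg, hgZ, ?_⟩
  rw [← reflE_smul Q hc0 a, conj_reflE hg, hga]

/-- The generic step for the second vector of an orthonormal pair. -/
theorem step_pair_gen [FiniteDimensional F V] (hS : Sep Q) {Z : Submodule F V} (hZ : NDsub Q Z)
    {a b₁ b' : V} (hQb₁ : Q b₁ = 1) (hQb' : Q b' = 1) (hZa : ∀ z ∈ Z, polar Q z a = 0)
    (hZb₁ : ∀ z ∈ Z, polar Q z b₁ = 0) (hZb' : ∀ z ∈ Z, polar Q z b' = 0)
    (hab₁ : polar Q a b₁ = 0) (hab' : polar Q a b' = 0) (ind₁ : ∀ c : F, b₁ ≠ c • a)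
    (hgen : polar Q b₁ b' ≠ 0 ∨ ∀ α β : F, b' ≠ α • a + β • b₁) :
    ∃ g ∈ O Q, (∀ z ∈ Z, g z = z) ∧ g a = a ∧ g b₁ = b' := by
  have hq : Q b₁ = Q b' := by rw [hQb₁, hQb']
  by_cases hp : polar Q b₁ b' = 0
  swap
  · have hne : Q (b₁ - b') ≠ 0 := by rw [q_sub_of_eq Q hq]; exact hp
    refine ⟨reflE Q (b₁ - b'), reflE_mem Q _, ?_, ?_, reflE_sub hq hne⟩
    · intro z hz
      exact reflE_of_orth (by rw [polar_sub_right, hZb₁ z hz, hZb' z hz, sub_zero])
    · exact reflE_of_orth (by rw [polar_sub_right, hab₁, hab', sub_zero])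
  · have hgen' : ∀ α β : F, b' ≠ α • a + β • b₁ := by
      rcases hgen with h | h
      · exact absurd hp h
      · exact h
    set d := b₁ - b' with hd
    have hQd : Q d = 0 := by rw [hd, q_sub_of_eq Q hq]; exact hp
    have hZd : ∀ z ∈ Z, polar Q z d = 0 := by
      intro z hz
      rw [hd, polar_sub_right, hZb₁ z hz, hZb' z hz, sub_zero]
    have hnot : b₁ ∉ (Z ⊔ (F ∙ a)) ⊔ (F ∙ d) := by
      intro hmem
      obtain ⟨p, hp', q, hq', e⟩ := Submodule.mem_sup.mp hmem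
      obtain ⟨z, hz, r, hr, rfl⟩ := Submodule.mem_sup.mp hp'
      obtain ⟨α, rfl⟩ := Submodule.mem_span_singleton.mp hr
      obtain ⟨δ, rfl⟩ := Submodule.mem_span_singleton.mp hq'
      have hz0 : z = 0 := by
        apply hZ z hz
        intro y hy
        have e' : z = b₁ - α • a - δ • d := by rw [← e]; abel
        rw [e', polar_sub_left, polar_sub_left, polar_smul_l, polar_smul_l, polar_comm Q b₁ y,
          hZb₁ y hy, polar_comm Q a y, hZa y hy, polar_comm Q d y, hZd y hy]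
        ring
      rw [hz0, zero_add] at e
      by_cases hδ : δ = 0
      · rw [hδ, zero_smul, add_zero] at e
        exact ind₁ α e.symm
      · apply hgen' (δ⁻¹ * α) (δ⁻¹ * (δ - 1))
        have e2 : δ • b' = α • a + (δ - 1) • b₁ := by
          rw [hd] at e
          calc δ • b' = α • a + δ • b₁ - (α • a + δ • (b₁ - b')) := by module
            _ = α • a + δ • b₁ - b₁ := by rw [e]
            _ = α • a + (δ - 1) • b₁ := by module
        have e3 : b' = δ⁻¹ • (δ • b') := by rw [smul_smul, inv_mul_cancel₀ hδ, one_smul]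
        rw [e3, e2, smul_add, smul_smul, smul_smul]
    obtain ⟨y₀, hy₀1, hy₀2⟩ := exists_orth_not hS hnot
    set y := (polar Q y₀ b₁)⁻¹ • y₀ with hy
    have hyb : polar Q y b₁ = 1 := by
      rw [hy, polar_smul_l]
      exact inv_mul_cancel₀ hy₀2
    have hdy : polar Q d y = 0 := by
      rw [hy, polar_smul_r,
        hy₀1 d (Submodule.mem_sup_right (Submodule.mem_span_singleton_self d)), mul_zero]
    have hya : polar Q y a = 0 := by
      rw [hy, polar_smul_l, polar_comm Q y₀ a,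
        hy₀1 a (Submodule.mem_sup_left (Submodule.mem_sup_right
          (Submodule.mem_span_singleton_self a))), mul_zero]
    have hyZ : ∀ z ∈ Z, polar Q y z = 0 := by
      intro z hz
      rw [hy, polar_smul_l, polar_comm Q y₀ z,
        hy₀1 z (Submodule.mem_sup_left (Submodule.mem_sup_left hz)), mul_zero]
    have hdb₁ : polar Q d b₁ = 0 := by
      rw [hd, polar_sub_left, polar_self_two, polar_comm Q b' b₁, hp, sub_zero]
    have hda : polar Q d a = 0 := by
      rw [hd, polar_sub_left, polar_comm Q b₁ a, hab₁, polar_comm Q b' a, hab', sub_zero]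
    refine ⟨eichE Q hQd hdy, eichE_mem Q hQd hdy, ?_, ?_, ?_⟩
    · intro z hz
      rw [eichE_apply, polar_comm Q d z, hZd z hz, hyZ z hz]
      simp
    · rw [eichE_apply, hda, hya]
      simp
    · rw [eichE_apply, hdb₁, hyb, hd]
      simp

/-- A third unit vector orthogonal to `Z` and `a`, outside the plane of `a` and `b₁`. -/
theorem exists_third [Finite F] [FiniteDimensional F V] (hS : Sep Q) {Z : Submodule F V}
    (hZ : NDsub Q Z) {a b₁ : V} (hQa : Q a = 1) (hZa : ∀ z ∈ Z, polar Q z a = 0)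
    (hZb₁ : ∀ z ∈ Z, polar Q z b₁ = 0) (hab₁ : polar Q a b₁ = 0) (ind₁ : ∀ c : F, b₁ ≠ c • a) :
    ∃ c, Q c = 1 ∧ (∀ z ∈ Z, polar Q z c = 0) ∧ polar Q a c = 0 ∧
      ∀ α β : F, c ≠ α • a + β • b₁ := by
  set Y := LinearMap.BilinForm.orthogonal (polarBilin Q) (Z ⊔ (F ∙ a)) with hY
  obtain ⟨x, hxY, hx⟩ : ∃ x ∈ Y, ∀ α β : F, x ≠ α • a + β • b₁ := by
    by_contra hcon
    push Not at hcon
    have hb : b₁ ∈ LinearMap.BilinForm.orthogonal (polarBilin Q) Y := by
      intro x hx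
      obtain ⟨α, β, rfl⟩ := hcon x hx
      show polar Q (α • a + β • b₁) b₁ = 0
      rw [polar_add_left, polar_smul_l, polar_smul_l, hab₁, polar_self_two]
      ring
    rw [hY, LinearMap.BilinForm.orthogonal_orthogonal (nondegenerate_of_sep hS) (isRefl_pB Q)]
      at hb
    obtain ⟨z, hz, r, hr, e⟩ := Submodule.mem_sup.mp hb
    obtain ⟨α, rfl⟩ := Submodule.mem_span_singleton.mp hr
    have hz0 : z = 0 := by
      apply hZ z hz
      intro y hy
      have e' : z = b₁ - α • a := by rw [← e]; abel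
      rw [e', polar_sub_left, polar_smul_l, polar_comm Q b₁ y, hZb₁ y hy, polar_comm Q a y,
        hZa y hy]
      ring
    rw [hz0, zero_add] at e
    exact ind₁ α e.symm
  have hZx : ∀ z ∈ Z, polar Q z x = 0 := fun z hz => hxY z (Submodule.mem_sup_left hz)
  have hax : polar Q a x = 0 :=
    hxY a (Submodule.mem_sup_right (Submodule.mem_span_singleton_self a))
  obtain ⟨κ, hκ⟩ := exists_sqrt (1 + Q x)
  refine ⟨x + κ • a, ?_, ?_, ?_, ?_⟩
  · rw [q_add, q_smul, hQa, polar_smul_r, polar_comm Q x a, hax, hκ]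
    have := CharTwo.add_self_eq_zero (Q x)
    linear_combination this
  · intro z hz
    rw [polar_add_right, polar_smul_r, hZx z hz, hZa z hz, mul_zero, add_zero]
  · rw [polar_add_right, polar_smul_r, hax, polar_self_two, mul_zero, add_zero]
  · intro α β h
    apply hx (α - κ) β
    have : x = x + κ • a - κ • a := by abel
    rw [this, h]
    module

/-- The step for the second vector of an orthonormal pair. -/
theorem step_pair [Finite F] [FiniteDimensional F V] (hS : Sep Q) {Z : Submodule F V}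
    (hZ : NDsub Q Z) {a b₁ b' : V} (hQa : Q a = 1) (hQb₁ : Q b₁ = 1) (hQb' : Q b' = 1)
    (hZa : ∀ z ∈ Z, polar Q z a = 0) (hZb₁ : ∀ z ∈ Z, polar Q z b₁ = 0)
    (hZb' : ∀ z ∈ Z, polar Q z b' = 0) (hab₁ : polar Q a b₁ = 0) (hab' : polar Q a b' = 0)
    (ind₁ : ∀ c : F, b₁ ≠ c • a) (ind' : ∀ c : F, b' ≠ c • a) :
    ∃ g ∈ O Q, (∀ z ∈ Z, g z = z) ∧ g a = a ∧ g b₁ = b' := by
  by_cases hgen : polar Q b₁ b' ≠ 0 ∨ ∀ α β : F, b' ≠ α • a + β • b₁
  · exact step_pair_gen hS hZ hQb₁ hQb' hZa hZb₁ hZb' hab₁ hab' ind₁ hgen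
  push Not at hgen
  obtain ⟨-, α, β, hb'⟩ := hgen
  obtain ⟨c, hQc, hZc, hac, hc⟩ := exists_third hS hZ hQa hZa hZb₁ hab₁ ind₁
  obtain ⟨g₁, hg₁, hg₁Z, hg₁a, hg₁b⟩ := step_pair_gen hS hZ hQb₁ hQc hZa hZb₁ hZc hab₁ hac ind₁
    (Or.inr hc)
  have indc : ∀ κ : F, c ≠ κ • a := by
    intro κ h
    apply hc κ 0
    rw [h]
    simp
  obtain ⟨g₂, hg₂, hg₂Z, hg₂a, hg₂b⟩ := step_pair_gen hS hZ hQc hQb' hZa hZc hZb' hac hab' indc
    (Or.inr (by
      intro α' β' h
      by_cases hβ' : β' = 0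
      · rw [hβ', zero_smul, add_zero] at h
        exact ind' α' h
      · apply hc (β'⁻¹ * (α - α')) (β'⁻¹ * β)
        have e1 : β' • c = (α - α') • a + β • b₁ := by
          have : β' • c = (α' • a + β' • c) - α' • a := by abel
          rw [this, ← h, hb']
          module
        have e2 : c = β'⁻¹ • (β' • c) := by rw [smul_smul, inv_mul_cancel₀ hβ', one_smul]
        rw [e2, e1, smul_add, smul_smul, smul_smul]))
  refine ⟨g₂ * g₁, Subgroup.mul_mem _ hg₂ hg₁, ?_, ?_, ?_⟩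
  · intro z hz
    rw [LinearEquiv.mul_apply, hg₁Z z hz, hg₂Z z hz]
  · rw [LinearEquiv.mul_apply, hg₁a, hg₂a]
  · rw [LinearEquiv.mul_apply, hg₁b, hg₂b]

/-- Orthonormal pairs orthogonal to `Z` are permuted transitively by the isometries fixing `Z`. -/
theorem exists_map_pair [Finite F] [FiniteDimensional F V] (hS : Sep Q) {Z : Submodule F V}
    (hZ : NDsub Q Z) {a b a' b' : V} (hQa : Q a = 1) (hQb : Q b = 1) (hQa' : Q a' = 1)
    (hQb' : Q b' = 1) (hab : polar Q a b = 0) (hab' : polar Q a' b' = 0)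
    (ind : ∀ c : F, b ≠ c • a) (ind' : ∀ c : F, b' ≠ c • a')
    (hZa : ∀ z ∈ Z, polar Q z a = 0) (hZb : ∀ z ∈ Z, polar Q z b = 0)
    (hZa' : ∀ z ∈ Z, polar Q z a' = 0) (hZb' : ∀ z ∈ Z, polar Q z b' = 0) :
    ∃ g ∈ O Q, (∀ z ∈ Z, g z = z) ∧ g a = a' ∧ g b = b' := by
  obtain ⟨g₁, hg₁, hg₁a, hg₁Z⟩ := step_two_first hS hZ (by rw [hQa, hQa'] : Q a' = Q a)
    (by rw [hQa]; exact one_ne_zero) hZa hZa'
  have hQb₁ : Q (g₁ b) = 1 := by rw [hg₁ b]; exact hQb
  have hZb₁ : ∀ z ∈ Z, polar Q z (g₁ b) = 0 := by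
    intro z hz
    have := polar_of_mem_O hg₁ z b
    rw [hg₁Z z hz] at this
    rw [this]
    exact hZb z hz
  have hab₁ : polar Q a' (g₁ b) = 0 := by
    rw [← hg₁a, polar_of_mem_O hg₁]
    exact hab
  have ind₁ : ∀ c : F, g₁ b ≠ c • a' := by
    intro c h
    apply ind c
    apply g₁.injective
    rw [h, map_smul, hg₁a]
  obtain ⟨g₂, hg₂, hg₂Z, hg₂a, hg₂b⟩ := step_pair hS hZ hQa' hQb₁ hQb' hZa' hZb₁ hZb' hab₁ hab'
    ind₁ ind'
  refine ⟨g₂ * g₁, Subgroup.mul_mem _ hg₂ hg₁, ?_, ?_, ?_⟩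
  · intro z hz
    rw [LinearEquiv.mul_apply, hg₁Z z hz, hg₂Z z hz]
  · rw [LinearEquiv.mul_apply, hg₁a, hg₂a]
  · rw [LinearEquiv.mul_apply, hg₂b]

end chartwo

end Cfsg.Agent.Lib.Helper44.Inv4
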