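import Mathlib
import Cfsg.Agent.Lib.Helper44.Inv4

set_option autoImplicit false

namespace Cfsg.Agent.Lib.Helper44.Inv5

open Module QuadraticMap
open Cfsg.Agent.Lib.Helper44.QSpace Cfsg.Agent.Lib.Helper44.OGroup Cfsg.Agent.Lib.Helper44.Parity
open Cfsg.Agent.Lib.Helper44.CD2a Cfsg.Agent.Lib.Helper44.WittND Cfsg.Agent.Lib.Helper44.Eichler
open Cfsg.Agent.Lib.Helper44.TSTrans Cfsg.Agent.Lib.Helper44.Inv1 Cfsg.Agent.Lib.Helper44.Inv2
open Cfsg.Agent.Lib.Helper44.Inv3 Cfsg.Agent.Lib.Helper44.Inv4 Cfsg.Agent.Lib.Helper44.ReflClass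

universe u

variable {F : Type*} [Field F] {V : Type u} [AddCommGroup V] [Module F V]
variable {Q : QuadraticForm F V} [CharP F 2] [Finite F] [FiniteDimensional F V]

/-- An involution of rank two not of type `a` is a product of two commuting reflections in
orthonormal vectors. -/
theorem two_refl (hS : Sep Q) {t : V ≃ₗ[F] V} (hO : t ∈ O Q) (ht : t * t = 1) (h2 : rk t = 2)
    (hA : ¬ IsA Q t) :
    ∃ a b, Q a = 1 ∧ Q b = 1 ∧ polar Q a b = 0 ∧ (∀ c : F, b ≠ c • a) ∧
      t = reflE Q a * reflE Q b ∧ ∀ z, t z = z → polar Q z a = 0 ∧ polar Q z b = 0 := by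
  unfold IsA at hA
  push Not at hA
  obtain ⟨v, hv⟩ := hA
  set a₀ := nil t v with ha₀
  have hO₂ : reflE Q a₀ * t ∈ O Q := Subgroup.mul_mem _ (reflE_mem Q a₀) hO
  have hfix₂ : ∀ x, t x = x → (reflE Q a₀ * t) x = x := by
    intro x hx
    rw [LinearEquiv.mul_apply, hx]
    exact reflE_of_orth (polar_nil_of_fix hO ht hx v)
  have hv₂ : (reflE Q a₀ * t) v = v := by
    rw [LinearEquiv.mul_apply, apply_eq t v, ← ha₀, map_add, reflE_self hv, reflE_apply,
      polar_self_nil hO v, ← ha₀, inv_mul_cancel₀ hv, one_smul]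
    have : v - a₀ + -a₀ = v - (a₀ + a₀) := by abel
    rw [this, add_self_two F, sub_zero]
  have hvn : v ∉ fixS t := by
    intro h
    apply hv
    have : nil t v = 0 := h
    rw [ha₀, this]
    exact QuadraticMap.map_zero Q
  have hlt : fixS t < fixS (reflE Q a₀ * t) := by
    apply lt_of_le_of_ne
    · intro x hx
      exact mem_fixS.mpr (hfix₂ x (mem_fixS.mp hx))
    · intro heq
      apply hvn
      rw [heq]
      exact mem_fixS.mpr hv₂
  have hne1 : t ≠ reflE Q a₀ := by
    intro h
    have hle : LinearMap.range (nil t) ≤ F ∙ a₀ := by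
      rintro _ ⟨x, rfl⟩
      rw [nil_apply, h, reflE_apply]
      have : x - ((Q a₀)⁻¹ * polar Q x a₀) • a₀ - x = (-((Q a₀)⁻¹ * polar Q x a₀)) • a₀ := by
        module
      rw [this]
      exact Submodule.smul_mem _ _ (Submodule.mem_span_singleton_self a₀)
    have h1 := Submodule.finrank_mono hle
    have ha₀0 : a₀ ≠ 0 := ne_zero_of_q_ne_zero hv
    rw [finrank_span_singleton ha₀0] at h1
    unfold rk at h2
    omega
  have hnetop : fixS (reflE Q a₀ * t) ≠ ⊤ := by
    intro h
    apply hne1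
    have h1 : reflE Q a₀ * t = 1 := by
      apply LinearEquiv.ext
      intro x
      have : x ∈ fixS (reflE Q a₀ * t) := by rw [h]; exact Submodule.mem_top
      exact mem_fixS.mp this
    calc t = reflE Q a₀ * (reflE Q a₀ * t) := by
          rw [← mul_assoc, reflE_mul_self, one_mul]
      _ = reflE Q a₀ := by rw [h1, mul_one]
  have h3 := Submodule.finrank_lt_finrank_of_lt hlt
  have h4 := Submodule.finrank_lt hnetop
  have h5 := rk_add_finrank_fix t
  obtain ⟨b₀, hb₀, hb₀eq⟩ := eq_reflE_of_finrank_fix hS hO₂ (by omega)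
  have hteq : t = reflE Q a₀ * reflE Q b₀ := by
    rw [← hb₀eq, ← mul_assoc, reflE_mul_self, one_mul]
  have hab₀ : polar Q a₀ b₀ = 0 := by
    apply (reflE_fixed_iff hb₀ a₀).mp
    rw [← hb₀eq, LinearEquiv.mul_apply, ha₀, apply_nil ht, ← ha₀, reflE_self hv]
    exact neg_eq_self (F := F) a₀
  have ind₀ : ∀ c : F, b₀ ≠ c • a₀ := by
    intro c h
    have hc0 : c ≠ 0 := by
      rintro rfl
      rw [zero_smul] at h
      rw [h] at hb₀
      exact hb₀ (QuadraticMap.map_zero Q)
    apply hv
    have h1 : t = 1 := by rw [hteq, h, reflE_smul Q hc0, reflE_mul_self]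
    have h2 : a₀ = 0 := by rw [ha₀, h1, nil_one]; rfl
    rw [h2]
    exact QuadraticMap.map_zero Q
  have hfixab : ∀ z, t z = z → polar Q z a₀ = 0 ∧ polar Q z b₀ = 0 := by
    intro z hz
    refine ⟨polar_nil_of_fix hO ht hz v, ?_⟩
    apply (reflE_fixed_iff hb₀ z).mp
    rw [← hb₀eq]
    exact hfix₂ z hz
  obtain ⟨α, hα⟩ := exists_sqrt (Q a₀)⁻¹
  obtain ⟨β, hβ⟩ := exists_sqrt (Q b₀)⁻¹
  have hα0 : α ≠ 0 := by
    rintro rfl
    rw [mul_zero] at hα
    exact (inv_ne_zero hv) hα.symm
  have hβ0 : β ≠ 0 := by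
    rintro rfl
    rw [mul_zero] at hβ
    exact (inv_ne_zero hb₀) hβ.symm
  refine ⟨α • a₀, β • b₀, ?_, ?_, ?_, ?_, ?_, ?_⟩
  · rw [q_smul, hα, inv_mul_cancel₀ hv]
  · rw [q_smul, hβ, inv_mul_cancel₀ hb₀]
  · rw [polar_smul_l, polar_smul_r, hab₀, mul_zero, mul_zero]
  · intro c h
    apply ind₀ (β⁻¹ * (c * α))
    have : b₀ = β⁻¹ • (β • b₀) := by rw [smul_smul, inv_mul_cancel₀ hβ0, one_smul]
    rw [this, h, smul_smul, smul_smul, mul_assoc]
  · rw [reflE_smul Q hα0, reflE_smul Q hβ0]
    exact hteq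
  · intro z hz
    obtain ⟨h1, h2⟩ := hfixab z hz
    rw [polar_smul_r, polar_smul_r, h1, h2, mul_zero, mul_zero]
    exact ⟨rfl, rfl⟩

/-- Involutions of rank two not of type `a` fixing `Z` pointwise are conjugate by an isometry
fixing `Z`. -/
theorem conj_of_rk_two (hS : Sep Q) {Z : Submodule F V} (hZ : NDsub Q Z) {t t' : V ≃ₗ[F] V}
    (hO : t ∈ O Q) (hO' : t' ∈ O Q) (ht : t * t = 1) (ht' : t' * t' = 1)
    (hfix : ∀ z ∈ Z, t z = z) (hfix' : ∀ z ∈ Z, t' z = z) (h2 : rk t = 2) (h2' : rk t' = 2)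
    (hA : ¬ IsA Q t) (hA' : ¬ IsA Q t') :
    ∃ g ∈ O Q, (∀ z ∈ Z, g z = z) ∧ g * t * g⁻¹ = t' := by
  obtain ⟨a, b, hQa, hQb, hab, ind, rfl, hf⟩ := two_refl hS hO ht h2 hA
  obtain ⟨a', b', hQa', hQb', hab', ind', rfl, hf'⟩ := two_refl hS hO' ht' h2' hA'
  obtain ⟨g, hg, hgZ, hga, hgb⟩ := exists_map_pair hS hZ hQa hQb hQa' hQb' hab hab' ind ind'
    (fun z hz => (hf z (hfix z hz)).1) (fun z hz => (hf z (hfix z hz)).2)
    (fun z hz => (hf' z (hfix' z hz)).1) (fun z hz => (hf' z (hfix' z hz)).2)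
  refine ⟨g, hg, hgZ, ?_⟩
  have : g * (reflE Q a * reflE Q b) * g⁻¹ = (g * reflE Q a * g⁻¹) * (g * reflE Q b * g⁻¹) := by
    group
  rw [this, conj_reflE hg, conj_reflE hg, hga, hgb]

/-- **Classification of involutions in orthogonal groups of characteristic two**
(Aschbacher–Seitz): two involutions with the same rank of `t - 1` and the same type (whether
or not `Q` vanishes on the image of `t - 1`) are conjugate in the orthogonal group. Relative
version: both fix the non-degenerate subspace `Z` pointwise, and so does the conjugating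
isometry. -/
theorem conj_involutions_rel (hS : Sep Q) : ∀ (n : ℕ) (Z : Submodule F V) (t t' : V ≃ₗ[F] V),
    NDsub Q Z → t ∈ O Q → t' ∈ O Q → t * t = 1 → t' * t' = 1 → (∀ z ∈ Z, t z = z) →
    (∀ z ∈ Z, t' z = z) → rk t = n → rk t' = n → (IsA Q t ↔ IsA Q t') →
    ∃ g ∈ O Q, (∀ z ∈ Z, g z = z) ∧ g * t * g⁻¹ = t' := by
  intro n
  induction n using Nat.strong_induction_on with
  | _ n ih =>
    intro Z t t' hZ hO hO' ht ht' hfix hfix' hn hn' hiff
    by_cases h0 : n = 0
    · have e1 : t = 1 := by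
        apply eq_one_of_nil
        intro v
        by_contra hne
        have : rk t ≠ 0 := by
          intro h
          unfold rk at h
          have hb : LinearMap.range (nil t) = ⊥ := Submodule.finrank_eq_zero.mp h
          apply hne
          have : nil t v ∈ LinearMap.range (nil t) := ⟨v, rfl⟩
          rw [hb] at this
          exact (Submodule.mem_bot F).mp this
        omega
      have e2 : t' = 1 := by
        apply eq_one_of_nil
        intro v
        by_contra hne
        have : rk t' ≠ 0 := by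
          intro h
          unfold rk at h
          have hb : LinearMap.range (nil t') = ⊥ := Submodule.finrank_eq_zero.mp h
          apply hne
          have : nil t' v ∈ LinearMap.range (nil t') := ⟨v, rfl⟩
          rw [hb] at this
          exact (Submodule.mem_bot F).mp this
        omega
      refine ⟨1, Subgroup.one_mem _, fun z _ => rfl, ?_⟩
      rw [e1, e2]
      simp
    by_cases hp : 3 ≤ n ∨ IsA Q t
    · -- peel off a block
      have hP : Peel Q t := by
        rcases hp with h | h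
        · exact peel_of_three hS hO ht (by omega)
        · exact peel_of_isA hS h (by omega)
      have hP' : Peel Q t' := by
        rcases hp with h | h
        · exact peel_of_three hS hO' ht' (by omega)
        · exact peel_of_isA hS (hiff.mp h) (by omega)
      obtain ⟨u₀, u₀', hu1, hu2, hu3⟩ := hP
      obtain ⟨v₀, v₀', hv1, hv2, hv3⟩ := hP'
      obtain ⟨u, u', B⟩ := exists_adapted hS hO ht hZ hfix hu1 hu2 hu3
      obtain ⟨v, v', B'⟩ := exists_adapted hS hO' ht' hZ hfix' hv1 hv2 hv3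
      obtain ⟨g₀, hg₀, hg₀Z, e1, e2, e3, e4⟩ := exists_transport hS hZ B B'
      set E := eichE Q B.qw B.ww' with hE
      set E' := eichE Q B'.qw B'.ww' with hE'
      set t₁ := E * t with ht₁
      set t₁' := E' * t' with ht₁'
      have hg₀inv : g₀⁻¹ ∈ O Q := Subgroup.inv_mem _ hg₀
      -- the transported complementary factor
      set s := g₀⁻¹ * t₁' * g₀ with hs
      have hsconj : s = g₀⁻¹ * t₁' * g₀⁻¹⁻¹ := by rw [inv_inv]
      have hsO : s ∈ O Q :=
        Subgroup.mul_mem _ (Subgroup.mul_mem _ hg₀inv (factor_mem hO' B')) hg₀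
      have hss : s * s = 1 := by
        have : s * s = g₀⁻¹ * (t₁' * t₁') * g₀ := by rw [hs]; group
        rw [this, ht₁', factor_sq hO' ht' B']
        group
      have hrk₁ : rk t₁ + 2 = n := by rw [← hn]; exact rk_factor hO ht B
      have hrk₁' : rk t₁' + 2 = n := by rw [← hn']; exact rk_factor hO' ht' B'
      have hrks : rk s + 2 = n := by rw [hsconj, rk_conj]; exact hrk₁'
      have hAs : IsA Q t₁ ↔ IsA Q s := by
        rw [hsconj, isA_conj hg₀inv, ht₁, ht₁', isA_factor hO ht B, isA_factor hO' ht' B']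
        exact hiff
      -- both fix the enlarged subspace
      have hfix₁ : ∀ x ∈ blockSup Z u u' (nil t u) (nil t u'), t₁ x = x := by
        rintro _ ⟨z, hz, a, b, c, d, rfl⟩
        apply (nil_eq_zero_iff t₁ _).mp
        rw [map_add, map_add, map_add, map_add, map_smul, map_smul, map_smul, map_smul,
          nil_factor_fix hO ht B hz (hfix z hz), nil_factor_u hO ht B, nil_factor_u' hO ht B,
          nil_factor_w hO ht B, nil_factor_w' hO ht B]
        simp
      have hfixs : ∀ x ∈ blockSup Z u u' (nil t u) (nil t u'), s x = x := by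
        rintro _ ⟨z, hz, a, b, c, d, rfl⟩
        have hgx : g₀ (z + a • u + b • u' + c • nil t u + d • nil t u')
            = z + a • v + b • v' + c • nil t' v + d • nil t' v' := by
          rw [map_add, map_add, map_add, map_add, map_smul, map_smul, map_smul, map_smul,
            hg₀Z z hz, e1, e2, e3, e4]
        have hfix' : t₁' (z + a • v + b • v' + c • nil t' v + d • nil t' v')
            = z + a • v + b • v' + c • nil t' v + d • nil t' v' := by
          apply (nil_eq_zero_iff t₁' _).mp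
          rw [map_add, map_add, map_add, map_add, map_smul, map_smul, map_smul, map_smul,
            nil_factor_fix hO' ht' B' hz (hfix' z hz), nil_factor_u hO' ht' B',
            nil_factor_u' hO' ht' B', nil_factor_w hO' ht' B', nil_factor_w' hO' ht' B']
          simp
        rw [hs, LinearEquiv.mul_apply, LinearEquiv.mul_apply, hgx, hfix', ← hgx]
        exact g₀.symm_apply_apply _
      obtain ⟨h, hh, hhZ, hhconj⟩ := ih (n - 2) (by omega)
        (blockSup Z u u' (nil t u) (nil t u')) t₁ s (B.ndsub hZ) (factor_mem hO B) hsO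
        (factor_sq hO ht B) hss hfix₁ hfixs (by omega) (by omega) hAs
      have hhE : h * E * h⁻¹ = E :=
        conj_eichE hh B.qw B.ww' B.qw B.ww' (hhZ _ (w_mem_blockSup Z u u' _ _))
          (hhZ _ (w'_mem_blockSup Z u u' _ _))
      have hgE : g₀ * E * g₀⁻¹ = E' := conj_eichE hg₀ B.qw B.ww' B'.qw B'.ww' e3 e4
      have htE : E * t₁ = t := factor_mul B
      have htE' : E' * t₁' = t' := factor_mul B'
      refine ⟨g₀ * h, Subgroup.mul_mem _ hg₀ hh, ?_, ?_⟩
      · intro z hz
        rw [LinearEquiv.mul_apply, hhZ z (le_blockSup Z u u' _ _ hz), hg₀Z z hz]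
      · calc g₀ * h * t * (g₀ * h)⁻¹ = g₀ * h * (E * t₁) * (g₀ * h)⁻¹ := by rw [htE]
          _ = (g₀ * (h * E * h⁻¹) * g₀⁻¹) * (g₀ * (h * t₁ * h⁻¹) * g₀⁻¹) := by group
          _ = (g₀ * E * g₀⁻¹) * (g₀ * (g₀⁻¹ * t₁' * g₀) * g₀⁻¹) := by rw [hhE, hhconj]
          _ = E' * t₁' := by rw [hgE]; group
          _ = t' := htE'
    · push Not at hp
      obtain ⟨hlt3, hnA⟩ := hp
      have hnA' : ¬ IsA Q t' := fun h => hnA (hiff.mpr h)
      by_cases h1 : n = 1
      · exact conj_of_rk_one hS hZ hO hO' hfix hfix' (by omega) (by omega)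
      · exact conj_of_rk_two hS hZ hO hO' ht ht' hfix hfix' (by omega) (by omega) hnA hnA'

/-- **Classification of involutions in orthogonal groups of characteristic two**: two
involutions with the same rank of `t - 1` and the same type are conjugate. -/
theorem conj_involutions (hS : Sep Q) {t t' : V ≃ₗ[F] V} (hO : t ∈ O Q) (hO' : t' ∈ O Q)
    (ht : t * t = 1) (ht' : t' * t' = 1) (hrk : rk t = rk t') (hiff : IsA Q t ↔ IsA Q t') :
    ∃ g ∈ O Q, g * t * g⁻¹ = t' := by
  obtain ⟨g, hg, -, h⟩ := conj_involutions_rel hS (rk t) ⊥ t t'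
    (by
      intro x hx _
      exact (Submodule.mem_bot F).mp hx) hO hO' ht ht'
    (by
      intro z hz
      rw [(Submodule.mem_bot F).mp hz, map_zero])
    (by
      intro z hz
      rw [(Submodule.mem_bot F).mp hz, map_zero]) rfl hrk.symm hiff
  exact ⟨g, hg, h⟩

end Cfsg.Agent.Lib.Helper44.Inv5
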