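import Mathlib
import Cfsg.Agent.Lib.Helper44.Inv5
import Cfsg.Agent.Lib.Helper44.OMat
import Cfsg.Agent.Lib.Helper44.NegPairs

set_option autoImplicit false

namespace Cfsg.Agent.Lib.Helper44.Inv6

open Module QuadraticMap Matrix
open Cfsg.Agent.Lib.Helper44.QSpace Cfsg.Agent.Lib.Helper44.OGroup Cfsg.Agent.Lib.Helper44.Parity
open Cfsg.Agent.Lib.Helper44.CD2a Cfsg.Agent.Lib.Helper44.Inv1 Cfsg.Agent.Lib.Helper44.Inv4
open Cfsg.Agent.Lib.Helper44.Inv5 Cfsg.Agent.Lib.Helper44.OMat Cfsg.Agent.Lib.Helper44.NegPairs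

variable {F : Type*} [Field F] {ι : Type} [Fintype ι] [DecidableEq ι]

/-- The minus-type form is non-degenerate in characteristic two as well. -/
theorem sep_minusQ_two [CharP F 2] [Finite F] (m : ℕ) (a b : F)
    (hab : ∀ z₁ z₂ : F, z₁ ^ 2 + a * z₁ * z₂ + b * z₂ ^ 2 = 0 → z₁ = 0 ∧ z₂ = 0) :
    Sep (minusQ m F a b) := by
  have h2 : (2 : F) = 0 := CharTwo.two_eq_zero
  have ha : a ≠ 0 := by
    rintro rfl
    obtain ⟨r, hr⟩ := exists_sqrt b
    have := hab r 1 (by
      rw [← hr]
      linear_combination (r * r) * h2)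
    exact one_ne_zero this.2
  apply sep_of_H1 (minusQ m F a b) Sum.inl (minus_H1 m a b)
  intro x hx k hk
  have h0 := hx (Pi.single (Sum.inr 0) 1)
  have h1 := hx (Pi.single (Sum.inr 1) 1)
  have e0 : polar (minusQ m F a b) x (Pi.single (Sum.inr 0) 1)
      = 2 * x (Sum.inr 0) + a * x (Sum.inr 1) := by
    show polar (Cfsg.quadFormMinus m F a b) x (Pi.single (Sum.inr 0) 1) = _
    unfold polar Cfsg.quadFormMinus
    simp
    ring
  have e1 : polar (minusQ m F a b) x (Pi.single (Sum.inr 1) 1)
      = a * x (Sum.inr 0) + 2 * b * x (Sum.inr 1) := by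
    show polar (Cfsg.quadFormMinus m F a b) x (Pi.single (Sum.inr 1) 1) = _
    unfold polar Cfsg.quadFormMinus
    simp
    ring
  rw [e0, h2, zero_mul, zero_add] at h0
  rw [e1, h2, zero_mul, zero_mul, add_zero] at h1
  have z1 : x (Sum.inr 1) = 0 := by
    rcases mul_eq_zero.mp h0 with h | h
    · exact absurd h ha
    · exact h
  have z0 : x (Sum.inr 0) = 0 := by
    rcases mul_eq_zero.mp h1 with h | h
    · exact absurd h ha
    · exact h
  rcases k with c | t
  · exact absurd ⟨c, rfl⟩ hk
  · fin_cases t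
    · exact z0
    · exact z1

/-- Involutions of the isometry group in characteristic two: conjugacy in the isometry group is
the same as conjugacy under the isometry group of the polar form. -/
theorem isConj_iff_polar [CharP F 2] [Finite F] (Q : QuadraticForm F (ι → F)) (hS : Sep Q)
    (t s : ↥(Cfsg.isometryGroup F ⇑Q)) (ht : orderOf t = 2) (hs : orderOf s = 2) :
    IsConj t s ↔ ∃ g ∈ Cfsg.preserving (Units.coeHom (Matrix ι ι F))
        (fun u v => Q (u + v) - Q u - Q v),
      g * (t : GL ι F) * g⁻¹ = (s : GL ι F) := by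
  constructor
  · intro h
    obtain ⟨c, hc⟩ := isConj_iff.mp h
    refine ⟨(c : GL ι F), ?_, ?_⟩
    · intro u v
      show Q (_ + _) - Q _ - Q _ = Q (u + v) - Q u - Q v
      rw [← Matrix.mulVec_add]
      have h1 := c.2 (u + v) (u + v)
      have h2 := c.2 u u
      have h3 := c.2 v v
      simp only at h1 h2 h3
      rw [h1, h2, h3]
    · rw [← hc]
      rfl
  · rintro ⟨g, hg, hgc⟩
    set T : (ι → F) ≃ₗ[F] (ι → F) := (isoEquiv Q t : (ι → F) ≃ₗ[F] (ι → F)) with hT
    set S : (ι → F) ≃ₗ[F] (ι → F) := (isoEquiv Q s : (ι → F) ≃ₗ[F] (ι → F)) with hS'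
    set G : (ι → F) ≃ₗ[F] (ι → F) := glEquiv g with hG
    have hTO : T ∈ O Q := (isoEquiv Q t).2
    have hSO : S ∈ O Q := (isoEquiv Q s).2
    have hTT : T * T = 1 := by
      have h1 : t * t = 1 := by
        have := pow_orderOf_eq_one t
        rw [ht, pow_two] at this
        exact this
      have h2 : isoEquiv Q t * isoEquiv Q t = 1 := by rw [← map_mul, h1, map_one]
      exact congrArg Subtype.val h2
    have hSS : S * S = 1 := by
      have h1 : s * s = 1 := by
        have := pow_orderOf_eq_one s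
        rw [hs, pow_two] at this
        exact this
      have h2 : isoEquiv Q s * isoEquiv Q s = 1 := by rw [← map_mul, h1, map_one]
      exact congrArg Subtype.val h2
    have hconj : G * T * G⁻¹ = S := by
      have e1 : T = glEquiv (t : GL ι F) := rfl
      have e2 : S = glEquiv (s : GL ι F) := rfl
      rw [e1, e2, hG, ← map_inv, ← map_mul, ← map_mul, hgc]
    have hGp : ∀ u v, polar Q (G u) (G v) = polar Q u v := by
      intro u v
      have := hg u v
      simp only at this
      unfold polar
      exact this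
    have hrk : rk T = rk S := by rw [← hconj, rk_conj]
    have hiff : IsA Q T ↔ IsA Q S := by
      have key : ∀ v, Q (nil S v) = Q (nil T (G⁻¹ v)) := by
        intro v
        rw [← polar_self_nil hSO v, ← polar_self_nil hTO (G⁻¹ v), ← hconj, nil_conj,
          ← hGp (G⁻¹ v)]
        have e : G (G⁻¹ v) = v := G.apply_symm_apply v
        rw [e]
      constructor
      · intro h v
        rw [key]
        exact h _
      · intro h v
        have := h (G v)
        rw [key] at this
        have e : G⁻¹ (G v) = v := G.symm_apply_apply v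
        rwa [e] at this
    obtain ⟨h, hh, hhc⟩ := conj_involutions hS hTO hSO hTT hSS hrk hiff
    apply isConj_iff.mpr
    refine ⟨(isoEquiv Q).symm ⟨h, hh⟩, ?_⟩
    apply (isoEquiv Q).injective
    rw [map_mul, map_mul, map_inv, MulEquiv.apply_symm_apply]
    apply Subtype.ext
    exact hhc

end Cfsg.Agent.Lib.Helper44.Inv6
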