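import Mathlib
import Cfsg.Agent.Lib.Helper44.Inv5
import Cfsg.Agent.Lib.Helper44.Omega2
import Cfsg.Agent.Lib.Helper44.MaxTS2

set_option autoImplicit false

namespace Cfsg.Agent.Lib.Helper44.Inv7

open Module QuadraticMap
open Cfsg.Agent.Lib.Helper44.QSpace Cfsg.Agent.Lib.Helper44.OGroup Cfsg.Agent.Lib.Helper44.Parity
open Cfsg.Agent.Lib.Helper44.CD2a Cfsg.Agent.Lib.Helper44.WittND Cfsg.Agent.Lib.Helper44.Eichler
open Cfsg.Agent.Lib.Helper44.Inv1 Cfsg.Agent.Lib.Helper44.Inv2 Cfsg.Agent.Lib.Helper44.TSTrans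
open Cfsg.Agent.Lib.Helper44.Inv3 Cfsg.Agent.Lib.Helper44.Inv4 Cfsg.Agent.Lib.Helper44.Omega2
open Cfsg.Agent.Lib.Helper44.Spinor Cfsg.Agent.Lib.Helper44.MaxTS Cfsg.Agent.Lib.Helper44.MaxTS2

universe u

variable {F : Type*} [Field F] {V : Type u} [AddCommGroup V] [Module F V]
variable {Q : QuadraticForm F V} [FiniteDimensional F V]

/-- A totally singular subspace has at most half the dimension. -/
theorem two_finrank_le_of_sing (hS : Sep Q) {W : Submodule F V} (hW : ∀ w ∈ W, Q w = 0) :
    2 * finrank F W ≤ finrank F V := by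
  have h1 : W ≤ LinearMap.BilinForm.orthogonal (polarBilin Q) W := by
    intro x hx y hy
    exact polar_of_sing hW hy hx
  have h2 := Submodule.finrank_mono h1
  rw [LinearMap.BilinForm.finrank_orthogonal (nondegenerate_of_sep hS)] at h2
  have h3 := Submodule.finrank_le W
  omega

/-- A subspace of any smaller dimension. -/
theorem exists_le_finrank_eq {W : Submodule F V} {k : ℕ} (hk : k ≤ finrank F W) :
    ∃ W' ≤ W, finrank F W' = k := by
  set b := Module.finBasis F W with hb
  set f : Fin k → V := fun i => (b (Fin.castLE hk i) : V) with hf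
  refine ⟨Submodule.span F (Set.range f), ?_, ?_⟩
  · rw [Submodule.span_le]
    rintro _ ⟨i, rfl⟩
    exact (b _).2
  · have h1 : LinearIndependent F (fun i => (b i : V)) :=
      b.linearIndependent.map' W.subtype (Submodule.ker_subtype W)
    have hli : LinearIndependent F f := h1.comp _ (Fin.castLE_injective hk)
    rw [finrank_span_eq_card hli, Fintype.card_fin]

section chartwo

variable [CharP F 2] {t : V ≃ₗ[F] V}

omit [FiniteDimensional F V] in
theorem range_le_fix (ht : t * t = 1) : LinearMap.range (nil t) ≤ fixS t := by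
  rintro _ ⟨v, rfl⟩
  exact mem_fixS.mpr (apply_nil ht v)

theorem rk_le_fix (ht : t * t = 1) : rk t ≤ finrank F (fixS t) :=
  Submodule.finrank_mono (range_le_fix ht)

theorem two_rk_le (ht : t * t = 1) : 2 * rk t ≤ finrank F V := by
  have h1 := rk_add_finrank_fix t
  have h2 := rk_le_fix ht
  omega

/-- If `Q` vanishes on the fixed space of the involution `t` then `t` is of type `a` and of
maximal rank. -/
theorem isA_of_sing_fix (hS : Sep Q) (ht : t * t = 1) (h : ∀ x, t x = x → Q x = 0) :
    IsA Q t ∧ 2 * rk t = finrank F V ∧ LinearMap.range (nil t) = fixS t := by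
  have h0 : ∀ w ∈ fixS t, Q w = 0 := fun w hw => h w (mem_fixS.mp hw)
  have h1 := two_finrank_le_of_sing hS h0
  have h2 := rk_add_finrank_fix t
  have h3 := rk_le_fix ht
  have h4 : LinearMap.range (nil t) = fixS t := by
    apply Submodule.eq_of_le_of_finrank_le (range_le_fix ht)
    unfold rk at h2 h3
    omega
  refine ⟨?_, by omega, h4⟩
  intro v
  apply h0
  rw [← h4]
  exact ⟨v, rfl⟩

/-- Unless `t` is of type `a` and of maximal rank, it fixes a non-singular vector. -/
theorem exists_nonsing_fixed (hS : Sep Q) (ht : t * t = 1)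
    (h : ¬ (IsA Q t ∧ 2 * rk t = finrank F V)) : ∃ v, Q v ≠ 0 ∧ t v = v := by
  by_contra hcon
  push Not at hcon
  apply h
  have := isA_of_sing_fix hS ht (fun x hx => by
    by_contra hne
    exact hcon x hne hx)
  exact ⟨this.1, this.2.1⟩

/-- Involutions of type `a` have even rank. -/
theorem even_rk_of_isA (hS : Sep Q) : ∀ (n : ℕ) (t : V ≃ₗ[F] V), t ∈ O Q → t * t = 1 →
    IsA Q t → rk t = n → Even n := by
  intro n
  induction n using Nat.strong_induction_on with
  | _ n ih =>
    intro t hO ht hA hn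
    by_cases h0 : n = 0
    · rw [h0]
      exact Even.zero
    obtain ⟨u₀, u₀', hu1, hu2, hu3⟩ := peel_of_isA hS hA (by omega)
    have hZ : NDsub Q (⊥ : Submodule F V) := by
      intro x hx _
      exact (Submodule.mem_bot F).mp hx
    have hfix : ∀ z ∈ (⊥ : Submodule F V), t z = z := by
      intro z hz
      rw [(Submodule.mem_bot F).mp hz, map_zero]
    obtain ⟨u, u', B⟩ := exists_adapted hS hO ht hZ hfix hu1 hu2 hu3
    have hrk := rk_factor hO ht B
    have he := ih (n - 2) (by omega) _ (factor_mem hO B) (factor_sq hO ht B)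
      ((isA_factor hO ht B).mpr hA) (by omega)
    have : n = n - 2 + 2 := by omega
    rw [this]
    exact he.add even_two

end chartwo

section omega

variable [CharP F 2] [Fintype F]

theorem chi_eq (t : V ≃ₗ[F] V) : chi t = (rk t : ZMod 2) := by
  unfold chi
  rw [← rk_add_finrank_fix t, Nat.cast_add, add_assoc]
  have : ∀ a : ZMod 2, a + a = 0 := by decide
  rw [this, add_zero]

/-- Membership in the commutator subgroup: even rank of `g - 1`. -/
theorem mem_comm_iff (hS : Sep Q) (hG : Good Q) (g : O Q) :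
    g ∈ commutator (O Q) ↔ Even (rk (g : V ≃ₗ[F] V)) := by
  rw [commutator_eq_ker_two hS hG, MonoidHom.mem_ker]
  show Multiplicative.ofAdd (chi (g : V ≃ₗ[F] V)) = 1 ↔ _
  rw [chi_eq, ← ZMod.natCast_eq_zero_iff_even]
  rfl

theorem mul_mem_comm (hS : Sep Q) (hG : Good Q) {g h : O Q} (hg : g ∉ commutator (O Q))
    (hh : h ∉ commutator (O Q)) : g * h ∈ commutator (O Q) := by
  rw [commutator_eq_ker_two hS hG, MonoidHom.mem_ker] at hg hh ⊢
  rw [map_mul]
  have key : ∀ a b : Multiplicative (ZMod 2), a ≠ 1 → b ≠ 1 → a * b = 1 := by decide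
  exact key _ _ hg hh

theorem mul_not_mem_comm {g h : O Q} (hg : g ∈ commutator (O Q))
    (hh : h ∉ commutator (O Q)) : g * h ∉ commutator (O Q) := by
  intro hgh
  apply hh
  have := Subgroup.mul_mem _ (Subgroup.inv_mem _ hg) hgh
  rwa [inv_mul_cancel_left] at this

theorem refl_not_mem (hS : Sep Q) (hG : Good Q) {v : V} (hv : Q v ≠ 0) :
    refl Q v ∉ commutator (O Q) := by
  intro h
  have h1 := (mem_commutator_iff_two hS hG [v] (by
    intro x hx
    rw [List.mem_singleton] at hx
    rw [hx]
    exact hv)).mp (by simpa using h)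
  simp at h1

/-- If the involution `t` fixes a non-singular vector, conjugacy in the orthogonal group
implies conjugacy under the commutator subgroup. -/
theorem exists_conj_comm (hS : Sep Q) (hG : Good Q) {t s : O Q} {v : V} (hv : Q v ≠ 0)
    (htv : (t : V ≃ₗ[F] V) v = v) {g : O Q} (hg : g * t * g⁻¹ = s) :
    ∃ g' ∈ commutator (O Q), g' * t * g'⁻¹ = s := by
  by_cases hgc : g ∈ commutator (O Q)
  · exact ⟨g, hgc, hg⟩
  refine ⟨g * refl Q v, mul_mem_comm hS hG hgc (refl_not_mem hS hG hv), ?_⟩
  have h1 : t * refl Q v * t⁻¹ = refl Q v := by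
    apply Subtype.ext
    show (t : V ≃ₗ[F] V) * reflE Q v * (t : V ≃ₗ[F] V)⁻¹ = reflE Q v
    rw [conj_reflE t.2, htv]
  have h2 : refl Q v * t * (refl Q v)⁻¹ = t := by
    have : refl Q v * t = t * refl Q v := by
      calc refl Q v * t = (t * refl Q v * t⁻¹) * t := by rw [h1]
        _ = t * refl Q v := by group
    rw [this]
    group
  calc g * refl Q v * t * (g * refl Q v)⁻¹ = g * (refl Q v * t * (refl Q v)⁻¹) * g⁻¹ := by group
    _ = s := by rw [h2, hg]

end omega

end Cfsg.Agent.Lib.Helper44.Inv7
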