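import Mathlib
import Cfsg.Agent.Lib.Helper44.Inv6
import Cfsg.Agent.Lib.Helper44.Inv7
import Cfsg.Agent.Lib.Helper44.OMat2

set_option autoImplicit false

namespace Cfsg.Agent.Lib.Helper44.Inv8

open Module QuadraticMap Matrix
open Cfsg.Agent.Lib.Helper44.QSpace Cfsg.Agent.Lib.Helper44.OGroup Cfsg.Agent.Lib.Helper44.Parity
open Cfsg.Agent.Lib.Helper44.CD2a Cfsg.Agent.Lib.Helper44.Inv1 Cfsg.Agent.Lib.Helper44.Inv4
open Cfsg.Agent.Lib.Helper44.Inv5 Cfsg.Agent.Lib.Helper44.OMat Cfsg.Agent.Lib.Helper44.NegPairs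
open Cfsg.Agent.Lib.Helper44.Inv7 Cfsg.Agent.Lib.Helper44.Omega2 Cfsg.Agent.Lib.Helper44.TSTrans
open Cfsg.Agent.Lib.Helper44.Spinor Cfsg.Agent.Lib.Helper44.MaxTS Cfsg.Agent.Lib.Helper44.MaxTS2

universe u

section abstract

variable {F : Type*} [Field F] {V : Type u} [AddCommGroup V] [Module F V]
variable {Q : QuadraticForm F V}

theorem range_nil_conj (g t : V ≃ₗ[F] V) :
    LinearMap.range (nil (g * t * g⁻¹)) = (LinearMap.range (nil t)).map (g : V →ₗ[F] V) := by
  ext x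
  constructor
  · rintro ⟨v, rfl⟩
    exact ⟨nil t (g⁻¹ v), ⟨g⁻¹ v, rfl⟩, (nil_conj g t v).symm⟩
  · rintro ⟨_, ⟨v, rfl⟩, rfl⟩
    refine ⟨g v, ?_⟩
    rw [nil_conj]
    have e : g⁻¹ (g v) = v := g.symm_apply_apply v
    rw [e]
    rfl

theorem prod_reflE_mem (Q : QuadraticForm F V) (vs : List V) :
    (vs.map (reflE Q)).prod ∈ O Q := by
  rw [← coe_prod_refl]
  exact ((vs.map (refl Q)).prod).2

variable [FiniteDimensional F V] [CharP F 2] [Fintype F]

/-- For involutions of type `a` and maximal rank, the conjugating isometry lies in the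
commutator subgroup exactly when the images of `t - 1` and `s - 1` meet in even dimension. -/
theorem comm_iff_even_inf (hS : Sep Q) (hG : Good Q) {m : ℕ} (hV : finrank F V = 2 * m)
    (hm : Even m) {t s : V ≃ₗ[F] V} (hA : IsA Q t) (hrk : rk t = m) (g : O Q)
    (hg : (g : V ≃ₗ[F] V) * t * (g : V ≃ₗ[F] V)⁻¹ = s) :
    g ∈ commutator (O Q) ↔
      Even (finrank F ↥(LinearMap.range (nil t) ⊓ LinearMap.range (nil s))) := by
  obtain ⟨vs, hvs, hprod⟩ := cdp_two hS hG g g.2
  have hgeq : g = (vs.map (refl Q)).prod :=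
    Subtype.ext (hprod.trans (coe_prod_refl Q vs).symm)
  have hTS : TS Q m (LinearMap.range (nil t)) := by
    refine ⟨hrk, ?_⟩
    rintro _ ⟨v, rfl⟩
    exact hA v
  have hpar := parity_prod hS hV hTS vs hvs
  have hr : LinearMap.range (nil s)
      = (LinearMap.range (nil t)).map (((vs.map (reflE Q)).prod : V ≃ₗ[F] V) : V →ₗ[F] V) := by
    rw [← hg, range_nil_conj, hprod]
  rw [← hr] at hpar
  have hle : finrank F ↥(LinearMap.range (nil t) ⊓ LinearMap.range (nil s)) ≤ m := by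
    have := Submodule.finrank_mono
      (inf_le_left : LinearMap.range (nil t) ⊓ LinearMap.range (nil s) ≤ LinearMap.range (nil t))
    rw [hTS.1] at this
    exact this
  rw [hgeq, mem_commutator_iff_two hS hG vs hvs, Nat.even_iff, Nat.even_iff]
  rw [Nat.even_iff] at hm
  omega

end abstract

section matrix

variable {F : Type*} [Field F] {ι : Type} [Fintype ι] [DecidableEq ι]

theorem nil_iso (Q : QuadraticForm F (ι → F)) (t : ↥(Cfsg.isometryGroup F ⇑Q)) :
    nil ((isoEquiv Q t : ↥(O Q)) : (ι → F) ≃ₗ[F] (ι → F))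
      = Matrix.toLin' (((t : GL ι F) : Matrix ι ι F) - 1) := by
  apply LinearMap.ext
  intro v
  rw [nil_apply, Matrix.toLin'_apply, Matrix.sub_mulVec, Matrix.one_mulVec]
  rfl

theorem rank_iso (Q : QuadraticForm F (ι → F)) (t : ↥(Cfsg.isometryGroup F ⇑Q)) :
    (((t : GL ι F) : Matrix ι ι F) - 1).rank
      = rk ((isoEquiv Q t : ↥(O Q)) : (ι → F) ≃ₗ[F] (ι → F)) := by
  unfold rk
  rw [nil_iso]
  rfl

theorem isA_iso [CharP F 2] (Q : QuadraticForm F (ι → F)) (t : ↥(Cfsg.isometryGroup F ⇑Q)) :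
    (∀ v, Q (v + ((t : GL ι F) : Matrix ι ι F) *ᵥ v) = 0)
      ↔ IsA Q ((isoEquiv Q t : ↥(O Q)) : (ι → F) ≃ₗ[F] (ι → F)) := by
  have key : ∀ v, nil ((isoEquiv Q t : ↥(O Q)) : (ι → F) ≃ₗ[F] (ι → F)) v
      = v + ((t : GL ι F) : Matrix ι ι F) *ᵥ v := by
    intro v
    rw [nil_apply]
    show ((t : GL ι F) : Matrix ι ι F) *ᵥ v - v = v + ((t : GL ι F) : Matrix ι ι F) *ᵥ v
    rw [sub_eq_add_neg, neg_eq_self (F := F), add_comm]
  constructor
  · intro h v
    rw [key]
    exact h v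
  · intro h v
    rw [← key]
    exact h v

theorem iso_sq (Q : QuadraticForm F (ι → F)) {t : ↥(Cfsg.isometryGroup F ⇑Q)}
    (ht : orderOf t = 2) :
    ((isoEquiv Q t : ↥(O Q)) : (ι → F) ≃ₗ[F] (ι → F)) * (isoEquiv Q t : ↥(O Q)) = 1 := by
  have h1 : t * t = 1 := by
    have := pow_orderOf_eq_one t
    rw [ht, pow_two] at this
    exact this
  have h2 : isoEquiv Q t * isoEquiv Q t = 1 := by rw [← map_mul, h1, map_one]
  exact congrArg Subtype.val h2

variable [CharP F 2] [Fintype F]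

/-- Unless `t` is of type `a` and maximal rank, conjugacy in `O` implies conjugacy in `Ω`. -/
theorem omega_conj_of_not_max (Q : QuadraticForm F (ι → F)) (hS : Sep Q) (hG : Good Q)
    (t s : ↥(Cfsg.isometryGroup F ⇑Q)) (ht : orderOf t = 2) (hconj : IsConj t s)
    (h : ¬ (IsA Q ((isoEquiv Q t : ↥(O Q)) : (ι → F) ≃ₗ[F] (ι → F)) ∧
      2 * rk ((isoEquiv Q t : ↥(O Q)) : (ι → F) ≃ₗ[F] (ι → F)) = Fintype.card ι)) :
    ∃ g ∈ Cfsg.Omega F ⇑Q, g * t * g⁻¹ = s := by
  obtain ⟨c, hc⟩ := isConj_iff.mp hconj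
  have hc' : isoEquiv Q c * isoEquiv Q t * (isoEquiv Q c)⁻¹ = isoEquiv Q s := by
    rw [← map_inv, ← map_mul, ← map_mul, hc]
  rw [← Module.finrank_fintype_fun_eq_card (R := F)] at h
  obtain ⟨v, hv, htv⟩ := exists_nonsing_fixed hS (iso_sq Q ht) h
  obtain ⟨g', hg', hg'c⟩ := exists_conj_comm hS hG hv htv hc'
  refine ⟨(isoEquiv Q).symm g', ?_, ?_⟩
  · rw [mem_omega_iff, MulEquiv.apply_symm_apply]
    exact hg'
  · apply (isoEquiv Q).injective
    rw [map_mul, map_mul, map_inv, MulEquiv.apply_symm_apply]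
    exact hg'c

/-- The splitting criterion in matrix form. -/
theorem omega_conj_general (Q : QuadraticForm F (ι → F)) (hS : Sep Q) (hG : Good Q) {m : ℕ}
    (hV : Fintype.card ι = 2 * m) (t s : ↥(Cfsg.isometryGroup F ⇑Q)) (ht : orderOf t = 2)
    (htO : t ∈ Cfsg.Omega F ⇑Q) (hconj : IsConj t s) :
    (¬ ((((t : GL ι F) : Matrix ι ι F) - 1).rank = m ∧
        ∀ v : ι → F, Q (v + ((t : GL ι F) : Matrix ι ι F) *ᵥ v) = 0) →
      ∃ g ∈ Cfsg.Omega F ⇑Q, g * t * g⁻¹ = s) ∧
    (((((t : GL ι F) : Matrix ι ι F) - 1).rank = m ∧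
        ∀ v : ι → F, Q (v + ((t : GL ι F) : Matrix ι ι F) *ᵥ v) = 0) →
      ((∃ g ∈ Cfsg.Omega F ⇑Q, g * t * g⁻¹ = s) ↔
        Even (finrank F ↥(LinearMap.range (Matrix.toLin' (((t : GL ι F) : Matrix ι ι F) - 1)) ⊓
          LinearMap.range (Matrix.toLin' (((s : GL ι F) : Matrix ι ι F) - 1)))))) := by
  rw [rank_iso, isA_iso]
  constructor
  · intro h
    apply omega_conj_of_not_max Q hS hG t s ht hconj
    rintro ⟨h1, h2⟩
    apply h
    exact ⟨by omega, h1⟩
  · rintro ⟨hrk, hA⟩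
    rw [← nil_iso, ← nil_iso]
    have hfin : finrank F (ι → F) = 2 * m := by
      rw [Module.finrank_fintype_fun_eq_card]
      exact hV
    have hm : Even m := by
      rw [← hrk, ← mem_comm_iff hS hG]
      exact (mem_omega_iff Q t).mp htO
    constructor
    · rintro ⟨g, hg, hgc⟩
      have hg' : isoEquiv Q g * isoEquiv Q t * (isoEquiv Q g)⁻¹ = isoEquiv Q s := by
        rw [← map_inv, ← map_mul, ← map_mul, hgc]
      exact (comm_iff_even_inf hS hG hfin hm hA hrk (isoEquiv Q g)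
        (congrArg Subtype.val hg')).mp ((mem_omega_iff Q g).mp hg)
    · intro he
      obtain ⟨c, hc⟩ := isConj_iff.mp hconj
      have hc' : isoEquiv Q c * isoEquiv Q t * (isoEquiv Q c)⁻¹ = isoEquiv Q s := by
        rw [← map_inv, ← map_mul, ← map_mul, hc]
      exact ⟨c, (mem_omega_iff Q c).mpr ((comm_iff_even_inf hS hG hfin hm hA hrk (isoEquiv Q c)
        (congrArg Subtype.val hc')).mpr he), hc⟩

end matrix

section minus

variable {F : Type*} [Field F]

/-- The Witt index of the minus-type form: a totally singular subspace has dimension at most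
`n`. -/
theorem minus_ts_le {n : ℕ} {a b : F} (hS : Sep (minusQ n F a b))
    (hab : ∀ z₁ z₂ : F, z₁ ^ 2 + a * z₁ * z₂ + b * z₂ ^ 2 = 0 → z₁ = 0 ∧ z₂ = 0)
    {W : Submodule F ((Fin n ⊕ Fin n) ⊕ Fin 2 → F)} (hW : ∀ w ∈ W, minusQ n F a b w = 0) :
    finrank F W ≤ n := by
  by_contra hcon
  push Not at hcon
  set φ : Fin n ⊕ Fin 2 → (Fin n ⊕ Fin n) ⊕ Fin 2 :=
    Sum.elim (fun i => Sum.inl (Sum.inr i)) Sum.inr with hφ
  have hφi : Function.Injective φ := by
    rintro (i | i) (j | j) h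
    · simp only [hφ, Sum.elim_inl, Sum.inl.injEq, Sum.inr.injEq] at h
      rw [h]
    · simp [hφ] at h
    · simp [hφ] at h
    · simp only [hφ, Sum.elim_inr, Sum.inr.injEq] at h
      rw [h]
  set U₀ := LinearMap.ker (LinearMap.funLeft F F φ) with hU₀
  have hmem : ∀ x, x ∈ U₀ ↔ (∀ i, x (Sum.inl (Sum.inr i)) = 0) ∧ ∀ k, x (Sum.inr k) = 0 := by
    intro x
    rw [hU₀, LinearMap.mem_ker]
    constructor
    · intro h
      exact ⟨fun i => congrFun h (Sum.inl i), fun k => congrFun h (Sum.inr k)⟩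
    · rintro ⟨h1, h2⟩
      funext j
      rcases j with i | k
      · exact h1 i
      · exact h2 k
  have hfin : finrank F U₀ = n := by
    have h1 := LinearMap.finrank_range_add_finrank_ker (LinearMap.funLeft F F φ)
    have h2 : LinearMap.range (LinearMap.funLeft F F φ) = ⊤ :=
      LinearMap.range_eq_top.mpr (LinearMap.funLeft_surjective_of_injective F F _ hφi)
    rw [h2, finrank_top, Module.finrank_fintype_fun_eq_card,
      Module.finrank_fintype_fun_eq_card] at h1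
    simp only [Fintype.card_sum, Fintype.card_fin] at h1
    rw [hU₀]
    omega
  have hQ0 : ∀ u ∈ U₀, minusQ n F a b u = 0 := by
    intro u hu
    obtain ⟨h1, h2⟩ := (hmem u).mp hu
    show Cfsg.quadFormMinus n F a b u = 0
    unfold Cfsg.quadFormMinus
    rw [h2 0, h2 1]
    have : ∑ i : Fin n, u (Sum.inl (Sum.inl i)) * u (Sum.inl (Sum.inr i)) = 0 := by
      apply Finset.sum_eq_zero
      intro i _
      rw [h1 i, mul_zero]
    rw [this]
    ring
  have hmax : ∀ x, (∀ u ∈ U₀, polar (minusQ n F a b) u x = 0) → minusQ n F a b x = 0 →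
      x ∈ U₀ := by
    intro x hx hqx
    have hy : ∀ i, x (Sum.inl (Sum.inr i)) = 0 := by
      intro i
      have he : Pi.single (Sum.inl (Sum.inl i)) (1 : F) ∈ U₀ := by
        rw [hmem]
        constructor
        · intro j
          simp
        · intro k
          simp
      have h1 := hx _ he
      have h2 := minus_H1 n a b x (Sum.inl i)
      have h3 := hQ0 _ he
      unfold polar at h1
      rw [add_comm, h2, h3, hqx] at h1
      simpa using h1
    rw [hmem]
    refine ⟨hy, ?_⟩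
    have hq : Cfsg.quadFormMinus n F a b x = 0 := hqx
    unfold Cfsg.quadFormMinus at hq
    have : ∑ i : Fin n, x (Sum.inl (Sum.inl i)) * x (Sum.inl (Sum.inr i)) = 0 := by
      apply Finset.sum_eq_zero
      intro i _
      rw [hy i, mul_zero]
    rw [this, zero_add] at hq
    obtain ⟨z0, z1⟩ := hab _ _ hq
    intro k
    fin_cases k
    · exact z0
    · exact z1
  obtain ⟨W', hW'le, hW'fin⟩ := exists_le_finrank_eq (W := W) (k := n) (by omega)
  obtain ⟨vs, hvs, hmap⟩ := exists_prod_map hS _ W' U₀ (fun w hw => hW w (hW'le hw)) hQ0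
    (by rw [hW'fin, hfin]) rfl
  set g : ((Fin n ⊕ Fin n) ⊕ Fin 2 → F) ≃ₗ[F] ((Fin n ⊕ Fin n) ⊕ Fin 2 → F) :=
    (vs.map (reflE (minusQ n F a b))).prod with hg
  have hgO : g ∈ O (minusQ n F a b) := prod_reflE_mem _ vs
  have hsub : W.map (g : ((Fin n ⊕ Fin n) ⊕ Fin 2 → F) →ₗ[F] ((Fin n ⊕ Fin n) ⊕ Fin 2 → F))
      ≤ U₀ := by
    rintro _ ⟨w, hw, rfl⟩
    apply hmax
    · intro u hu
      rw [← hmap] at hu
      obtain ⟨w', hw', rfl⟩ := hu
      show polar (minusQ n F a b) (g w') (g w) = 0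
      rw [polar_of_mem_O hgO]
      exact polar_of_sing hW (hW'le hw') hw
    · show minusQ n F a b (g w) = 0
      rw [hgO w]
      exact hW w hw
  have := Submodule.finrank_mono hsub
  rw [LinearEquiv.finrank_map_eq, hfin] at this
  omega

/-- The minus-type form always satisfies the hypothesis `Good`. -/
theorem good_minusQ [Fintype F] {n : ℕ} {a b : F} (hS : Sep (minusQ n F a b))
    (hab : ∀ z₁ z₂ : F, z₁ ^ 2 + a * z₁ * z₂ + b * z₂ ^ 2 = 0 → z₁ = 0 ∧ z₂ = 0) :
    Good (minusQ n F a b) := by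
  by_cases h5 : 5 ≤ finrank F ((Fin n ⊕ Fin n) ⊕ Fin 2 → F)
  · exact Or.inr (Or.inl h5)
  right
  right
  rw [Module.finrank_fintype_fun_eq_card] at h5
  simp only [Fintype.card_sum, Fintype.card_fin] at h5
  intro x y hx hy hxy hli
  have hW : ∀ w ∈ Submodule.span F (Set.range ![x, y]), minusQ n F a b w = 0 := by
    intro w hw
    rw [Submodule.mem_span_range_iff_exists_fun] at hw
    obtain ⟨c, rfl⟩ := hw
    simp only [Fin.sum_univ_two, Matrix.cons_val_zero, Matrix.cons_val_one]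
    rw [q_add, q_smul, q_smul, hx, hy, polar_smul_l, polar_smul_r, hxy]
    ring
  have h1 := minus_ts_le hS hab hW
  rw [finrank_span_eq_card hli, Fintype.card_fin] at h1
  omega

end minus

end Cfsg.Agent.Lib.Helper44.Inv8
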