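import Mathlib
import Cfsg.Prelude.Def_Classical
import Cfsg.Prelude.Def_GeometricClasses
import Cfsg.Agent.Lib.Helper41.TMTwoStmt
import Cfsg.Agent.Lib.Helper44.OTyp1
import Cfsg.Agent.Lib.Helper44.Inv6
import Cfsg.Agent.Lib.Helper44.Inv8

/-!
# S5987: the minus space is not the orthogonal sum of two minus-type spaces (all characteristics)

`main`: in the standard minus form on `M d → F` (any finite field), if `⊤ = A ⊥ B` with `A`, `B`
nondegenerate of even finrank, then `A` or `B` is of plus type.  This is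
`Helper41.TMTwoStmt.TwoMinus` without the hypothesis `Odd (Fintype.card F)`.

Proof: restrict `Q` to `A` and `-Q` to `B`; by `QClass.exists_hyp_even` each is hyperbolic (plus
type) or `k` hyperbolic pairs plus an elliptic plane `(x, y, ζ)`; `OTyp1.ell_change` makes the two
parameters `ζ` equal; then the `e`'s of both sides and `x_A + x_B`, `y_A + y_B` span a totally
singular subspace of finrank `d`, contradicting `Inv8.minus_ts_le`.
-/

set_option autoImplicit false

namespace Cfsg.Agent.Lib.Helper44.TwoMinusG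

open Module QuadraticMap
open Cfsg.Agent.Lib.Helper44.QSpace Cfsg.Agent.Lib.Helper44.QClass Cfsg.Agent.Lib.Helper44.QBasis
open Cfsg.Agent.Lib.Helper44.NegPairs
open Cfsg.Agent.Lib.Helper45.OMiStmt (M Aniso NDegM)
open Cfsg.Agent.Lib.Helper41.TMTwoStmt (TSubM PlusM)

universe u v

section gen

variable {F : Type u} [Field F] {V : Type v} [AddCommGroup V] [Module F V]

theorem polar_negQ (Q : QuadraticForm F V) (x y : V) : polar (-Q) x y = - polar Q x y := by
  unfold polar
  simp only [QuadraticMap.neg_apply]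
  ring

/-- the span of pairwise orthogonal singular vectors is totally singular -/
theorem ts_span (Q : QuadraticForm F V) {ι : Type*} (g : ι → V) (hQ : ∀ i, Q (g i) = 0)
    (hgg : ∀ i j, polar Q (g i) (g j) = 0) :
    ∀ u ∈ Submodule.span F (Set.range g), Q u = 0 := by
  have h1 : ∀ u ∈ Submodule.span F (Set.range g), ∀ j, polar Q u (g j) = 0 := by
    intro u hu j
    induction hu using Submodule.span_induction with
    | mem x hx =>
      obtain ⟨i, rfl⟩ := hx
      exact hgg i j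
    | zero => exact polar_zero_left _ _
    | add x y _ _ hx hy => rw [polar_add_left, hx, hy, add_zero]
    | smul a x _ hx => rw [polar_smul_l, hx, mul_zero]
  have h2 : ∀ u ∈ Submodule.span F (Set.range g), ∀ w ∈ Submodule.span F (Set.range g),
      polar Q u w = 0 := by
    intro u hu w hw
    induction hw using Submodule.span_induction with
    | mem x hx =>
      obtain ⟨j, rfl⟩ := hx
      exact h1 u hu j
    | zero => exact polar_zero_right _ _
    | add x y _ _ hx hy => rw [polar_add_right, hx, hy, add_zero]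
    | smul a x _ hx => rw [polar_smul_r, hx, mul_zero]
  intro u hu
  induction hu using Submodule.span_induction with
  | mem x hx =>
    obtain ⟨i, rfl⟩ := hx
    exact hQ i
  | zero => exact map_zero Q
  | add x y hx' hy' hx hy => rw [q_add, hx, hy, h2 x hx' y hy', add_zero, add_zero]
  | smul a x _ hx => rw [q_smul, hx, mul_zero]

/-- a nondegenerate subspace of even finrank is of plus type or `k` hyperbolic pairs plus an
elliptic plane -/
theorem sub_cases [Finite F] [FiniteDimensional F V] (Q' : QuadraticForm F V)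
    (W : Submodule F V) (hW : ∀ w ∈ W, w ≠ 0 → ∃ v ∈ W, polar Q' w v ≠ 0)
    (hev : Even (finrank F W)) :
    (∃ U : Submodule F V, U ≤ W ∧ (∀ u ∈ U, Q' u = 0) ∧ 2 * finrank F U = finrank F W) ∨
    (∃ (k : ℕ) (e f : Fin k → V) (x y : V) (ζ : F), finrank F W = 2 * (k + 1) ∧
      (∀ i, e i ∈ W) ∧ (∀ i, f i ∈ W) ∧ x ∈ W ∧ y ∈ W ∧ IsHyp Q' e f ∧ IsEll Q' x y ζ ∧
      (∀ i, polar Q' (e i) x = 0 ∧ polar Q' (e i) y = 0 ∧ polar Q' (f i) x = 0 ∧
        polar Q' (f i) y = 0)) := by
  obtain ⟨n, hn⟩ := hev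
  rcases Nat.eq_zero_or_pos n with h0 | hpos
  · left
    refine ⟨⊥, bot_le, ?_, ?_⟩
    · intro u hu
      rw [(Submodule.mem_bot F).mp hu, map_zero]
    · rw [finrank_bot, hn, h0]
  · obtain ⟨k, rfl⟩ : ∃ k, n = k + 1 := ⟨n - 1, by omega⟩
    have hfin : finrank F W = 2 * (k + 1) := by omega
    have hS : Sep (res Q' W) := by
      intro x hx
      by_contra hne
      have hne' : (x : V) ≠ 0 := fun h => hne (Subtype.ext h)
      obtain ⟨v, hv, hpv⟩ := hW x x.2 hne'
      exact hpv (hx ⟨v, hv⟩)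
    rcases exists_hyp_even k W (res Q' W) hfin hS with ⟨e, f, hH⟩ | ⟨e, f, x, y, ζ, hH, hE, ho⟩
    · left
      have hH' : IsHyp Q' (fun i => (e i : V)) (fun i => (f i : V)) := hH
      refine ⟨Submodule.span F (Set.range (fun i => (e i : V))), ?_, ?_, ?_⟩
      · rw [Submodule.span_le]
        rintro _ ⟨i, rfl⟩
        exact (e i).2
      · exact ts_span Q' _ hH'.1 hH'.2.2.2.1
      · have hli := linearIndependent_hyp hH' (fun i : Fin 0 => i.elim0)
          linearIndependent_empty_type (fun i t => t.elim0) (fun i t => t.elim0)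
        have hli2 : LinearIndependent F (fun i => (e i : V)) :=
          hli.comp (fun i => Sum.inl (Sum.inl i)) (fun a b h => by simpa using h)
        rw [finrank_span_eq_card hli2, Fintype.card_fin, hfin]
    · right
      exact ⟨k, fun i => (e i : V), fun i => (f i : V), (x : V), (y : V), ζ, hfin,
        fun i => (e i).2, fun i => (f i).2, x.2, y.2, hH, hE, ho⟩

end gen

theorem main : ∀ (F : Type u) [Field F] [Fintype F] (d : ℕ), 1 ≤ d →
    ∀ (a b : F), Aniso a b →
    ∀ A B : Submodule F (M d → F), NDegM d F a b A → NDegM d F a b B →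
    (∀ u ∈ A, ∀ v ∈ B, QuadraticMap.polar (Cfsg.quadFormMinus (d - 1) F a b) u v = 0) →
    A ⊔ B = ⊤ → Even (Module.finrank F ↥A) →
    PlusM d F a b A ∨ PlusM d F a b B := by
  intro F _ _ d hd a b hab A B hA hB hAB hsup hev
  classical
  set Q : QuadraticForm F (M d → F) := minusQ (d - 1) F a b with hQdef
  have hSep : Sep Q := by
    by_cases h2 : (2 : F) = 0
    · haveI : CharP F 2 := CharTwo.of_one_ne_zero_of_two_eq_zero one_ne_zero h2
      exact Cfsg.Agent.Lib.Helper44.Inv6.sep_minusQ_two (d - 1) a b hab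
    · exact sep_minusQ h2 (d - 1) a b hab
  have hAB' : ∀ u ∈ A, ∀ v ∈ B, polar Q u v = 0 := hAB
  have hBA' : ∀ u ∈ B, ∀ v ∈ A, polar Q u v = 0 := fun u hu v hv => by
    rw [polar_comm]
    exact hAB v hv u hu
  have hinf : A ⊓ B = ⊥ := by
    rw [eq_bot_iff]
    rintro v ⟨hvA, hvB⟩
    rw [Submodule.mem_bot]
    by_contra hv
    obtain ⟨⟨x, hx, hxv⟩, -⟩ := hA v hvA hv
    exact hxv (hAB x hx v hvB)
  have hcard : finrank F (M d → F) = 2 * d := by
    rw [Module.finrank_fintype_fun_eq_card]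
    simp only [Fintype.card_sum, Fintype.card_fin]
    omega
  have hsum : finrank F A + finrank F B = 2 * d := by
    have h := Submodule.finrank_sup_add_finrank_inf_eq A B
    rw [hsup, hinf, finrank_top, finrank_bot, hcard] at h
    omega
  have hevB : Even (finrank F B) := by
    obtain ⟨n, hn⟩ := hev
    exact ⟨d - n, by omega⟩
  have hA' : ∀ w ∈ A, w ≠ 0 → ∃ v ∈ A, polar Q w v ≠ 0 := fun w hw hw0 => (hA w hw hw0).2
  have hB' : ∀ w ∈ B, w ≠ 0 → ∃ v ∈ B, polar (-Q) w v ≠ 0 := by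
    intro w hw hw0
    obtain ⟨v, hv, hpv⟩ := (hB w hw hw0).2
    refine ⟨v, hv, ?_⟩
    rw [polar_negQ, neg_ne_zero]
    exact hpv
  rcases sub_cases Q A hA' hev with ⟨U, hUA, hU0, hUf⟩ |
    ⟨k, eA, fA, xA, yA, ζ, hfA, heA, hfA', hxA, hyA, hHA, hEA, hoA⟩
  · left
    exact ⟨U, hUA, hU0, hUf⟩
  rcases sub_cases (-Q) B hB' hevB with ⟨U, hUB, hU0, hUf⟩ |
    ⟨k', eB, fB, xB, yB₀, ζB, hfB, heB, hfB', hxB, hyB₀, hHB, hEB₀, hoB₀⟩
  · right
    refine ⟨U, hUB, ?_, hUf⟩
    intro u hu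
    have h := hU0 u hu
    rw [QuadraticMap.neg_apply, neg_eq_zero] at h
    exact h
  exfalso
  obtain ⟨α, β, hEB⟩ := Cfsg.Agent.Lib.Helper44.OTyp1.ell_change hEB₀ hEA.2.2.2
  obtain ⟨yB, hyBdef⟩ : ∃ yB : M d → F, yB = α • xB + β • yB₀ := ⟨_, rfl⟩
  rw [← hyBdef] at hEB
  have hyB : yB ∈ B := by
    rw [hyBdef]
    exact B.add_mem (B.smul_mem α hxB) (B.smul_mem β hyB₀)
  have hoB : ∀ i, polar (-Q) (eB i) xB = 0 ∧ polar (-Q) (eB i) yB = 0 ∧
      polar (-Q) (fB i) xB = 0 ∧ polar (-Q) (fB i) yB = 0 := by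
    intro i
    obtain ⟨h1, h2, h3, h4⟩ := hoB₀ i
    refine ⟨h1, ?_, h3, ?_⟩
    · rw [hyBdef, polar_add_right, polar_smul_r, polar_smul_r, h1, h2]
      ring
    · rw [hyBdef, polar_add_right, polar_smul_r, polar_smul_r, h3, h4]
      ring
  obtain ⟨hxA1, hxyA, hyAζ, hζ⟩ := hEA
  obtain ⟨hxB1, hxyB, hyBζ, -⟩ := hEB
  have hxB1' : Q xB = -1 := by
    rw [QuadraticMap.neg_apply] at hxB1
    linear_combination -hxB1
  have hxyB' : polar Q xB yB = -1 := by
    rw [polar_negQ] at hxyB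
    linear_combination -hxyB
  have hyBζ' : Q yB = -ζ := by
    rw [QuadraticMap.neg_apply] at hyBζ
    linear_combination -hyBζ
  obtain ⟨u₁, hu₁⟩ : ∃ u₁ : M d → F, u₁ = xA + xB := ⟨_, rfl⟩
  obtain ⟨u₂, hu₂⟩ : ∃ u₂ : M d → F, u₂ = yA + yB := ⟨_, rfl⟩
  have hQu₁ : Q u₁ = 0 := by
    rw [hu₁, q_add, hxA1, hxB1', hAB' xA hxA xB hxB]
    ring
  have hQu₂ : Q u₂ = 0 := by
    rw [hu₂, q_add, hyAζ, hyBζ', hAB' yA hyA yB hyB]
    ring
  have hu₁u₂ : polar Q u₁ u₂ = 0 := by
    rw [hu₁, hu₂, polar_add_left, polar_add_right, polar_add_right, hxyA, hAB' xA hxA yB hyB,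
      hBA' xB hxB yA hyA, hxyB']
    ring
  have hr₁ : LinearIndependent F ![u₁, u₂] := by
    rw [LinearIndependent.pair_iff]
    intro s t hst
    have hliA := linearIndependent_ell (Q := Q) (x := xA) (y := yA) (ζ := ζ)
      ⟨hxA1, hxyA, hyAζ, hζ⟩
    rw [LinearIndependent.pair_iff] at hliA
    apply hliA s t
    have hmemA : s • xA + t • yA ∈ A := A.add_mem (A.smul_mem s hxA) (A.smul_mem t hyA)
    have hmemB : s • xB + t • yB ∈ B := B.add_mem (B.smul_mem s hxB) (B.smul_mem t hyB)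
    have heq : s • xA + t • yA = -(s • xB + t • yB) := by
      rw [hu₁, hu₂] at hst
      rw [eq_neg_iff_add_eq_zero, ← hst]
      simp only [smul_add]
      abel
    have hmem : s • xA + t • yA ∈ A ⊓ B := ⟨hmemA, by rw [heq]; exact B.neg_mem hmemB⟩
    rw [hinf, Submodule.mem_bot] at hmem
    exact hmem
  have hBu : ∀ w ∈ B, polar (-Q) w xB = 0 → polar (-Q) w yB = 0 →
      ∀ t : Fin 2, polar (-Q) w (![u₁, u₂] t) = 0 := by
    intro w hw h1 h2 t
    fin_cases t
    · show polar (-Q) w u₁ = 0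
      rw [hu₁, polar_add_right, h1, polar_negQ, hBA' w hw xA hxA]
      simp
    · show polar (-Q) w u₂ = 0
      rw [hu₂, polar_add_right, h2, polar_negQ, hBA' w hw yA hyA]
      simp
  have L₁ := linearIndependent_hyp hHB ![u₁, u₂] hr₁
    (fun i t => hBu (eB i) (heB i) (hoB i).1 (hoB i).2.1 t)
    (fun i t => hBu (fB i) (hfB' i) (hoB i).2.2.1 (hoB i).2.2.2 t)
  have hAu : ∀ w ∈ A, polar Q w xA = 0 → polar Q w yA = 0 →
      ∀ t : (Fin k' ⊕ Fin k') ⊕ Fin 2,
        polar Q w (Sum.elim (Sum.elim eB fB) ![u₁, u₂] t) = 0 := by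
    intro w hw h1 h2 t
    rcases t with (j | j) | t
    · exact hAB' w hw _ (heB j)
    · exact hAB' w hw _ (hfB' j)
    · fin_cases t
      · show polar Q w u₁ = 0
        rw [hu₁, polar_add_right, h1, hAB' w hw xB hxB, add_zero]
      · show polar Q w u₂ = 0
        rw [hu₂, polar_add_right, h2, hAB' w hw yB hyB, add_zero]
  have L₂ := linearIndependent_hyp hHA _ L₁
    (fun i t => hAu (eA i) (heA i) (hoA i).1 (hoA i).2.1 t)
    (fun i t => hAu (fA i) (hfA' i) (hoA i).2.2.1 (hoA i).2.2.2 t)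
  obtain ⟨g, hg⟩ : ∃ g : (Fin k ⊕ Fin k') ⊕ Fin 2 → (M d → F),
      g = Sum.elim (Sum.elim eA eB) ![u₁, u₂] := ⟨_, rfl⟩
  have hgli : LinearIndependent F g := by
    have h := L₂.comp (fun t : (Fin k ⊕ Fin k') ⊕ Fin 2 =>
      (Sum.elim (Sum.elim (fun i => Sum.inl (Sum.inl i))
        (fun j => Sum.inr (Sum.inl (Sum.inl j)))) (fun t => Sum.inr (Sum.inr t)) t :
        (Fin k ⊕ Fin k) ⊕ ((Fin k' ⊕ Fin k') ⊕ Fin 2)))
      (by
        rintro ((i | j) | t) ((i' | j') | t') h <;> simp_all)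
    have hgeq : g = (Sum.elim (Sum.elim eA fA) (Sum.elim (Sum.elim eB fB) ![u₁, u₂])) ∘
        (fun t : (Fin k ⊕ Fin k') ⊕ Fin 2 =>
          (Sum.elim (Sum.elim (fun i => Sum.inl (Sum.inl i))
            (fun j => Sum.inr (Sum.inl (Sum.inl j)))) (fun t => Sum.inr (Sum.inr t)) t :
            (Fin k ⊕ Fin k) ⊕ ((Fin k' ⊕ Fin k') ⊕ Fin 2))) := by
      rw [hg]
      funext t
      rcases t with (i | j) | t <;> rfl
    rw [hgeq]
    exact h
  have hTfin : finrank F (Submodule.span F (Set.range g)) = k + k' + 2 := by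
    rw [finrank_span_eq_card hgli]
    simp only [Fintype.card_sum, Fintype.card_fin]
  have c1 : ∀ i (t : Fin 2), polar Q (eA i) (![u₁, u₂] t) = 0 := fun i t =>
    hAu (eA i) (heA i) (hoA i).1 (hoA i).2.1 (Sum.inr t)
  have c2 : ∀ i (t : Fin 2), polar Q (eB i) (![u₁, u₂] t) = 0 := fun i t => by
    have h := hBu (eB i) (heB i) (hoB i).1 (hoB i).2.1 t
    rw [polar_negQ, neg_eq_zero] at h
    exact h
  have c3 : ∀ (t t' : Fin 2), polar Q (![u₁, u₂] t) (![u₁, u₂] t') = 0 := by
    intro t t'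
    fin_cases t <;> fin_cases t'
    · show polar Q u₁ u₁ = 0
      rw [polar_self', hQu₁, mul_zero]
    · exact hu₁u₂
    · show polar Q u₂ u₁ = 0
      rw [polar_comm]
      exact hu₁u₂
    · show polar Q u₂ u₂ = 0
      rw [polar_self', hQu₂, mul_zero]
  have hgQ : ∀ i, Q (g i) = 0 := by
    rw [hg]
    rintro ((i | j) | t)
    · exact hHA.1 i
    · have h := hHB.1 j
      rw [QuadraticMap.neg_apply, neg_eq_zero] at h
      exact h
    · fin_cases t
      · exact hQu₁
      · exact hQu₂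
  have hgg : ∀ i j, polar Q (g i) (g j) = 0 := by
    rw [hg]
    rintro ((i | i) | t) ((j | j) | t')
    · exact hHA.2.2.2.1 i j
    · exact hAB' _ (heA i) _ (heB j)
    · exact c1 i t'
    · exact hBA' _ (heB i) _ (heA j)
    · have h := hHB.2.2.2.1 i j
      rw [polar_negQ, neg_eq_zero] at h
      exact h
    · exact c2 i t'
    · show polar Q (![u₁, u₂] t) (eA j) = 0
      rw [polar_comm]
      exact c1 j t
    · show polar Q (![u₁, u₂] t) (eB j) = 0
      rw [polar_comm]
      exact c2 j t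
    · exact c3 t t'
  have hTts : ∀ w ∈ Submodule.span F (Set.range g), minusQ (d - 1) F a b w = 0 :=
    ts_span Q g hgQ hgg
  have hle : finrank F (Submodule.span F (Set.range g)) ≤ d - 1 :=
    Cfsg.Agent.Lib.Helper44.Inv8.minus_ts_le hSep hab hTts
  rw [hTfin] at hle
  omega

/-- the piece TM2TWOMINUS of helper41's `r = 2` block (odd `q`), a special case of `main` -/
theorem twoMinus : Cfsg.Agent.Lib.Helper41.TMTwoStmt.TwoMinus.{u} := by
  intro F _ _ _ d hd a b hab A B hA hB hAB hsup hev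
  exact main F d hd a b hab A B hA hB hAB hsup hev

end Cfsg.Agent.Lib.Helper44.TwoMinusG
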