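import Mathlib
import Cfsg.Agent.Lib.Helper44.Inv8

set_option autoImplicit false

namespace Cfsg.Agent.Lib.Helper44.Inv9

open Module QuadraticMap
open Cfsg.Agent.Lib.Helper44.QSpace Cfsg.Agent.Lib.Helper44.OGroup Cfsg.Agent.Lib.Helper44.Parity
open Cfsg.Agent.Lib.Helper44.CD2a Cfsg.Agent.Lib.Helper44.Inv1 Cfsg.Agent.Lib.Helper44.Inv4
open Cfsg.Agent.Lib.Helper44.Inv5 Cfsg.Agent.Lib.Helper44.Inv7 Cfsg.Agent.Lib.Helper44.Inv8
open Cfsg.Agent.Lib.Helper44.Omega2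

universe u

section group

variable {G : Type*} [Group G]

/-- Counting the conjugacy classes of involutions from a system of representatives. -/
theorem card_classes {κ : Type*} [Fintype κ] (rep : κ → G)
    (hrep : ∀ k, orderOf (rep k) = 2)
    (hinj : ∀ k k', IsConj (rep k) (rep k') → k = k')
    (hsurj : ∀ g : G, orderOf g = 2 → ∃ k, IsConj (rep k) g) :
    Nat.card {C : ConjClasses G // ∃ g : G, ConjClasses.mk g = C ∧ orderOf g = 2}
      = Fintype.card κ := by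
  let f : κ → {C : ConjClasses G // ∃ g : G, ConjClasses.mk g = C ∧ orderOf g = 2} :=
    fun k => ⟨ConjClasses.mk (rep k), rep k, rfl, hrep k⟩
  have hf : Function.Bijective f := by
    constructor
    · intro k k' h
      have h1 : ConjClasses.mk (rep k) = ConjClasses.mk (rep k') := congrArg Subtype.val h
      exact hinj k k' (ConjClasses.mk_eq_mk_iff_isConj.mp h1)
    · rintro ⟨C, g, rfl, ho⟩
      obtain ⟨k, hk⟩ := hsurj g ho
      exact ⟨k, Subtype.ext (ConjClasses.mk_eq_mk_iff_isConj.mpr hk)⟩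
  rw [← Nat.card_eq_fintype_card]
  exact (Nat.card_congr (Equiv.ofBijective f hf)).symm

/-- The same for a subgroup. -/
theorem card_classes_sub (N : Subgroup G) {κ : Type*} [Fintype κ] (rep : κ → G)
    (hN : ∀ k, rep k ∈ N) (hrep : ∀ k, orderOf (rep k) = 2)
    (hinj : ∀ k k', (∃ c ∈ N, c * rep k * c⁻¹ = rep k') → k = k')
    (hsurj : ∀ g ∈ N, orderOf g = 2 → ∃ k, ∃ c ∈ N, c * rep k * c⁻¹ = g) :
    Nat.card {C : ConjClasses ↥N // ∃ g : ↥N, ConjClasses.mk g = C ∧ orderOf g = 2}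
      = Fintype.card κ := by
  apply card_classes (fun k => (⟨rep k, hN k⟩ : ↥N))
  · intro k
    rw [← hrep k]
    exact Subgroup.orderOf_mk _ _
  · intro k k' h
    obtain ⟨c, hc⟩ := isConj_iff.mp h
    exact hinj k k' ⟨c.1, c.2, congrArg Subtype.val hc⟩
  · intro g hg
    obtain ⟨k, c, hc, hcg⟩ := hsurj g.1 g.2 (by rw [← hg]; exact Subgroup.orderOf_coe g)
    exact ⟨k, isConj_iff.mpr ⟨⟨c, hc⟩, Subtype.ext hcg⟩⟩

end group

section abstract

variable {F : Type*} [Field F] {V : Type u} [AddCommGroup V] [Module F V]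
variable {Q : QuadraticForm F V}

theorem rk_one : rk (1 : V ≃ₗ[F] V) = 0 := by
  unfold rk
  rw [nil_one, LinearMap.range_zero, finrank_bot]

theorem rk_ne_zero_of_ne_one [FiniteDimensional F V] {t : V ≃ₗ[F] V} (h : t ≠ 1) : rk t ≠ 0 := by
  intro h0
  apply h
  apply eq_one_of_nil
  intro v
  have hb : LinearMap.range (nil t) = ⊥ := Submodule.finrank_eq_zero.mp h0
  have : nil t v ∈ LinearMap.range (nil t) := ⟨v, rfl⟩
  rw [hb] at this
  exact (Submodule.mem_bot F).mp this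

theorem orderOf_two {g : O Q} (h1 : (g : V ≃ₗ[F] V) * g = 1) (h2 : rk (g : V ≃ₗ[F] V) ≠ 0) :
    orderOf g = 2 := by
  have : Fact (Nat.Prime 2) := ⟨Nat.prime_two⟩
  apply orderOf_eq_prime
  · rw [pow_two]
    exact Subtype.ext h1
  · intro h
    apply h2
    rw [h]
    exact rk_one

theorem sq_of_orderOf [FiniteDimensional F V] {g : O Q} (h : orderOf g = 2) :
    (g : V ≃ₗ[F] V) * g = 1 ∧ rk (g : V ≃ₗ[F] V) ≠ 0 := by
  have h1 : g * g = 1 := by
    have := pow_orderOf_eq_one g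
    rw [h, pow_two] at this
    exact this
  refine ⟨congrArg Subtype.val h1, ?_⟩
  apply rk_ne_zero_of_ne_one
  intro h2
  have : g = 1 := Subtype.ext h2
  rw [this, orderOf_one] at h
  omega

/-- Existence of involutions of every admissible rank and type, for a form of dimension `2m`
and Witt index `w`. -/
structure Reps (Q : QuadraticForm F V) (m w : ℕ) : Prop where
  hV : finrank F V = 2 * m
  hw : w ≤ m
  e1 : ∀ k, 1 ≤ k → k ≤ m → ∃ t : V ≃ₗ[F] V, t ∈ O Q ∧ t * t = 1 ∧ rk t = k ∧ ¬ IsA Q t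
  e2 : ∀ j, 1 ≤ j → 2 * j ≤ w → ∃ t : V ≃ₗ[F] V, t ∈ O Q ∧ t * t = 1 ∧ rk t = 2 * j ∧ IsA Q t
  nn : ∀ t : V ≃ₗ[F] V, t ∈ O Q → t * t = 1 → IsA Q t → rk t ≤ w

variable [FiniteDimensional F V] [CharP F 2] [Fintype F]

/-- Representatives of the classes of involutions of the orthogonal group. -/
theorem exists_reps_O (hS : Sep Q) {m w : ℕ} (R : Reps Q m w) :
    ∃ rep : Fin m ⊕ Fin (w / 2) → O Q, (∀ k, orderOf (rep k) = 2) ∧
      (∀ k k', IsConj (rep k) (rep k') → k = k') ∧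
      ∀ g : O Q, orderOf g = 2 → ∃ k, IsConj (rep k) g := by
  classical
  have hb : ∀ i : Fin m, ∃ t : V ≃ₗ[F] V, t ∈ O Q ∧ t * t = 1 ∧ rk t = i.val + 1 ∧ ¬ IsA Q t :=
    fun i => R.e1 (i.val + 1) (by omega) (by have := i.2; omega)
  have ha : ∀ j : Fin (w / 2), ∃ t : V ≃ₗ[F] V, t ∈ O Q ∧ t * t = 1 ∧
      rk t = 2 * (j.val + 1) ∧ IsA Q t :=
    fun j => R.e2 (j.val + 1) (by omega) (by have := j.2; omega)
  choose b hbO hbsq hbrk hbA using hb
  choose a haO hasq hark haA using ha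
  refine ⟨Sum.elim (fun i => ⟨b i, hbO i⟩) (fun j => ⟨a j, haO j⟩), ?_, ?_, ?_⟩
  · rintro (i | j)
    · exact orderOf_two (hbsq i) (by show rk (b i) ≠ 0; rw [hbrk]; omega)
    · exact orderOf_two (hasq j) (by show rk (a j) ≠ 0; rw [hark]; omega)
  · intro k k' h
    obtain ⟨c, hc⟩ := isConj_iff.mp h
    rcases k with i | j <;> rcases k' with i' | j'
    · have hc' : (c : V ≃ₗ[F] V) * b i * (c : V ≃ₗ[F] V)⁻¹ = b i' := congrArg Subtype.val hc
      have hrk : rk (b i') = rk (b i) := by rw [← hc', rk_conj]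
      rw [hbrk, hbrk] at hrk
      congr 1
      exact Fin.ext (by omega)
    · exfalso
      have hc' : (c : V ≃ₗ[F] V) * b i * (c : V ≃ₗ[F] V)⁻¹ = a j' := congrArg Subtype.val hc
      have hA : IsA Q (a j') ↔ IsA Q (b i) := by rw [← hc', isA_conj c.2]
      exact hbA i (hA.mp (haA j'))
    · exfalso
      have hc' : (c : V ≃ₗ[F] V) * a j * (c : V ≃ₗ[F] V)⁻¹ = b i' := congrArg Subtype.val hc
      have hA : IsA Q (b i') ↔ IsA Q (a j) := by rw [← hc', isA_conj c.2]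
      exact hbA i' (hA.mpr (haA j))
    · have hc' : (c : V ≃ₗ[F] V) * a j * (c : V ≃ₗ[F] V)⁻¹ = a j' := congrArg Subtype.val hc
      have hrk : rk (a j') = rk (a j) := by rw [← hc', rk_conj]
      rw [hark, hark] at hrk
      congr 1
      exact Fin.ext (by omega)
  · intro g hg
    obtain ⟨hsq, hne⟩ := sq_of_orderOf hg
    have h2 := two_rk_le hsq
    have hV := R.hV
    have hw := R.hw
    by_cases hA : IsA Q (g : V ≃ₗ[F] V)
    · have hev := even_rk_of_isA hS _ _ g.2 hsq hA rfl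
      have hle := R.nn _ g.2 hsq hA
      obtain ⟨r, hr⟩ := hev
      have hj : r - 1 < w / 2 := by omega
      refine ⟨Sum.inr ⟨r - 1, hj⟩, ?_⟩
      obtain ⟨c, hc, hcc⟩ := conj_involutions hS (haO ⟨r - 1, hj⟩) g.2 (hasq _) hsq
        (by rw [hark]; simp only; omega) (iff_of_true (haA _) hA)
      exact isConj_iff.mpr ⟨⟨c, hc⟩, Subtype.ext hcc⟩
    · have hi : rk (g : V ≃ₗ[F] V) - 1 < m := by omega
      refine ⟨Sum.inl ⟨rk (g : V ≃ₗ[F] V) - 1, hi⟩, ?_⟩
      obtain ⟨c, hc, hcc⟩ := conj_involutions hS (hbO ⟨rk (g : V ≃ₗ[F] V) - 1, hi⟩) g.2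
        (hbsq _) hsq (by rw [hbrk]; simp only; omega) (iff_of_false (hbA _) hA)
      exact isConj_iff.mpr ⟨⟨c, hc⟩, Subtype.ext hcc⟩

/-- Representatives of the classes of involutions of the commutator subgroup. -/
theorem exists_reps_comm (hS : Sep Q) (hG : Good Q) {m w e : ℕ} (hm : 1 ≤ m) (R : Reps Q m w)
    (he1 : w = m ∧ Even m → e = 1) (he0 : ¬ (w = m ∧ Even m) → e = 0) :
    ∃ rep : (Fin (m / 2) ⊕ Fin (w / 2)) ⊕ Fin e → O Q,
      (∀ k, rep k ∈ commutator (O Q)) ∧ (∀ k, orderOf (rep k) = 2) ∧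
      (∀ k k', (∃ c ∈ commutator (O Q), c * rep k * c⁻¹ = rep k') → k = k') ∧
      ∀ g ∈ commutator (O Q), orderOf g = 2 →
        ∃ k, ∃ c ∈ commutator (O Q), c * rep k * c⁻¹ = g := by
  classical
  have hV := R.hV
  have hw := R.hw
  have hb : ∀ i : Fin (m / 2), ∃ t : V ≃ₗ[F] V, t ∈ O Q ∧ t * t = 1 ∧
      rk t = 2 * (i.val + 1) ∧ ¬ IsA Q t :=
    fun i => R.e1 (2 * (i.val + 1)) (by omega) (by have := i.2; omega)
  have ha : ∀ j : Fin (w / 2), ∃ t : V ≃ₗ[F] V, t ∈ O Q ∧ t * t = 1 ∧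
      rk t = 2 * (j.val + 1) ∧ IsA Q t :=
    fun j => R.e2 (j.val + 1) (by omega) (by have := j.2; omega)
  choose b hbO hbsq hbrk hbA using hb
  choose a haO hasq hark haA using ha
  set R₀ : Fin (m / 2) ⊕ Fin (w / 2) → O Q :=
    Sum.elim (fun i => ⟨b i, hbO i⟩) (fun j => ⟨a j, haO j⟩) with hR₀
  have hR₀sq : ∀ k, (R₀ k : V ≃ₗ[F] V) * (R₀ k : V ≃ₗ[F] V) = 1 := by
    rintro (i | j)
    · exact hbsq i
    · exact hasq j
  have hR₀ev : ∀ k, Even (rk (R₀ k : V ≃ₗ[F] V)) := by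
    rintro (i | j)
    · show Even (rk (b i))
      rw [hbrk]
      exact even_two_mul _
    · show Even (rk (a j))
      rw [hark]
      exact even_two_mul _
  have hR₀ne : ∀ k, rk (R₀ k : V ≃ₗ[F] V) ≠ 0 := by
    rintro (i | j)
    · show rk (b i) ≠ 0
      rw [hbrk]
      omega
    · show rk (a j) ≠ 0
      rw [hark]
      omega
  have hR₀comm : ∀ k, R₀ k ∈ commutator (O Q) := fun k => (mem_comm_iff hS hG _).mpr (hR₀ev k)
  have hR₀ord : ∀ k, orderOf (R₀ k) = 2 := fun k => orderOf_two (hR₀sq k) (hR₀ne k)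
  -- rank and type determine the index
  have hdet : ∀ k k', rk (R₀ k : V ≃ₗ[F] V) = rk (R₀ k' : V ≃ₗ[F] V) →
      (IsA Q (R₀ k : V ≃ₗ[F] V) ↔ IsA Q (R₀ k' : V ≃ₗ[F] V)) → k = k' := by
    intro k k' hrk hA
    rcases k with i | j <;> rcases k' with i' | j'
    · have hrk' : rk (b i) = rk (b i') := hrk
      rw [hbrk, hbrk] at hrk'
      congr 1
      exact Fin.ext (by omega)
    · exfalso
      have hA' : IsA Q (b i) ↔ IsA Q (a j') := hA
      exact hbA i (hA'.mpr (haA j'))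
    · exfalso
      have hA' : IsA Q (a j) ↔ IsA Q (b i') := hA
      exact hbA i' (hA'.mp (haA j))
    · have hrk' : rk (a j) = rk (a j') := hrk
      rw [hark, hark] at hrk'
      congr 1
      exact Fin.ext (by omega)
  have hinj₀ : ∀ k k', (∃ c ∈ commutator (O Q), c * R₀ k * c⁻¹ = R₀ k') → k = k' := by
    rintro k k' ⟨c, -, hc⟩
    have hc' : (c : V ≃ₗ[F] V) * (R₀ k : V ≃ₗ[F] V) * (c : V ≃ₗ[F] V)⁻¹ = (R₀ k' : V ≃ₗ[F] V) :=
      congrArg Subtype.val hc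
    apply hdet
    · rw [← hc', rk_conj]
    · rw [← hc', isA_conj c.2]
  -- classes not of maximal rank and type `a`
  have hsurj₀ : ∀ g ∈ commutator (O Q), orderOf g = 2 →
      ¬ (IsA Q (g : V ≃ₗ[F] V) ∧ 2 * rk (g : V ≃ₗ[F] V) = finrank F V) →
      ∃ k, ∃ c ∈ commutator (O Q), c * R₀ k * c⁻¹ = g := by
    intro g hgc hg hnmax
    obtain ⟨hsq, hne⟩ := sq_of_orderOf hg
    have h2 := two_rk_le hsq
    obtain ⟨r, hr⟩ := (mem_comm_iff hS hG g).mp hgc
    by_cases hA : IsA Q (g : V ≃ₗ[F] V)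
    · have hle := R.nn _ g.2 hsq hA
      have hj : r - 1 < w / 2 := by omega
      have hne2 : ¬ 2 * rk (g : V ≃ₗ[F] V) = finrank F V := fun h => hnmax ⟨hA, h⟩
      obtain ⟨c, hc, hcc⟩ := conj_involutions hS (haO ⟨r - 1, hj⟩) g.2 (hasq _) hsq
        (by rw [hark]; simp only; omega) (iff_of_true (haA _) hA)
      have hcc' : (⟨c, hc⟩ : O Q) * R₀ (Sum.inr ⟨r - 1, hj⟩) * (⟨c, hc⟩ : O Q)⁻¹ = g :=
        Subtype.ext hcc
      obtain ⟨v, hv, htv⟩ := exists_nonsing_fixed hS (hasq ⟨r - 1, hj⟩) (by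
        rintro ⟨-, h⟩
        rw [hark] at h
        simp only at h
        omega)
      exact ⟨Sum.inr ⟨r - 1, hj⟩, exists_conj_comm hS hG hv htv hcc'⟩
    · have hi : r - 1 < m / 2 := by omega
      obtain ⟨c, hc, hcc⟩ := conj_involutions hS (hbO ⟨r - 1, hi⟩) g.2 (hbsq _) hsq
        (by rw [hbrk]; simp only; omega) (iff_of_false (hbA _) hA)
      have hcc' : (⟨c, hc⟩ : O Q) * R₀ (Sum.inl ⟨r - 1, hi⟩) * (⟨c, hc⟩ : O Q)⁻¹ = g :=
        Subtype.ext hcc
      obtain ⟨v, hv, htv⟩ := exists_nonsing_fixed hS (hbsq ⟨r - 1, hi⟩) (by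
        rintro ⟨h, -⟩
        exact hbA _ h)
      exact ⟨Sum.inl ⟨r - 1, hi⟩, exists_conj_comm hS hG hv htv hcc'⟩
  -- the classes of maximal rank and type `a` exist only for `w = m` even
  have hmax : ∀ g ∈ commutator (O Q), orderOf g = 2 →
      (IsA Q (g : V ≃ₗ[F] V) ∧ 2 * rk (g : V ≃ₗ[F] V) = finrank F V) → w = m ∧ Even m := by
    intro g hgc hg hmx
    obtain ⟨hsq, hne⟩ := sq_of_orderOf hg
    have hle := R.nn _ g.2 hsq hmx.1
    have hev := (mem_comm_iff hS hG g).mp hgc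
    have hrk : rk (g : V ≃ₗ[F] V) = m := by omega
    rw [hrk] at hev hle
    exact ⟨by omega, hev⟩
  by_cases hc : w = m ∧ Even m
  · obtain rfl : e = 1 := he1 hc
    obtain ⟨hwm, hmev⟩ := hc
    have hj₀ : m / 2 - 1 < w / 2 := by
      obtain ⟨q, hq⟩ := hmev
      omega
    set j₀ : Fin (w / 2) := ⟨m / 2 - 1, hj₀⟩ with hj₀def
    have hrk₀ : rk (a j₀) = m := by
      rw [hark]
      obtain ⟨q, hq⟩ := hmev
      simp only [hj₀def]
      omega
    -- an element outside the commutator subgroup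
    obtain ⟨r₀, hr₀O, hr₀sq, hr₀rk, -⟩ := R.e1 1 le_rfl hm
    set r : O Q := ⟨r₀, hr₀O⟩ with hr
    have hrn : r ∉ commutator (O Q) := by
      rw [mem_comm_iff hS hG]
      show ¬ Even (rk r₀)
      rw [hr₀rk]
      exact Nat.not_even_one
    set A₀ : O Q := ⟨a j₀, haO j₀⟩ with hA₀
    set x : O Q := r * A₀ * r⁻¹ with hx
    have hxcoe : (x : V ≃ₗ[F] V) = (r : V ≃ₗ[F] V) * a j₀ * (r : V ≃ₗ[F] V)⁻¹ := rfl
    have hxrk : rk (x : V ≃ₗ[F] V) = m := by rw [hxcoe, rk_conj, hrk₀]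
    have hxA : IsA Q (x : V ≃ₗ[F] V) := by
      rw [hxcoe, isA_conj r.2]
      exact haA j₀
    have hxsq : (x : V ≃ₗ[F] V) * (x : V ≃ₗ[F] V) = 1 := by
      rw [hxcoe]
      have : (r : V ≃ₗ[F] V) * a j₀ * (r : V ≃ₗ[F] V)⁻¹ * ((r : V ≃ₗ[F] V) * a j₀ *
          (r : V ≃ₗ[F] V)⁻¹) = (r : V ≃ₗ[F] V) * (a j₀ * a j₀) * (r : V ≃ₗ[F] V)⁻¹ := by group
      rw [this, hasq]
      group
    have hpar : ∀ g : O Q, g * A₀ * g⁻¹ = x → g ∉ commutator (O Q) := by
      intro g hg hgc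
      apply hrn
      have h1 := comm_iff_even_inf hS hG hV hmev (haA j₀) hrk₀ g (congrArg Subtype.val hg)
      have h2 := comm_iff_even_inf hS hG hV hmev (haA j₀) hrk₀ r
        (show (r : V ≃ₗ[F] V) * a j₀ * (r : V ≃ₗ[F] V)⁻¹ = (x : V ≃ₗ[F] V) from rfl)
      exact h2.mpr (h1.mp hgc)
    have hpar' : ∀ g : O Q, g * A₀ * g⁻¹ = A₀ → g ∈ commutator (O Q) := by
      intro g hg
      have h1 := comm_iff_even_inf hS hG hV hmev (haA j₀) hrk₀ g (congrArg Subtype.val hg)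
      have h2 := comm_iff_even_inf hS hG hV hmev (haA j₀) hrk₀ (1 : O Q)
        (show ((1 : O Q) : V ≃ₗ[F] V) * a j₀ * ((1 : O Q) : V ≃ₗ[F] V)⁻¹ = a j₀ by
          show (1 : V ≃ₗ[F] V) * a j₀ * (1 : V ≃ₗ[F] V)⁻¹ = a j₀
          group)
      exact h1.mpr (h2.mp (Subgroup.one_mem _))
    have hA₀R : R₀ (Sum.inr j₀) = A₀ := rfl
    refine ⟨Sum.elim R₀ (fun _ => x), ?_, ?_, ?_, ?_⟩
    · rintro (k | _)
      · exact hR₀comm k
      · show x ∈ commutator (O Q)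
        rw [mem_comm_iff hS hG, hxrk]
        exact hmev
    · rintro (k | _)
      · exact hR₀ord k
      · exact orderOf_two hxsq (by show rk (x : V ≃ₗ[F] V) ≠ 0; rw [hxrk]; omega)
    · rintro (k | y) (k' | y') ⟨c, hcc, hceq⟩
      · congr 1
        exact hinj₀ k k' ⟨c, hcc, hceq⟩
      · exfalso
        have hceq' : c * R₀ k * c⁻¹ = x := hceq
        have hc' : (c : V ≃ₗ[F] V) * (R₀ k : V ≃ₗ[F] V) * (c : V ≃ₗ[F] V)⁻¹ = (x : V ≃ₗ[F] V) :=
          congrArg Subtype.val hceq'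
        have hk : k = Sum.inr j₀ := by
          apply hdet
          · have : rk (x : V ≃ₗ[F] V) = rk (R₀ k : V ≃ₗ[F] V) := by rw [← hc', rk_conj]
            rw [← this, hxrk]
            exact hrk₀.symm
          · have : IsA Q (x : V ≃ₗ[F] V) ↔ IsA Q (R₀ k : V ≃ₗ[F] V) := by
              rw [← hc', isA_conj c.2]
            exact iff_of_true (this.mp hxA) (haA j₀)
        rw [hk, hA₀R] at hceq'
        exact hpar c hceq' hcc
      · exfalso
        have hceq' : c * x * c⁻¹ = R₀ k' := hceq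
        have hc' : (c : V ≃ₗ[F] V) * (x : V ≃ₗ[F] V) * (c : V ≃ₗ[F] V)⁻¹ = (R₀ k' : V ≃ₗ[F] V) :=
          congrArg Subtype.val hceq'
        have hk : k' = Sum.inr j₀ := by
          apply hdet
          · rw [← hc', rk_conj, hxrk]
            exact hrk₀.symm
          · have : IsA Q (R₀ k' : V ≃ₗ[F] V) ↔ IsA Q (x : V ≃ₗ[F] V) := by
              rw [← hc', isA_conj c.2]
            exact iff_of_true (this.mpr hxA) (haA j₀)
        rw [hk, hA₀R] at hceq'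
        have h3 : (c * r) * A₀ * (c * r)⁻¹ = A₀ := by
          calc (c * r) * A₀ * (c * r)⁻¹ = c * (r * A₀ * r⁻¹) * c⁻¹ := by group
            _ = A₀ := hceq'
        have h4 := hpar' _ h3
        apply hrn
        have := Subgroup.mul_mem _ (Subgroup.inv_mem _ hcc) h4
        rwa [inv_mul_cancel_left] at this
      · congr 1
        exact Subsingleton.elim _ _
    · intro g hgc hg
      by_cases hmx : IsA Q (g : V ≃ₗ[F] V) ∧ 2 * rk (g : V ≃ₗ[F] V) = finrank F V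
      · obtain ⟨hsq, hne⟩ := sq_of_orderOf hg
        obtain ⟨c, hc, hcc⟩ := conj_involutions hS (haO j₀) g.2 (hasq _) hsq
          (by rw [hrk₀]; omega) (iff_of_true (haA _) hmx.1)
        have hcc' : (⟨c, hc⟩ : O Q) * A₀ * (⟨c, hc⟩ : O Q)⁻¹ = g := Subtype.ext hcc
        by_cases hcm : (⟨c, hc⟩ : O Q) ∈ commutator (O Q)
        · exact ⟨Sum.inl (Sum.inr j₀), ⟨c, hc⟩, hcm, hcc'⟩
        · refine ⟨Sum.inr 0, (⟨c, hc⟩ : O Q) * r⁻¹, ?_, ?_⟩
          · apply mul_mem_comm hS hG hcm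
            intro h
            exact hrn ((Subgroup.inv_mem_iff _).mp h)
          · show (⟨c, hc⟩ : O Q) * r⁻¹ * x * ((⟨c, hc⟩ : O Q) * r⁻¹)⁻¹ = g
            rw [← hcc', hx]
            group
      · obtain ⟨k, c, hcm, hcc⟩ := hsurj₀ g hgc hg hmx
        exact ⟨Sum.inl k, c, hcm, hcc⟩
  · obtain rfl : e = 0 := he0 hc
    refine ⟨Sum.elim R₀ (fun y => y.elim0), ?_, ?_, ?_, ?_⟩
    · rintro (k | y)
      · exact hR₀comm k
      · exact y.elim0
    · rintro (k | y)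
      · exact hR₀ord k
      · exact y.elim0
    · rintro (k | y) (k' | y') ⟨c, hcc, hceq⟩
      · congr 1
        exact hinj₀ k k' ⟨c, hcc, hceq⟩
      · exact y'.elim0
      · exact y.elim0
      · exact y.elim0
    · intro g hgc hg
      by_cases hmx : IsA Q (g : V ≃ₗ[F] V) ∧ 2 * rk (g : V ≃ₗ[F] V) = finrank F V
      · exact absurd (hmax g hgc hg hmx) hc
      · obtain ⟨k, c, hcm, hcc⟩ := hsurj₀ g hgc hg hmx
        exact ⟨Sum.inl k, c, hcm, hcc⟩

end abstract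

end Cfsg.Agent.Lib.Helper44.Inv9
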