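import Mathlib
import Cfsg.Agent.Lib.Helper44.Inv9

set_option autoImplicit false

namespace Cfsg.Agent.Lib.Helper44.Inv10

open Module QuadraticMap
open Cfsg.Agent.Lib.Helper44.QSpace Cfsg.Agent.Lib.Helper44.OGroup Cfsg.Agent.Lib.Helper44.Parity
open Cfsg.Agent.Lib.Helper44.CD2a Cfsg.Agent.Lib.Helper44.Inv1 Cfsg.Agent.Lib.Helper44.Inv4
open Cfsg.Agent.Lib.Helper44.Inv5 Cfsg.Agent.Lib.Helper44.Inv7 Cfsg.Agent.Lib.Helper44.Inv8
open Cfsg.Agent.Lib.Helper44.Inv9 Cfsg.Agent.Lib.Helper44.NegPairs Cfsg.Agent.Lib.Helper44.Inv6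

universe u

section general

variable {F : Type*} [Field F] {V : Type u} [AddCommGroup V] [Module F V]
variable {Q : QuadraticForm F V} [FiniteDimensional F V]

/-- Multiplying by a reflection in a fixed vector outside the image of `τ - 1` raises the rank
by one. -/
theorem rk_mul_refl {τ : V ≃ₗ[F] V} {g w : V} (hg : Q g ≠ 0) (hτg : τ g = g)
    (hng : g ∉ LinearMap.range (nil τ)) (hw : τ w = w) (hwg : polar Q w g ≠ 0) :
    rk (τ * reflE Q g) = rk τ + 1 := by
  set φ : V →ₗ[F] F := polarBilin Q g with hφ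
  have hφa : ∀ x, φ x = polar Q g x := fun x => rfl
  have hfix : fixS (τ * reflE Q g) = fixS τ ⊓ LinearMap.ker φ := by
    ext v
    rw [mem_fixS, Submodule.mem_inf, mem_fixS, LinearMap.mem_ker, hφa, LinearEquiv.mul_apply,
      reflE_apply, map_sub, map_smul, hτg, polar_comm Q g v]
    constructor
    · intro h
      have h1 : nil τ v = ((Q g)⁻¹ * polar Q v g) • g := by
        rw [nil_apply]
        rw [sub_eq_iff_eq_add] at h ⊢
        rw [h, add_comm]
      by_cases hc : (Q g)⁻¹ * polar Q v g = 0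
      · rw [hc, zero_smul, sub_zero] at h
        refine ⟨h, ?_⟩
        rcases mul_eq_zero.mp hc with h' | h'
        · exact absurd h' (inv_ne_zero hg)
        · exact h'
      · exfalso
        apply hng
        refine ⟨((Q g)⁻¹ * polar Q v g)⁻¹ • v, ?_⟩
        rw [map_smul, h1, smul_smul, inv_mul_cancel₀ hc, one_smul]
    · rintro ⟨h1, h2⟩
      rw [h1, h2, mul_zero, zero_smul, sub_zero]
  rcases finrank_inf_ker (fixS τ) φ with ⟨hle, -⟩ | ⟨-, h⟩
  · exfalso
    have := hle (mem_fixS.mpr hw)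
    rw [LinearMap.mem_ker, hφa, polar_comm] at this
    exact hwg this
  · have e1 := rk_add_finrank_fix τ
    have e2 := rk_add_finrank_fix (τ * reflE Q g)
    rw [hfix] at e2
    omega

end general

section perm

variable {F : Type*} [Field F] {ι : Type} [Fintype ι] [DecidableEq ι]

/-- The coordinate permutation attached to an involution of the index set. -/
def permE (F : Type*) [Field F] {ι : Type} (π : ι → ι) (hπ : Function.Involutive π) :
    (ι → F) ≃ₗ[F] (ι → F) :=
  LinearEquiv.ofInvolutive (LinearMap.funLeft F F π) (by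
    intro v
    funext i
    show v (π (π i)) = v i
    rw [hπ i])

omit [Fintype ι] [DecidableEq ι] in
theorem permE_apply (π : ι → ι) (hπ : Function.Involutive π) (v : ι → F) :
    permE F π hπ v = fun i => v (π i) := rfl

omit [Fintype ι] [DecidableEq ι] in
theorem permE_sq (π : ι → ι) (hπ : Function.Involutive π) :
    permE F π hπ * permE F π hπ = 1 := by
  ext v i
  show v (π (π i)) = v i
  rw [hπ i]

omit [Fintype ι] [DecidableEq ι] in
theorem nil_permE (π : ι → ι) (hπ : Function.Involutive π) (v : ι → F) :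
    nil (permE F π hπ) v = fun i => v (π i) - v i := rfl

/-- The data from which the rank of a coordinate permutation is computed: one point out of
each two-cycle. -/
def RkData {ι : Type} (π : ι → ι) (k : ℕ) : Prop :=
  ∃ (κ : Type) (_ : Fintype κ) (p : κ → ι), Fintype.card κ = k ∧ Function.Injective p ∧
    (∀ j j', π (p j) ≠ p j') ∧ ∀ i, π i ≠ i → ∃ j, i = p j ∨ i = π (p j)

theorem rk_of_rkData {π : ι → ι} (hπ : Function.Involutive π) {k : ℕ} (h : RkData π k) :
    rk (permE F π hπ) = k := by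
  classical
  obtain ⟨κ, _, p, hcard, hp, hp2, hcov⟩ := h
  set A : (ι → F) →ₗ[F] (κ → F) := (LinearMap.funLeft F F p).comp (nil (permE F π hπ)) with hA
  have hAa : ∀ v j, A v j = v (π (p j)) - v (p j) := fun v j => rfl
  have hker : LinearMap.ker A = LinearMap.ker (nil (permE F π hπ)) := by
    ext v
    rw [LinearMap.mem_ker, LinearMap.mem_ker]
    constructor
    · intro h
      funext i
      show v (π i) - v i = 0
      by_cases hi : π i = i
      · rw [hi, sub_self]
      · obtain ⟨j, rfl | rfl⟩ := hcov i hi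
        · have := congrFun h j
          rw [hAa] at this
          exact this
        · have := congrFun h j
          rw [hAa] at this
          have this' : v (π (p j)) - v (p j) = 0 := this
          rw [hπ (p j)]
          rw [sub_eq_zero] at this' ⊢
          exact this'.symm
    · intro h
      funext j
      rw [hAa]
      exact congrFun h (p j)
  have hsurj : LinearMap.range A = ⊤ := by
    rw [LinearMap.range_eq_top]
    intro c
    refine ⟨Function.extend p (-c) 0, ?_⟩
    funext j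
    rw [hAa, hp.extend_apply, Function.extend_apply']
    · simp
    · rintro ⟨j', hj'⟩
      exact hp2 j j' hj'.symm
  have h1 := LinearMap.finrank_range_add_finrank_ker A
  have h2 := LinearMap.finrank_range_add_finrank_ker (nil (permE F π hπ))
  rw [hsurj, finrank_top, Module.finrank_fintype_fun_eq_card, hker] at h1
  unfold rk
  omega

theorem lift_invol {ι₀ ρ : Type} {π₀ : ι₀ → ι₀} (h : Function.Involutive π₀) :
    Function.Involutive (Sum.map π₀ id : ι₀ ⊕ ρ → ι₀ ⊕ ρ) := by
  rintro (i | i)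
  · simp [h i]
  · simp

theorem rkData_lift {ι₀ ρ : Type} {π₀ : ι₀ → ι₀} {k : ℕ} (h : RkData π₀ k) :
    RkData (Sum.map π₀ id : ι₀ ⊕ ρ → ι₀ ⊕ ρ) k := by
  obtain ⟨κ, _, p, hcard, hp, hp2, hcov⟩ := h
  refine ⟨κ, inferInstance, fun j => Sum.inl (p j), hcard, ?_, ?_, ?_⟩
  · intro j j' h
    exact hp (Sum.inl_injective h)
  · intro j j' h
    simp only [Sum.map_inl, Sum.inl.injEq] at h
    exact hp2 j j' h
  · rintro (i | i) hi
    · have hi' : π₀ i ≠ i := by
        intro h
        apply hi
        simp [h]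
      obtain ⟨j, rfl | rfl⟩ := hcov i hi'
      · exact ⟨j, Or.inl rfl⟩
      · exact ⟨j, Or.inr rfl⟩
    · exfalso
      apply hi
      simp

theorem diag_invol {ι₀ : Type} {σ : ι₀ → ι₀} (h : Function.Involutive σ) :
    Function.Involutive (Sum.map σ σ : ι₀ ⊕ ι₀ → ι₀ ⊕ ι₀) := by
  rintro (i | i)
  · simp [h i]
  · simp [h i]

theorem rkData_diag {ι₀ : Type} {σ : ι₀ → ι₀} {j : ℕ} (h : RkData σ j) :
    RkData (Sum.map σ σ : ι₀ ⊕ ι₀ → ι₀ ⊕ ι₀) (2 * j) := by
  obtain ⟨κ, _, p, hcard, hp, hp2, hcov⟩ := h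
  refine ⟨κ ⊕ κ, inferInstance, Sum.map p p, ?_, ?_, ?_, ?_⟩
  · rw [Fintype.card_sum, hcard]
    omega
  · rintro (a | a) (a' | a') h
    · simp only [Sum.map_inl, Sum.inl.injEq] at h
      rw [hp h]
    · simp at h
    · simp at h
    · simp only [Sum.map_inr, Sum.inr.injEq] at h
      rw [hp h]
  · rintro (a | a) (a' | a') h
    · simp only [Sum.map_inl, Sum.inl.injEq] at h
      exact hp2 a a' h
    · simp at h
    · simp at h
    · simp only [Sum.map_inr, Sum.inr.injEq] at h
      exact hp2 a a' h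
  · rintro (i | i) hi
    · have hi' : σ i ≠ i := by
        intro h
        apply hi
        simp [h]
      obtain ⟨a, rfl | rfl⟩ := hcov i hi'
      · exact ⟨Sum.inl a, Or.inl rfl⟩
      · exact ⟨Sum.inl a, Or.inr rfl⟩
    · have hi' : σ i ≠ i := by
        intro h
        apply hi
        simp [h]
      obtain ⟨a, rfl | rfl⟩ := hcov i hi'
      · exact ⟨Sum.inr a, Or.inl rfl⟩
      · exact ⟨Sum.inr a, Or.inr rfl⟩

/-- An involution of `Fin m` with exactly `j` two-cycles. -/
theorem exists_invol {m j : ℕ} (hj : 2 * j ≤ m) :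
    ∃ σ : Fin m → Fin m, Function.Involutive σ ∧ RkData σ j := by
  have hcard : Fintype.card (Fin m) = Fintype.card ((Fin j ⊕ Fin j) ⊕ Fin (m - 2 * j)) := by
    simp only [Fintype.card_sum, Fintype.card_fin]
    omega
  set e := Fintype.equivOfCardEq hcard with he
  refine ⟨fun i => e.symm (Sum.map Sum.swap id (e i)), ?_, Fin j, inferInstance,
    fun a => e.symm (Sum.inl (Sum.inl a)), by simp, ?_, ?_, ?_⟩
  · intro i
    simp only [Equiv.apply_symm_apply]
    rcases h : e i with (a | a) | c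
    · simp [← h]
    · simp [← h]
    · simp [← h]
  · intro a a' h
    have := e.symm.injective h
    simpa using this
  · intro a a' h
    simp only [Equiv.apply_symm_apply, Sum.map_inl, Sum.swap_inl] at h
    have := e.symm.injective h
    simp at this
  · intro i hi
    rcases h : e i with (a | a) | c
    · refine ⟨a, Or.inl ?_⟩
      show i = e.symm (Sum.inl (Sum.inl a))
      rw [← h, Equiv.symm_apply_apply]
    · refine ⟨a, Or.inr ?_⟩
      show i = e.symm (Sum.map Sum.swap id (e (e.symm (Sum.inl (Sum.inl a)))))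
      simp only [Equiv.apply_symm_apply, Sum.map_inl, Sum.swap_inl]
      rw [← h, Equiv.symm_apply_apply]
    · exfalso
      apply hi
      show e.symm (Sum.map Sum.swap id (e i)) = i
      rw [h]
      simp only [Sum.map_inr, id]
      rw [← h, Equiv.symm_apply_apply]

/-- The partial swap of the first `k` hyperbolic pairs. -/
def swapIdx {m : ℕ} (k : ℕ) : Fin m ⊕ Fin m → Fin m ⊕ Fin m
  | Sum.inl i => if i.val < k then Sum.inr i else Sum.inl i
  | Sum.inr i => if i.val < k then Sum.inl i else Sum.inr i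

theorem swapIdx_invol {m : ℕ} (k : ℕ) : Function.Involutive (swapIdx (m := m) k) := by
  rintro (i | i)
  · by_cases h : i.val < k
    · simp [swapIdx, h]
    · simp [swapIdx, h]
  · by_cases h : i.val < k
    · simp [swapIdx, h]
    · simp [swapIdx, h]

theorem rkData_swap {m k : ℕ} (hk : k ≤ m) : RkData (swapIdx (m := m) k) k := by
  refine ⟨Fin k, inferInstance, fun j => Sum.inl (Fin.castLE hk j), by simp, ?_, ?_, ?_⟩
  · intro j j' h
    exact Fin.castLE_injective hk (Sum.inl_injective h)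
  · intro j j' h
    simp [swapIdx] at h
  · rintro (i | i) hi
    · have hlt : i.val < k := by
        by_contra h
        apply hi
        simp [swapIdx, h]
      exact ⟨⟨i.val, hlt⟩, Or.inl rfl⟩
    · have hlt : i.val < k := by
        by_contra h
        apply hi
        simp [swapIdx, h]
      refine ⟨⟨i.val, hlt⟩, Or.inr ?_⟩
      have hj : (Fin.castLE hk ⟨i.val, hlt⟩).val < k := hlt
      simp only [swapIdx, hj, if_true]
      rfl

end perm

section plus

variable {F : Type*} [Field F]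

theorem plus_swap {m : ℕ} (k : ℕ) (v : Fin m ⊕ Fin m → F) :
    Cfsg.quadFormPlus m F (fun c => v (swapIdx k c)) = Cfsg.quadFormPlus m F v := by
  unfold Cfsg.quadFormPlus
  apply Finset.sum_congr rfl
  intro i _
  by_cases h : i.val < k
  · simp only [swapIdx, h, if_true]
    ring
  · simp only [swapIdx, h, if_false]

theorem plus_swap_notA {m k : ℕ} (hk : 1 ≤ k) (hkm : k ≤ m) :
    ∃ v : Fin m ⊕ Fin m → F, Cfsg.quadFormPlus m F (fun c => v (swapIdx k c) - v c) ≠ 0 := by
  classical
  set i₀ : Fin m := ⟨0, by omega⟩ with hi₀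
  refine ⟨Pi.single (Sum.inl i₀) 1, ?_⟩
  unfold Cfsg.quadFormPlus
  rw [Finset.sum_eq_single i₀]
  · have h : i₀.val < k := by
      simp only [hi₀]
      omega
    simp [swapIdx, h]
  · intro i _ hi
    have h1 : (Pi.single (Sum.inl i₀) (1 : F) : Fin m ⊕ Fin m → F) (Sum.inl i) = 0 := by
      simp [hi]
    have h2 : (Pi.single (Sum.inl i₀) (1 : F) : Fin m ⊕ Fin m → F) (Sum.inr i) = 0 := by
      simp
    by_cases h : i.val < k
    · simp only [swapIdx, h, if_true, h1, h2]
      ring
    · simp only [swapIdx, h, if_false, h1, h2]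
      ring
  · intro h
    exact absurd (Finset.mem_univ _) h

theorem plus_diag {m : ℕ} {σ : Fin m → Fin m} (hσ : Function.Involutive σ)
    (v : Fin m ⊕ Fin m → F) :
    Cfsg.quadFormPlus m F (fun c => v (Sum.map σ σ c)) = Cfsg.quadFormPlus m F v := by
  unfold Cfsg.quadFormPlus
  exact Equiv.sum_comp hσ.toPerm (fun i => v (Sum.inl i) * v (Sum.inr i))

theorem plus_diag_isA [CharP F 2] {m : ℕ} {σ : Fin m → Fin m} (hσ : Function.Involutive σ)
    (v : Fin m ⊕ Fin m → F) :
    Cfsg.quadFormPlus m F (fun c => v (Sum.map σ σ c) - v c) = 0 := by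
  unfold Cfsg.quadFormPlus
  set x : Fin m → F := fun i => v (Sum.inl i) with hx
  set y : Fin m → F := fun i => v (Sum.inr i) with hy
  have e1 : ∑ i, x (σ i) * y (σ i) = ∑ i, x i * y i :=
    Equiv.sum_comp hσ.toPerm (fun i => x i * y i)
  have e2 : ∑ i, x i * y (σ i) = ∑ i, x (σ i) * y i := by
    rw [← Equiv.sum_comp hσ.toPerm (fun i => x i * y (σ i))]
    apply Finset.sum_congr rfl
    intro i _
    show x (σ i) * y (σ (σ i)) = _
    rw [hσ i]
  have e3 : ∑ i : Fin m, (v (Sum.map σ σ (Sum.inl i)) - v (Sum.inl i)) *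
      (v (Sum.map σ σ (Sum.inr i)) - v (Sum.inr i))
      = ∑ i, x (σ i) * y (σ i) - ∑ i, x (σ i) * y i - ∑ i, x i * y (σ i) + ∑ i, x i * y i := by
    rw [← Finset.sum_sub_distrib, ← Finset.sum_sub_distrib, ← Finset.sum_add_distrib]
    apply Finset.sum_congr rfl
    intro i _
    show (x (σ i) - x i) * (y (σ i) - y i) = _
    ring
  rw [e3, e1, e2]
  have h2 : (2 : F) = 0 := CharTwo.two_eq_zero
  linear_combination (∑ i, x i * y i - ∑ i, x (σ i) * y i) * h2

/-- The involutions of the plus-type orthogonal group: all admissible ranks and types occur. -/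
theorem reps_plus [CharP F 2] (m : ℕ) : Reps (plusQ m F) m m where
  hV := by
    rw [Module.finrank_fintype_fun_eq_card, Fintype.card_sum, Fintype.card_fin]
    omega
  hw := le_rfl
  e1 := by
    intro k hk hkm
    refine ⟨permE F (swapIdx k) (swapIdx_invol k), ?_, permE_sq _ _,
      rk_of_rkData _ (rkData_swap hkm), ?_⟩
    · intro v
      exact plus_swap k v
    · intro hA
      obtain ⟨v, hv⟩ := plus_swap_notA (F := F) hk hkm
      exact hv (hA v)
  e2 := by
    intro j hj hjm
    obtain ⟨σ, hσ, hdat⟩ := exists_invol hjm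
    refine ⟨permE F (Sum.map σ σ) (diag_invol hσ), ?_, permE_sq _ _,
      rk_of_rkData _ (rkData_diag hdat), ?_⟩
    · intro v
      exact plus_diag hσ v
    · intro v
      exact plus_diag_isA hσ v
  nn := by
    intro t hO ht hA
    have := two_rk_le ht
    rw [Module.finrank_fintype_fun_eq_card, Fintype.card_sum, Fintype.card_fin] at this
    omega

end plus

section minus

variable {F : Type*} [Field F] {n : ℕ} {a b : F}

theorem minus_lift_iso {π₀ : Fin n ⊕ Fin n → Fin n ⊕ Fin n}
    (h : ∀ w : Fin n ⊕ Fin n → F,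
      Cfsg.quadFormPlus n F (fun c => w (π₀ c)) = Cfsg.quadFormPlus n F w)
    (v : (Fin n ⊕ Fin n) ⊕ Fin 2 → F) :
    Cfsg.quadFormMinus n F a b (fun c => v (Sum.map π₀ id c)) = Cfsg.quadFormMinus n F a b v := by
  have h1 := h (fun c => v (Sum.inl c))
  unfold Cfsg.quadFormPlus at h1
  unfold Cfsg.quadFormMinus
  simp only [Sum.map_inl, Sum.map_inr, id]
  rw [h1]

theorem minus_lift_nil {π₀ : Fin n ⊕ Fin n → Fin n ⊕ Fin n} (v : (Fin n ⊕ Fin n) ⊕ Fin 2 → F) :
    Cfsg.quadFormMinus n F a b (fun c => v (Sum.map π₀ id c) - v c)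
      = Cfsg.quadFormPlus n F (fun c => v (Sum.inl (π₀ c)) - v (Sum.inl c)) := by
  unfold Cfsg.quadFormPlus Cfsg.quadFormMinus
  simp only [Sum.map_inl, Sum.map_inr, id, sub_self]
  ring

theorem aniso_ne_zero [CharP F 2] [Finite F]
    (hab : ∀ z₁ z₂ : F, z₁ ^ 2 + a * z₁ * z₂ + b * z₂ ^ 2 = 0 → z₁ = 0 ∧ z₂ = 0) : a ≠ 0 := by
  have h2 : (2 : F) = 0 := CharTwo.two_eq_zero
  rintro rfl
  obtain ⟨r, hr⟩ := exists_sqrt b
  have := hab r 1 (by
    rw [← hr]
    linear_combination (r * r) * h2)
  exact one_ne_zero this.2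

/-- The involution of maximal rank of the minus-type form: swap all hyperbolic pairs and
reflect in a vector of the anisotropic plane. -/
theorem minus_top [CharP F 2] [Finite F]
    (hab : ∀ z₁ z₂ : F, z₁ ^ 2 + a * z₁ * z₂ + b * z₂ ^ 2 = 0 → z₁ = 0 ∧ z₂ = 0) :
    ∃ t : ((Fin n ⊕ Fin n) ⊕ Fin 2 → F) ≃ₗ[F] ((Fin n ⊕ Fin n) ⊕ Fin 2 → F),
      t ∈ O (minusQ n F a b) ∧ t * t = 1 ∧ rk t = n + 1 ∧ ¬ IsA (minusQ n F a b) t := by
  classical
  have ha := aniso_ne_zero hab
  set Q := minusQ n F a b with hQ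
  set g₁ : (Fin n ⊕ Fin n) ⊕ Fin 2 → F := Pi.single (Sum.inr 0) 1 with hg₁
  set g₂ : (Fin n ⊕ Fin n) ⊕ Fin 2 → F := Pi.single (Sum.inr 1) 1 with hg₂
  have hQg₁ : Q g₁ = 1 := by
    show Cfsg.quadFormMinus n F a b (Pi.single (Sum.inr 0) 1) = 1
    unfold Cfsg.quadFormMinus
    simp
  have hpol : polar Q g₂ g₁ = a := by
    show Cfsg.quadFormMinus n F a b (Pi.single (Sum.inr 1) 1 + Pi.single (Sum.inr 0) 1)
      - Cfsg.quadFormMinus n F a b (Pi.single (Sum.inr 1) 1)
      - Cfsg.quadFormMinus n F a b (Pi.single (Sum.inr 0) 1) = a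
    unfold Cfsg.quadFormMinus
    simp
  set τ := permE F (Sum.map (swapIdx (m := n) n) (id : Fin 2 → Fin 2))
    (lift_invol (swapIdx_invol n)) with hτ
  have hτO : τ ∈ O Q := by
    intro v
    exact minus_lift_iso (plus_swap n) v
  have hτsq : τ * τ = 1 := permE_sq _ _
  have hτrk : rk τ = n := rk_of_rkData _ (rkData_lift (rkData_swap le_rfl))
  have hτg₁ : τ g₁ = g₁ := by
    funext c
    show g₁ (Sum.map (swapIdx n) id c) = g₁ c
    rcases c with c | z
    · simp [hg₁]
    · rfl
  have hτg₂ : τ g₂ = g₂ := by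
    funext c
    show g₂ (Sum.map (swapIdx n) id c) = g₂ c
    rcases c with c | z
    · simp [hg₂]
    · rfl
  have hng : g₁ ∉ LinearMap.range (nil τ) := by
    rintro ⟨v, hv⟩
    have h1 := congrFun hv (Sum.inr 0)
    have h2 : nil τ v (Sum.inr 0) = 0 := by
      show v (Sum.map (swapIdx n) id (Sum.inr 0)) - v (Sum.inr 0) = 0
      simp
    rw [h2] at h1
    simp [hg₁] at h1
  have hne : Q g₁ ≠ 0 := by
    rw [hQg₁]
    exact one_ne_zero
  refine ⟨τ * reflE Q g₁, Subgroup.mul_mem _ hτO (reflE_mem Q g₁), ?_, ?_, ?_⟩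
  · have hcomm : τ * reflE Q g₁ * τ⁻¹ = reflE Q g₁ := by rw [conj_reflE hτO, hτg₁]
    calc τ * reflE Q g₁ * (τ * reflE Q g₁)
        = (τ * reflE Q g₁ * τ⁻¹) * (τ * τ) * reflE Q g₁ := by group
      _ = 1 := by rw [hcomm, hτsq, mul_one, reflE_mul_self]
  · rw [rk_mul_refl hne hτg₁ hng hτg₂ (by rw [hpol]; exact ha), hτrk]
  · intro hA
    have h1 : nil (τ * reflE Q g₁) g₂ = (-a) • g₁ := by
      rw [nil_apply, LinearEquiv.mul_apply, reflE_apply, hQg₁, hpol, inv_one, one_mul, map_sub,
        map_smul, hτg₂, hτg₁]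
      module
    have h2 := hA g₂
    rw [h1, q_smul, hQg₁] at h2
    apply ha
    have h3 : a * a = 0 := by linear_combination h2
    exact mul_self_eq_zero.mp h3

/-- The involutions of the minus-type orthogonal group: all admissible ranks and types occur. -/
theorem reps_minus [CharP F 2] [Finite F] (n : ℕ) (a b : F)
    (hab : ∀ z₁ z₂ : F, z₁ ^ 2 + a * z₁ * z₂ + b * z₂ ^ 2 = 0 → z₁ = 0 ∧ z₂ = 0) :
    Reps (minusQ n F a b) (n + 1) n where
  hV := by
    rw [Module.finrank_fintype_fun_eq_card]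
    simp only [Fintype.card_sum, Fintype.card_fin]
    omega
  hw := Nat.le_succ n
  e1 := by
    intro k hk hkm
    by_cases hkn : k ≤ n
    · refine ⟨permE F (Sum.map (swapIdx k) id) (lift_invol (swapIdx_invol k)), ?_, permE_sq _ _,
        rk_of_rkData _ (rkData_lift (rkData_swap hkn)), ?_⟩
      · intro v
        exact minus_lift_iso (plus_swap k) v
      · intro hA
        obtain ⟨w, hw⟩ := plus_swap_notA (F := F) hk hkn
        apply hw
        have h1 := hA (Sum.elim w 0)
        have h2 := minus_lift_nil (a := a) (b := b) (π₀ := swapIdx k) (Sum.elim w 0)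
        rw [← h1]
        exact h2.symm
    · have hk' : k = n + 1 := by omega
      subst hk'
      exact minus_top hab
  e2 := by
    intro j hj hjm
    obtain ⟨σ, hσ, hdat⟩ := exists_invol hjm
    refine ⟨permE F (Sum.map (Sum.map σ σ) id) (lift_invol (diag_invol hσ)), ?_, permE_sq _ _,
      rk_of_rkData _ (rkData_lift (rkData_diag hdat)), ?_⟩
    · intro v
      exact minus_lift_iso (plus_diag hσ) v
    · intro v
      have h2 := minus_lift_nil (a := a) (b := b) (π₀ := Sum.map σ σ) v
      have h3 := plus_diag_isA hσ (fun c => v (Sum.inl c))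
      show Cfsg.quadFormMinus n F a b (fun c => v (Sum.map (Sum.map σ σ) id c) - v c) = 0
      rw [h2]
      exact h3
  nn := by
    intro t hO ht hA
    have hW : ∀ w ∈ LinearMap.range (nil t), minusQ n F a b w = 0 := by
      rintro _ ⟨v, rfl⟩
      exact hA v
    exact minus_ts_le (sep_minusQ_two n a b hab) hab hW

end minus

end Cfsg.Agent.Lib.Helper44.Inv10
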