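import Mathlib
import Cfsg.Agent.Lib.Helper44.Inv10

set_option autoImplicit false

namespace Cfsg.Agent.Lib.Helper44.Inv11

open Module QuadraticMap
open Cfsg.Agent.Lib.Helper44.QSpace Cfsg.Agent.Lib.Helper44.OGroup
open Cfsg.Agent.Lib.Helper44.CD2a Cfsg.Agent.Lib.Helper44.Inv1
open Cfsg.Agent.Lib.Helper44.Inv9 Cfsg.Agent.Lib.Helper44.OMat

variable {F : Type*} [Field F] {ι : Type} [Fintype ι] [DecidableEq ι] [CharP F 2] [Fintype F]

/-- The number of classes of involutions of the isometry group. -/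
theorem card_inv_O (Q : QuadraticForm F (ι → F)) (hS : Sep Q) {m w : ℕ} (R : Reps Q m w) :
    Nat.card {C : ConjClasses ↥(Cfsg.isometryGroup F ⇑Q) //
      ∃ g : ↥(Cfsg.isometryGroup F ⇑Q), ConjClasses.mk g = C ∧ orderOf g = 2} = m + w / 2 := by
  obtain ⟨rep, h1, h2, h3⟩ := exists_reps_O hS R
  rw [card_classes (fun k => (isoEquiv Q).symm (rep k))]
  · simp [Fintype.card_sum]
  · intro k
    rw [MulEquiv.orderOf_eq]
    exact h1 k
  · intro k k' h
    apply h2
    have := (isoEquiv Q).toMonoidHom.map_isConj h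
    simpa using this
  · intro g hg
    obtain ⟨k, hk⟩ := h3 (isoEquiv Q g) (by rw [MulEquiv.orderOf_eq]; exact hg)
    refine ⟨k, ?_⟩
    have := (isoEquiv Q).symm.toMonoidHom.map_isConj hk
    simpa using this

/-- The number of classes of involutions of the commutator subgroup of the isometry group. -/
theorem card_inv_omega (Q : QuadraticForm F (ι → F)) (hS : Sep Q) (hG : Good Q) {m w e : ℕ}
    (hm : 1 ≤ m) (R : Reps Q m w) (he1 : w = m ∧ Even m → e = 1)
    (he0 : ¬ (w = m ∧ Even m) → e = 0) :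
    Nat.card {C : ConjClasses ↥(Cfsg.Omega F ⇑Q) //
      ∃ g : ↥(Cfsg.Omega F ⇑Q), ConjClasses.mk g = C ∧ orderOf g = 2} = m / 2 + w / 2 + e := by
  obtain ⟨rep, h0, h1, h2, h3⟩ := exists_reps_comm hS hG hm R he1 he0
  rw [card_classes_sub (Cfsg.Omega F ⇑Q) (fun k => (isoEquiv Q).symm (rep k))]
  · simp [Fintype.card_sum]
  · intro k
    rw [mem_omega_iff, MulEquiv.apply_symm_apply]
    exact h0 k
  · intro k
    rw [MulEquiv.orderOf_eq]
    exact h1 k
  · rintro k k' ⟨c, hc, hcc⟩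
    apply h2
    refine ⟨isoEquiv Q c, (mem_omega_iff Q c).mp hc, ?_⟩
    have := congrArg (isoEquiv Q) hcc
    rw [map_mul, map_mul, map_inv, MulEquiv.apply_symm_apply, MulEquiv.apply_symm_apply] at this
    exact this
  · intro g hg ho
    obtain ⟨k, c, hc, hcc⟩ := h3 (isoEquiv Q g) ((mem_omega_iff Q g).mp hg)
      (by rw [MulEquiv.orderOf_eq]; exact ho)
    refine ⟨k, (isoEquiv Q).symm c, ?_, ?_⟩
    · rw [mem_omega_iff, MulEquiv.apply_symm_apply]
      exact hc
    · apply (isoEquiv Q).injective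
      rw [map_mul, map_mul, map_inv, MulEquiv.apply_symm_apply, MulEquiv.apply_symm_apply]
      exact hcc

end Cfsg.Agent.Lib.Helper44.Inv11
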