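import Mathlib
import Cfsg.Agent.Lib.Helper44.Inv11
import Cfsg.Agent.Lib.Helper44.QCount

set_option autoImplicit false

namespace Cfsg.Agent.Lib.Helper44.Der1

open Module QuadraticMap
open Cfsg.Agent.Lib.Helper44.QSpace Cfsg.Agent.Lib.Helper44.OGroup
open Cfsg.Agent.Lib.Helper44.CD2a Cfsg.Agent.Lib.Helper44.Inv1
open Cfsg.Agent.Lib.Helper44.NegPairs Cfsg.Agent.Lib.Helper44.QCount
open Cfsg.Agent.Lib.Helper44.Omega2

universe u

section points

variable {F : Type*} [Field F] {V : Type u} [AddCommGroup V] [Module F V]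

/-- A one-dimensional subspace is spanned by any of its non-zero vectors. -/
theorem eq_span_of_finrank_one {W : Submodule F V} (h : finrank F W = 1) {g : V} (hg : g ∈ W)
    (hg0 : g ≠ 0) : W = F ∙ g := by
  apply le_antisymm
  · intro w hw
    have h0 : (⟨g, hg⟩ : W) ≠ 0 := by
      intro h'
      exact hg0 (congrArg Subtype.val h')
    obtain ⟨c, hc⟩ := (finrank_eq_one_iff_of_nonzero' (⟨g, hg⟩ : W) h0).mp h ⟨w, hw⟩
    rw [Submodule.mem_span_singleton]
    exact ⟨c, congrArg Subtype.val hc⟩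
  · rw [Submodule.span_singleton_le_iff_mem]
    exact hg

/-- Counting the non-singular points through the non-singular vectors. -/
theorem card_points_mul [Fintype F] [Finite V] (Q : QuadraticForm F V) :
    Nat.card {W : Submodule F V // finrank F W = 1 ∧ ∃ v ∈ W, Q v ≠ 0} * (Fintype.card F - 1)
      = Nat.card {v : V // Q v ≠ 0} := by
  classical
  have hgen : ∀ W : {W : Submodule F V // finrank F W = 1 ∧ ∃ v ∈ W, Q v ≠ 0},
      ∃ v, v ∈ W.1 ∧ Q v ≠ 0 := fun W => W.2.2
  choose gen hgenW hgenQ using hgen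
  have hgen0 : ∀ W, gen W ≠ 0 := fun W => ne_zero_of_q_ne_zero (hgenQ W)
  let ψ : {W : Submodule F V // finrank F W = 1 ∧ ∃ v ∈ W, Q v ≠ 0} × Fˣ → {v : V // Q v ≠ 0} :=
    fun x => ⟨(x.2 : F) • gen x.1, by
      rw [q_smul]
      exact mul_ne_zero (mul_ne_zero x.2.ne_zero x.2.ne_zero) (hgenQ x.1)⟩
  have hψ : Function.Bijective ψ := by
    constructor
    · rintro ⟨W, c⟩ ⟨W', c'⟩ h
      have h1 : (c : F) • gen W = (c' : F) • gen W' := congrArg Subtype.val h
      have hW : W = W' := by
        apply Subtype.ext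
        rw [eq_span_of_finrank_one W.2.1 (hgenW W) (hgen0 W),
          eq_span_of_finrank_one W'.2.1 (hgenW W') (hgen0 W')]
        apply le_antisymm
        · rw [Submodule.span_singleton_le_iff_mem, Submodule.mem_span_singleton]
          refine ⟨(c : F)⁻¹ * c', ?_⟩
          rw [mul_smul, ← h1, smul_smul, inv_mul_cancel₀ c.ne_zero, one_smul]
        · rw [Submodule.span_singleton_le_iff_mem, Submodule.mem_span_singleton]
          refine ⟨(c' : F)⁻¹ * c, ?_⟩
          rw [mul_smul, h1, smul_smul, inv_mul_cancel₀ c'.ne_zero, one_smul]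
      subst hW
      have h2 : ((c : F) - c') • gen W = 0 := by rw [sub_smul, h1, sub_self]
      have h3 : (c : F) - c' = 0 := by
        rcases smul_eq_zero.mp h2 with h | h
        · exact h
        · exact absurd h (hgen0 W)
      have h4 : c = c' := Units.ext (sub_eq_zero.mp h3)
      rw [h4]
    · rintro ⟨v, hv⟩
      have hv0 : v ≠ 0 := ne_zero_of_q_ne_zero hv
      let W : {W : Submodule F V // finrank F W = 1 ∧ ∃ v ∈ W, Q v ≠ 0} :=
        ⟨F ∙ v, finrank_span_singleton hv0, v, Submodule.mem_span_singleton_self v, hv⟩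
      have hmem : gen W ∈ F ∙ v := hgenW W
      obtain ⟨a, ha⟩ := Submodule.mem_span_singleton.mp hmem
      have ha0 : a ≠ 0 := by
        rintro rfl
        rw [zero_smul] at ha
        exact hgen0 W ha.symm
      refine ⟨(W, Units.mk0 a⁻¹ (inv_ne_zero ha0)), ?_⟩
      apply Subtype.ext
      show (a⁻¹ : F) • gen W = v
      rw [← ha, smul_smul, inv_mul_cancel₀ ha0, one_smul]
  rw [← Nat.card_congr (Equiv.ofBijective ψ hψ), Nat.card_prod, Nat.card_units,
    Nat.card_eq_fintype_card (α := F)]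

end points

section count

variable {F : Type*} [Field F] [Fintype F]

/-- An odd prime dividing the number of non-singular points of the plus-type form divides
`q^d - 1`. -/
theorem dvd_of_dvd_points {d : ℕ} {r : ℕ} (hr : r.Prime) (hrq : ¬ r ∣ Fintype.card F)
    (h : r ∣ Nat.card {W : Submodule F (Fin d ⊕ Fin d → F) //
      finrank F W = 1 ∧ ∃ v ∈ W, Cfsg.quadFormPlus d F v ≠ 0}) :
    r ∣ Fintype.card F ^ d - 1 := by
  classical
  have hq1 : 1 < Fintype.card F := Fintype.one_lt_card
  have h1 := card_points_mul (plusQ d F)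
  have h2 := card_plusForm_mul (F := F) (κ := Fin d) (0 : F)
  rw [if_pos rfl, Fintype.card_fin] at h2
  have h3 : Nat.card {v : Fin d ⊕ Fin d → F // plusForm v = 0}
      + Nat.card {v : Fin d ⊕ Fin d → F // ¬ plusForm v = 0} = Fintype.card F ^ d * Fintype.card F ^ d := by
    have e := Nat.card_congr (Equiv.sumCompl (fun v : Fin d ⊕ Fin d → F => plusForm v = 0))
    rw [Nat.card_sum] at e
    rw [e, Nat.card_eq_fintype_card, Fintype.card_fun, Fintype.card_sum, Fintype.card_fin,
      pow_add]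
  set N := Nat.card {W : Submodule F (Fin d ⊕ Fin d → F) //
      finrank F W = 1 ∧ ∃ v ∈ W, Cfsg.quadFormPlus d F v ≠ 0} with hN
  set Z := Nat.card {v : Fin d ⊕ Fin d → F // plusForm v = 0} with hZ
  set S := Nat.card {v : Fin d ⊕ Fin d → F // ¬ plusForm v = 0} with hS
  have h1' : N * (Fintype.card F - 1) = S := h1
  obtain ⟨c, hc⟩ : ∃ c, Fintype.card F = c + 1 := ⟨Fintype.card F - 1, by omega⟩
  have hA : 1 ≤ Fintype.card F ^ d := Nat.one_le_pow _ _ (by omega)
  obtain ⟨B, hB⟩ : ∃ B, Fintype.card F ^ d = B + 1 := ⟨Fintype.card F ^ d - 1, by omega⟩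
  have hBsub : Fintype.card F ^ d - 1 = B := by omega
  rw [hBsub]
  rw [hBsub] at h2
  have hcsub : Fintype.card F - 1 = c := by omega
  rw [hcsub] at h1'
  rw [pow_succ, hB] at h2
  rw [hB] at h3
  rw [hc] at h2
  have key : N * (c + 1) * c = (B + 1) * B * c := by
    have e1 : (N : ℤ) * c = S := by exact_mod_cast h1'
    have e2 : (Z : ℤ) * (c + 1) = (B + 1) * (c + 1) + B * (B + 1) := by exact_mod_cast h2
    have e3 : (Z : ℤ) + S = (B + 1) * (B + 1) := by exact_mod_cast h3
    have : ((N : ℤ) * (c + 1)) * c = (B + 1) * B * c := by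
      linear_combination (c + 1 : ℤ) * e1 + (c + 1 : ℤ) * e3 - e2
    exact_mod_cast this
  have hc0 : 0 < c := by omega
  have key2 : N * (c + 1) = (B + 1) * B := Nat.eq_of_mul_eq_mul_right hc0 key
  have h4 : r ∣ (B + 1) * B := by
    rw [← key2]
    exact Dvd.dvd.mul_right h _
  rcases (Nat.Prime.dvd_mul hr).mp h4 with h5 | h5
  · exfalso
    apply hrq
    rw [← hB] at h5
    exact hr.dvd_of_dvd_pow h5
  · exact h5

end count

end Cfsg.Agent.Lib.Helper44.Der1
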