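import Mathlib
import Cfsg.Agent.Lib.Helper44.Der1

set_option autoImplicit false

namespace Cfsg.Agent.Lib.Helper44.Der2

open Module QuadraticMap
open Cfsg.Agent.Lib.Helper44.QSpace Cfsg.Agent.Lib.Helper44.OGroup
open Cfsg.Agent.Lib.Helper44.CD2a Cfsg.Agent.Lib.Helper44.Inv1
open Cfsg.Agent.Lib.Helper44.NegPairs

section singer

variable {F : Type*} [Field F] {K : Type*} [Field K] [Algebra F K]

/-- Multiplication by a unit as a linear equivalence. -/
noncomputable def mulE (F : Type*) [Field F] {K : Type*} [Field K] [Algebra F K] (u : Kˣ) :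
    K ≃ₗ[F] K :=
  LinearEquiv.ofLinear (LinearMap.mulLeft F (u : K)) (LinearMap.mulLeft F ((u⁻¹ : Kˣ) : K))
    (by ext x; simp) (by ext x; simp)

theorem mulE_apply (u : Kˣ) (x : K) : mulE F u x = (u : K) * x := rfl

/-- The pair of multiplications by `u` and `u⁻¹`. -/
noncomputable def pairE (F : Type*) [Field F] {K : Type*} [Field K] [Algebra F K] (u : Kˣ) :
    (K × K) ≃ₗ[F] (K × K) :=
  LinearEquiv.prodCongr (mulE F u) (mulE F u⁻¹)

theorem pairE_apply (u : Kˣ) (x : K × K) :
    pairE F u x = ((u : K) * x.1, ((u⁻¹ : Kˣ) : K) * x.2) := rfl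

variable {d : ℕ}

/-- The coordinate isomorphism attached to a basis and a second basis. -/
noncomputable def coordE (b b' : Basis (Fin d) F K) : (Fin d ⊕ Fin d → F) ≃ₗ[F] (K × K) :=
  (LinearEquiv.sumArrowLequivProdArrow (Fin d) (Fin d) F F).trans
    (LinearEquiv.prodCongr b.equivFun.symm b'.equivFun.symm)

theorem coordE_fst (b b' : Basis (Fin d) F K) (v : Fin d ⊕ Fin d → F) :
    (coordE b b' v).1 = ∑ i, v (Sum.inl i) • b i := by
  show b.equivFun.symm (fun i => v (Sum.inl i)) = _
  rw [Basis.equivFun_symm_apply]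

theorem coordE_snd (b b' : Basis (Fin d) F K) (v : Fin d ⊕ Fin d → F) :
    (coordE b b' v).2 = ∑ i, v (Sum.inr i) • b' i := by
  show b'.equivFun.symm (fun i => v (Sum.inr i)) = _
  rw [Basis.equivFun_symm_apply]

/-- The Singer-type isometry attached to a unit of `K`. -/
noncomputable def singE (b b' : Basis (Fin d) F K) (u : Kˣ) :
    (Fin d ⊕ Fin d → F) ≃ₗ[F] (Fin d ⊕ Fin d → F) :=
  (coordE b b').trans ((pairE F u).trans (coordE b b').symm)

theorem singE_apply (b b' : Basis (Fin d) F K) (u : Kˣ) (v : Fin d ⊕ Fin d → F) :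
    singE b b' u v = (coordE b b').symm (pairE F u (coordE b b' v)) := rfl

theorem coord_singE (b b' : Basis (Fin d) F K) (u : Kˣ) (v : Fin d ⊕ Fin d → F) :
    coordE b b' (singE b b' u v) = pairE F u (coordE b b' v) := by
  rw [singE_apply, LinearEquiv.apply_symm_apply]

theorem singE_pow (b b' : Basis (Fin d) F K) (u : Kˣ) (k : ℕ) :
    singE b b' u ^ k = singE b b' (u ^ k) := by
  induction k with
  | zero =>
    apply LinearEquiv.ext
    intro v
    rw [pow_zero, pow_zero, singE_apply]
    have : pairE F (1 : Kˣ) (coordE b b' v) = coordE b b' v := by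
      rw [pairE_apply]
      simp
    rw [this, LinearEquiv.symm_apply_apply]
    rfl
  | succ k ih =>
    apply LinearEquiv.ext
    intro v
    rw [pow_succ, LinearEquiv.mul_apply, ih]
    apply (coordE b b').injective
    rw [coord_singE, coord_singE, coord_singE, pairE_apply, pairE_apply, pairE_apply]
    simp only [Units.val_mul, Units.val_pow_eq_pow_val, mul_inv, pow_succ]
    ext
    · simp only
      ring
    · simp only [inv_pow, Units.val_mul, Units.val_pow_eq_pow_val]
      ring

/-- With the dual basis for the trace form, the plus-type form is the trace pairing. -/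
theorem plus_eq_trace (b b' : Basis (Fin d) F K)
    (hdual : ∀ i j, Algebra.trace F K (b i * b' j) = if i = j then 1 else 0)
    (v : Fin d ⊕ Fin d → F) :
    Cfsg.quadFormPlus d F v = Algebra.trace F K ((coordE b b' v).1 * (coordE b b' v).2) := by
  classical
  rw [coordE_fst, coordE_snd, Finset.sum_mul, map_sum]
  unfold Cfsg.quadFormPlus
  apply Finset.sum_congr rfl
  intro i _
  rw [Finset.mul_sum, map_sum]
  rw [Finset.sum_eq_single i]
  · rw [smul_mul_smul_comm, map_smul, hdual, if_pos rfl, smul_eq_mul, mul_one]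
  · intro j _ hji
    rw [smul_mul_smul_comm, map_smul, hdual, if_neg (Ne.symm hji), smul_zero]
  · intro h
    exact absurd (Finset.mem_univ _) h

theorem singE_mem (b b' : Basis (Fin d) F K)
    (hdual : ∀ i j, Algebra.trace F K (b i * b' j) = if i = j then 1 else 0) (u : Kˣ) :
    singE b b' u ∈ O (plusQ d F) := by
  intro v
  show Cfsg.quadFormPlus d F (singE b b' u v) = Cfsg.quadFormPlus d F v
  rw [plus_eq_trace b b' hdual, plus_eq_trace b b' hdual, coord_singE, pairE_apply]
  congr 1
  have : (u : K) * (coordE b b' v).1 * (((u⁻¹ : Kˣ) : K) * (coordE b b' v).2)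
      = ((u : K) * ((u⁻¹ : Kˣ) : K)) * ((coordE b b' v).1 * (coordE b b' v).2) := by ring
  rw [this, Units.mul_inv, one_mul]

/-- The Singer-type isometry has no non-singular eigenvector unless `u² = 1`. -/
theorem singE_no_eigen (b b' : Basis (Fin d) F K)
    (hdual : ∀ i j, Algebra.trace F K (b i * b' j) = if i = j then 1 else 0) (u : Kˣ)
    (hu : u * u ≠ 1) (v : Fin d ⊕ Fin d → F) (hv : plusQ d F v ≠ 0) (μ : F) :
    singE b b' u v ≠ μ • v := by
  intro h
  have hv' : Algebra.trace F K ((coordE b b' v).1 * (coordE b b' v).2) ≠ 0 := by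
    rw [← plus_eq_trace b b' hdual]
    exact hv
  have h1 : (coordE b b' v).1 ≠ 0 := by
    intro h0
    apply hv'
    rw [h0, zero_mul, map_zero]
  have h2 : (coordE b b' v).2 ≠ 0 := by
    intro h0
    apply hv'
    rw [h0, mul_zero, map_zero]
  have h3 := congrArg (coordE b b') h
  rw [coord_singE, map_smul, pairE_apply] at h3
  have e1 : (u : K) * (coordE b b' v).1 = algebraMap F K μ * (coordE b b' v).1 := by
    have := congrArg Prod.fst h3
    simp only [Prod.smul_fst] at this
    rw [this, Algebra.smul_def]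
  have e2 : ((u⁻¹ : Kˣ) : K) * (coordE b b' v).2 = algebraMap F K μ * (coordE b b' v).2 := by
    have := congrArg Prod.snd h3
    simp only [Prod.smul_snd] at this
    rw [this, Algebra.smul_def]
  have e3 : (u : K) = algebraMap F K μ := mul_right_cancel₀ h1 e1
  have e4 : ((u⁻¹ : Kˣ) : K) = algebraMap F K μ := mul_right_cancel₀ h2 e2
  apply hu
  apply Units.ext
  rw [Units.val_mul, Units.val_one]
  nth_rewrite 1 [e3]
  rw [← e4, Units.inv_mul]

end singer

section exist

variable {F : Type*} [Field F] [Fintype F]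

/-- For an odd prime `r` dividing `q^d - 1` there is an isometry of order `r` of the plus-type
form without non-singular eigenvectors. -/
theorem exists_singer {p : ℕ} [Fact p.Prime] [CharP F p] {d : ℕ} (hd : d ≠ 0) {r : ℕ}
    [Fact r.Prime] (hodd : r ≠ 2) (hdvd : r ∣ Fintype.card F ^ d - 1) :
    ∃ X : (Fin d ⊕ Fin d → F) ≃ₗ[F] (Fin d ⊕ Fin d → F), X ∈ O (plusQ d F) ∧ X ^ r = 1 ∧
      ∀ v, plusQ d F v ≠ 0 → ∀ μ : F, X v ≠ μ • v := by
  classical
  haveI : NeZero d := ⟨hd⟩
  have hfin : finrank F (FiniteField.Extension F p d) = d := FiniteField.finrank_extension F p d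
  have hcard : Nat.card (FiniteField.Extension F p d) = Nat.card F ^ d :=
    FiniteField.natCard_extension F p d
  have hc : Nat.card (FiniteField.Extension F p d)ˣ = Fintype.card F ^ d - 1 := by
    rw [Nat.card_units, hcard, Nat.card_eq_fintype_card]
  obtain ⟨ζ, hζ⟩ := exists_prime_orderOf_dvd_card' r (G := (FiniteField.Extension F p d)ˣ)
    (by rw [hc]; exact hdvd)
  let b : Basis (Fin d) F (FiniteField.Extension F p d) := Module.finBasisOfFinrankEq F _ hfin
  have hnd : (Algebra.traceForm F (FiniteField.Extension F p d)).Nondegenerate :=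
    traceForm_nondegenerate F _
  let b' : Basis (Fin d) F (FiniteField.Extension F p d) :=
    (Algebra.traceForm F (FiniteField.Extension F p d)).dualBasis hnd b
  have hdual : ∀ i j, Algebra.trace F (FiniteField.Extension F p d) (b i * b' j)
      = if i = j then 1 else 0 := by
    intro i j
    have := LinearMap.BilinForm.apply_dualBasis_right hnd (Algebra.traceForm_isSymm F) b i j
    rwa [Algebra.traceForm_apply] at this
  refine ⟨singE b b' ζ, singE_mem b b' hdual ζ, ?_, ?_⟩
  · rw [singE_pow, ← hζ, pow_orderOf_eq_one]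
    have := singE_pow b b' ζ 0
    rw [pow_zero, pow_zero] at this
    exact this.symm
  · intro v hv μ
    apply singE_no_eigen b b' hdual ζ _ v hv μ
    intro h
    have h2 : orderOf ζ ∣ 2 := orderOf_dvd_of_pow_eq_one (by rw [pow_two]; exact h)
    rw [hζ] at h2
    have := (Nat.prime_dvd_prime_iff_eq (Fact.out : r.Prime) Nat.prime_two).mp h2
    exact hodd this

end exist

end Cfsg.Agent.Lib.Helper44.Der2
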