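import Mathlib
import Cfsg.Prelude.Def_GeometricClasses
import Cfsg.Agent.Lib.Helper44.Der2

set_option autoImplicit false

namespace Cfsg.Agent.Lib.Helper44.Der3

open Module QuadraticMap Matrix
open Cfsg.Agent.Lib.Helper44.QSpace Cfsg.Agent.Lib.Helper44.OGroup Cfsg.Agent.Lib.Helper44.Parity
open Cfsg.Agent.Lib.Helper44.CD2a Cfsg.Agent.Lib.Helper44.Inv1
open Cfsg.Agent.Lib.Helper44.NegPairs Cfsg.Agent.Lib.Helper44.Omega2 Cfsg.Agent.Lib.Helper44.OMat
open Cfsg.Agent.Lib.Helper44.Inv7 Cfsg.Agent.Lib.Helper44.Inv9 Cfsg.Agent.Lib.Helper44.Der1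
open Cfsg.Agent.Lib.Helper44.QClass

universe u

section abstract

variable {F : Type*} [Field F] {V : Type u} [AddCommGroup V] [Module F V]
variable {Q : QuadraticForm F V}

theorem eq_one_of_sq [CharP F 2] {z : F} (h : z * z = 1) : z = 1 := by
  have h2 : (2 : F) = 0 := CharTwo.two_eq_zero
  have : (z - 1) * (z - 1) = 0 := by linear_combination h - (z - 1) * h2
  exact sub_eq_zero.mp (mul_self_eq_zero.mp this)

/-- Elements of odd order lie in the commutator subgroup (characteristic two). -/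
theorem mem_comm_of_odd_pow [CharP F 2] [Fintype F] [FiniteDimensional F V] (hS : Sep Q)
    (hG : Good Q) (g : O Q) {r : ℕ} (hr : Odd r) (h : g ^ r = 1) : g ∈ commutator (O Q) := by
  rw [commutator_eq_ker_two hS hG, MonoidHom.mem_ker]
  have h1 : (parHom hS (cdp_two hS hG) g) ^ r = 1 := by rw [← map_pow, h, map_one]
  have key : ∀ a : Multiplicative (ZMod 2), a ^ 2 = 1 := by decide
  obtain ⟨k, rfl⟩ := hr
  rw [pow_succ, pow_mul, key, one_pow, one_mul] at h1
  exact h1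

/-- An involution of type `a` and maximal rank has no non-singular eigenvector. -/
theorem no_eigen_of_isA [CharP F 2] [FiniteDimensional F V] {t : V ≃ₗ[F] V} (ht : t * t = 1)
    (hA : IsA Q t) (hrk : 2 * rk t = finrank F V) (v : V) (hv : Q v ≠ 0) (μ : F) :
    t v ≠ μ • v := by
  intro h
  have h1 : t (t v) = v := apply_apply ht v
  rw [h, map_smul, h, smul_smul] at h1
  have hv0 : v ≠ 0 := ne_zero_of_q_ne_zero hv
  have h2 : μ * μ = 1 := by
    have : (μ * μ - 1) • v = 0 := by rw [sub_smul, h1, one_smul, sub_self]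
    rcases smul_eq_zero.mp this with h' | h'
    · exact sub_eq_zero.mp h'
    · exact absurd h' hv0
  rw [eq_one_of_sq h2, one_smul] at h
  have hfix : v ∈ fixS t := mem_fixS.mpr h
  have heq : LinearMap.range (nil t) = fixS t := by
    apply Submodule.eq_of_le_of_finrank_le (range_le_fix ht)
    have e := rk_add_finrank_fix t
    unfold rk at e hrk
    omega
  rw [← heq] at hfix
  obtain ⟨u, rfl⟩ := hfix
  exact hv (hA u)

end abstract

section matrix

variable {F : Type*} [Field F] [Fintype F] {ι : Type} [Fintype ι] [DecidableEq ι]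

theorem mem_omegaGL_iff (Q : QuadraticForm F (ι → F)) (x : GL ι F) :
    x ∈ Cfsg.Geo.omegaGL (⇑Q) ↔ ∃ y : ↥(Cfsg.isometryGroup F ⇑Q), y ∈ Cfsg.Omega F ⇑Q ∧
      (y : GL ι F) = x := by
  unfold Cfsg.Geo.omegaGL
  rw [Subgroup.mem_map]
  rfl

/-- The matrix isometry attached to an abstract isometry lying in the commutator subgroup. -/
theorem exists_omegaGL (Q : QuadraticForm F (ι → F)) (X : O Q) (hX : X ∈ commutator (O Q)) :
    ∃ x : GL ι F, x ∈ Cfsg.Geo.omegaGL (⇑Q) ∧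
      (∀ v, (x : Matrix ι ι F) *ᵥ v = (X : (ι → F) ≃ₗ[F] (ι → F)) v) ∧
      ∀ k : ℕ, X ^ k = 1 → x ^ k = 1 := by
  refine ⟨((isoEquiv Q).symm X : ↥(Cfsg.isometryGroup F ⇑Q)), ?_, ?_, ?_⟩
  · rw [mem_omegaGL_iff]
    refine ⟨(isoEquiv Q).symm X, ?_, rfl⟩
    rw [mem_omega_iff, MulEquiv.apply_symm_apply]
    exact hX
  · intro v
    exact isoEquiv_symm_mulVec Q X v
  · intro k hk
    have : ((isoEquiv Q).symm X) ^ k = 1 := by rw [← map_pow, hk, map_one]
    have h2 := congrArg Subtype.val this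
    exact h2

variable [CharP F 2]

/-- Elements of prime order of `Ω⁺_{2d}(q)`, `q` even, fixing no non-singular point. -/
theorem plus_points (d : ℕ) (hd : 3 ≤ d) (r : ℕ) [Fact r.Prime]
    (hrΩ : r ∣ Nat.card {W : Submodule F (Fin d ⊕ Fin d → F) //
      finrank F ↥W = 1 ∧ ∃ v ∈ W, Cfsg.quadFormPlus d F v ≠ 0}) :
    (∀ x : GL (Fin d ⊕ Fin d) F, x ∈ Cfsg.Geo.omegaGL (Cfsg.quadFormPlus d F) →
      (∃ z : F, ((x ^ r : GL (Fin d ⊕ Fin d) F) : Matrix (Fin d ⊕ Fin d) (Fin d ⊕ Fin d) F)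
        = z • (1 : Matrix (Fin d ⊕ Fin d) (Fin d ⊕ Fin d) F)) →
      (∀ z : F, (x : Matrix (Fin d ⊕ Fin d) (Fin d ⊕ Fin d) F)
        ≠ z • (1 : Matrix (Fin d ⊕ Fin d) (Fin d ⊕ Fin d) F)) →
      ∃ W : Submodule F (Fin d ⊕ Fin d → F),
        (finrank F ↥W = 1 ∧ ∃ v ∈ W, Cfsg.quadFormPlus d F v ≠ 0) ∧
        W.map (Matrix.toLin' (x : Matrix (Fin d ⊕ Fin d) (Fin d ⊕ Fin d) F)) ≤ W) ↔
      (r = 2 ∧ Odd d) := by
  classical
  have hS := sep_plusQ (F := F) d
  have hfr : finrank F (Fin d ⊕ Fin d → F) = 2 * d := by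
    rw [Module.finrank_fintype_fun_eq_card, Fintype.card_sum, Fintype.card_fin]
    omega
  have hG : Good (plusQ d F) := good_of_card hS (Or.inr (by rw [hfr]; omega))
  obtain ⟨v₀, hv₀⟩ := exists_q_eq hS (by rw [hfr]; omega) (1 : F)
  have hv₀' : plusQ d F v₀ ≠ 0 := by
    rw [hv₀]
    exact one_ne_zero
  constructor
  · intro H
    -- `r = 2`
    have hr2 : r = 2 := by
      by_contra hodd
      have hrq : ¬ r ∣ Fintype.card F := by
        intro h
        obtain ⟨n, -, hn⟩ := FiniteField.card F 2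
        rw [hn] at h
        have := (Fact.out : r.Prime).dvd_of_dvd_pow h
        exact hodd ((Nat.prime_dvd_prime_iff_eq (Fact.out : r.Prime) Nat.prime_two).mp this)
      have hdvd := dvd_of_dvd_points (Fact.out : r.Prime) hrq hrΩ
      have : Fact (Nat.Prime 2) := ⟨Nat.prime_two⟩
      obtain ⟨X, hXO, hXr, hXe⟩ := Der2.exists_singer (F := F) (p := 2) (d := d) (by omega)
        hodd hdvd
      have hXc : (⟨X, hXO⟩ : O (plusQ d F)) ∈ commutator (O (plusQ d F)) :=
        mem_comm_of_odd_pow hS hG _ ((Fact.out : r.Prime).odd_of_ne_two hodd)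
          (Subtype.ext hXr)
      obtain ⟨x, hx1, hx2, hx3⟩ := exists_omegaGL (plusQ d F) ⟨X, hXO⟩ hXc
      obtain ⟨W, ⟨hW1, v, hvW, hv⟩, hW2⟩ := H x hx1
        ⟨1, by rw [hx3 r (Subtype.ext hXr), one_smul]; rfl⟩
        (by
          intro z hz
          apply hXe v₀ hv₀' z
          have := hx2 v₀
          rw [hz, Matrix.smul_mulVec, Matrix.one_mulVec] at this
          exact this.symm)
      have hv0 : v ≠ 0 := ne_zero_of_q_ne_zero (Q := plusQ d F) hv
      have hmem : (x : Matrix (Fin d ⊕ Fin d) (Fin d ⊕ Fin d) F) *ᵥ v ∈ W := by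
        apply hW2
        exact ⟨v, hvW, Matrix.toLin'_apply _ _⟩
      rw [eq_span_of_finrank_one hW1 hvW hv0, Submodule.mem_span_singleton] at hmem
      obtain ⟨μ, hμ⟩ := hmem
      apply hXe v hv μ
      rw [← hx2 v, hμ]
    refine ⟨hr2, ?_⟩
    -- `d` is odd
    by_contra hnodd
    have hev : Even d := Nat.not_odd_iff_even.mp hnodd
    obtain ⟨k, hk⟩ := hev
    obtain ⟨t, htO, htt, htrk, htA⟩ := (Inv10.reps_plus (F := F) d).e2 k (by omega) (by omega)
    have hrk2 : 2 * rk t = finrank F (Fin d ⊕ Fin d → F) := by rw [hfr, htrk]; omega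
    have htc : (⟨t, htO⟩ : O (plusQ d F)) ∈ commutator (O (plusQ d F)) := by
      rw [mem_comm_iff hS hG]
      show Even (rk t)
      rw [htrk]
      exact even_two_mul k
    obtain ⟨x, hx1, hx2, hx3⟩ := exists_omegaGL (plusQ d F) ⟨t, htO⟩ htc
    have hpow : (⟨t, htO⟩ : O (plusQ d F)) ^ r = 1 := by
      rw [hr2, pow_two]
      exact Subtype.ext htt
    obtain ⟨W, ⟨hW1, v, hvW, hv⟩, hW2⟩ := H x hx1
      ⟨1, by rw [hx3 r hpow, one_smul]; rfl⟩
      (by
        intro z hz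
        apply no_eigen_of_isA htt htA hrk2 v₀ hv₀' z
        have := hx2 v₀
        rw [hz, Matrix.smul_mulVec, Matrix.one_mulVec] at this
        exact this.symm)
    have hv0 : v ≠ 0 := ne_zero_of_q_ne_zero (Q := plusQ d F) hv
    have hmem : (x : Matrix (Fin d ⊕ Fin d) (Fin d ⊕ Fin d) F) *ᵥ v ∈ W := by
      apply hW2
      exact ⟨v, hvW, Matrix.toLin'_apply _ _⟩
    rw [eq_span_of_finrank_one hW1 hvW hv0, Submodule.mem_span_singleton] at hmem
    obtain ⟨μ, hμ⟩ := hmem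
    apply no_eigen_of_isA htt htA hrk2 v hv μ
    rw [← hx2 v, hμ]
  · rintro ⟨hr2, hodd⟩ x hx ⟨z, hz⟩ hns
    obtain ⟨y, hyΩ, rfl⟩ := (mem_omegaGL_iff (plusQ d F) x).mp hx
    set T : (Fin d ⊕ Fin d → F) ≃ₗ[F] (Fin d ⊕ Fin d → F) :=
      (isoEquiv (plusQ d F) y : ↥(O (plusQ d F))).1 with hT
    have hTO : T ∈ O (plusQ d F) := (isoEquiv (plusQ d F) y).2
    have hTa : ∀ v, T v = ((y : GL (Fin d ⊕ Fin d) F) : Matrix _ _ F) *ᵥ v := fun v => rfl
    have hTT' : ∀ v, T (T v) = z • v := by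
      intro v
      rw [hTa, hTa, Matrix.mulVec_mulVec]
      have : ((y : GL (Fin d ⊕ Fin d) F) : Matrix (Fin d ⊕ Fin d) (Fin d ⊕ Fin d) F)
          * ((y : GL (Fin d ⊕ Fin d) F) : Matrix (Fin d ⊕ Fin d) (Fin d ⊕ Fin d) F)
          = z • (1 : Matrix (Fin d ⊕ Fin d) (Fin d ⊕ Fin d) F) := by
        rw [← hz, hr2, pow_two]
        rfl
      rw [this, Matrix.smul_mulVec, Matrix.one_mulVec]
    have hz1 : z = 1 := by
      apply eq_one_of_sq
      have h1 : plusQ d F (T (T v₀)) = plusQ d F v₀ := by rw [hTO, hTO]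
      rw [hTT', q_smul, hv₀, mul_one] at h1
      exact h1
    have hTT : T * T = 1 := by
      apply LinearEquiv.ext
      intro v
      rw [LinearEquiv.mul_apply, hTT', hz1, one_smul]
      rfl
    have hmax : ¬ (IsA (plusQ d F) T ∧ 2 * rk T = finrank F (Fin d ⊕ Fin d → F)) := by
      rintro ⟨hA, hrk⟩
      have hev := even_rk_of_isA hS _ _ hTO hTT hA rfl
      rw [hfr] at hrk
      have : rk T = d := by omega
      rw [this] at hev
      exact (Nat.not_even_iff_odd.mpr hodd) hev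
    obtain ⟨v, hv, hTv⟩ := exists_nonsing_fixed hS hTT hmax
    have hv0 : v ≠ 0 := ne_zero_of_q_ne_zero hv
    refine ⟨F ∙ v, ⟨finrank_span_singleton hv0, v, Submodule.mem_span_singleton_self v, hv⟩, ?_⟩
    rw [Submodule.map_span, Set.image_singleton, Submodule.span_singleton_le_iff_mem,
      Matrix.toLin'_apply, ← hTa, hTv]
    exact Submodule.mem_span_singleton_self v

end matrix

end Cfsg.Agent.Lib.Helper44.Der3
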