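import Mathlib
import Cfsg.Agent.Lib.Helper44.Der3

set_option autoImplicit false

namespace Cfsg.Agent.Lib.Helper44.Der4

open Module QuadraticMap
open Cfsg.Agent.Lib.Helper44.QSpace Cfsg.Agent.Lib.Helper44.OGroup
open Cfsg.Agent.Lib.Helper44.CD2a Cfsg.Agent.Lib.Helper44.Inv1
open Cfsg.Agent.Lib.Helper44.NegPairs Cfsg.Agent.Lib.Helper44.QCount
open Cfsg.Agent.Lib.Helper44.Der1

section count

variable {F : Type*} [Field F] [Fintype F]

/-- An odd prime dividing the number of non-singular points of the minus-type form divides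
`q^(n+1) + 1`. -/
theorem dvd_of_dvd_points_minus {n : ℕ} {a b : F}
    (hab : ∀ z₁ z₂ : F, z₁ ^ 2 + a * z₁ * z₂ + b * z₂ ^ 2 = 0 → z₁ = 0 ∧ z₂ = 0) {r : ℕ}
    (hr : r.Prime) (hrq : ¬ r ∣ Fintype.card F)
    (h : r ∣ Nat.card {W : Submodule F ((Fin n ⊕ Fin n) ⊕ Fin 2 → F) //
      finrank F W = 1 ∧ ∃ v ∈ W, Cfsg.quadFormMinus n F a b v ≠ 0}) :
    r ∣ Fintype.card F ^ (n + 1) + 1 := by
  classical
  have hq1 : 1 < Fintype.card F := Fintype.one_lt_card
  have h1 := card_points_mul (minusQ n F a b)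
  set R : (Fin 2 → F) → F := fun w => w 0 ^ 2 + a * w 0 * w 1 + b * w 1 ^ 2 with hR
  have h2 := card_hypForm_mul (F := F) (κ := Fin n) (τ := Fin 2) R (0 : F)
  have hR1 : Nat.card {w : Fin 2 → F // R w = 0} = 1 := by
    rw [Nat.card_eq_one_iff_unique]
    refine ⟨⟨?_⟩, ⟨⟨0, by simp [hR]⟩⟩⟩
    rintro ⟨w, hw⟩ ⟨w', hw'⟩
    apply Subtype.ext
    obtain ⟨e0, e1⟩ := hab _ _ hw
    obtain ⟨e0', e1'⟩ := hab _ _ hw'
    funext i
    fin_cases i
    · exact e0.trans e0'.symm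
    · exact e1.trans e1'.symm
  rw [hR1, one_mul, Fintype.card_fin, Fintype.card_fin] at h2
  have h3 : Nat.card {v : (Fin n ⊕ Fin n) ⊕ Fin 2 → F // hypForm R v = 0}
      + Nat.card {v : (Fin n ⊕ Fin n) ⊕ Fin 2 → F // ¬ hypForm R v = 0}
      = (Fintype.card F ^ n * Fintype.card F ^ n) * Fintype.card F ^ 2 := by
    have e := Nat.card_congr
      (Equiv.sumCompl (fun v : (Fin n ⊕ Fin n) ⊕ Fin 2 → F => hypForm R v = 0))
    rw [Nat.card_sum] at e
    rw [e, Nat.card_eq_fintype_card, Fintype.card_fun, Fintype.card_sum, Fintype.card_sum,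
      Fintype.card_fin, Fintype.card_fin, pow_add, pow_add]
  set N := Nat.card {W : Submodule F ((Fin n ⊕ Fin n) ⊕ Fin 2 → F) //
      finrank F W = 1 ∧ ∃ v ∈ W, Cfsg.quadFormMinus n F a b v ≠ 0} with hN
  set Z := Nat.card {v : (Fin n ⊕ Fin n) ⊕ Fin 2 → F // hypForm R v = 0} with hZ
  set S := Nat.card {v : (Fin n ⊕ Fin n) ⊕ Fin 2 → F // ¬ hypForm R v = 0} with hS
  have h1' : N * (Fintype.card F - 1) = S := h1
  obtain ⟨c, hc⟩ : ∃ c, Fintype.card F = c + 1 := ⟨Fintype.card F - 1, by omega⟩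
  have hA : 1 ≤ Fintype.card F ^ n := Nat.one_le_pow _ _ (by omega)
  obtain ⟨B, hB⟩ : ∃ B, Fintype.card F ^ n = B + 1 := ⟨Fintype.card F ^ n - 1, by omega⟩
  have hBsub : Fintype.card F ^ n - 1 = B := by omega
  have hcsub : Fintype.card F - 1 = c := by omega
  rw [hcsub] at h1'
  rw [hBsub, pow_succ, hB, hc] at h2
  rw [hB, hc] at h3
  rw [pow_succ, hB, hc]
  have key : N * (c + 1) * c = (B + 1) * ((B + 1) * (c + 1) + 1) * (c + 1) * c := by
    have e1 : (N : ℤ) * c = S := by exact_mod_cast h1'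
    have e2 : (Z : ℤ) * (c + 1) = (B + 1) * (c + 1) + (c + 1) ^ 2 * (B * (B + 1)) := by
      exact_mod_cast h2
    have e3 : (Z : ℤ) + S = (B + 1) * (B + 1) * (c + 1) ^ 2 := by exact_mod_cast h3
    have : ((N : ℤ) * (c + 1)) * c = (B + 1) * ((B + 1) * (c + 1) + 1) * (c + 1) * c := by
      linear_combination (c + 1 : ℤ) * e1 + (c + 1 : ℤ) * e3 - e2
    exact_mod_cast this
  have hc0 : 0 < c := by omega
  have key2 : N * (c + 1) = (B + 1) * ((B + 1) * (c + 1) + 1) * (c + 1) :=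
    Nat.eq_of_mul_eq_mul_right hc0 key
  have key3 : N = (B + 1) * ((B + 1) * (c + 1) + 1) :=
    Nat.eq_of_mul_eq_mul_right (Nat.succ_pos c) key2
  rw [key3] at h
  rcases (Nat.Prime.dvd_mul hr).mp h with h5 | h5
  · exfalso
    apply hrq
    rw [← hB] at h5
    exact hr.dvd_of_dvd_pow h5
  · exact h5

end count

end Cfsg.Agent.Lib.Helper44.Der4
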