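import Mathlib
import Cfsg.Prelude.Def_GeometricClasses
import Cfsg.Agent.Lib.Helper44.Der4
import Cfsg.Agent.Lib.Helper44.Inv10
import Cfsg.Agent.Lib.Helper44.SpinCount
import Cfsg.Agent.Lib.Helper44.QBasis

set_option autoImplicit false

namespace Cfsg.Agent.Lib.Helper44.Der5

open Module QuadraticMap
open Cfsg.Agent.Lib.Helper44.QSpace Cfsg.Agent.Lib.Helper44.OGroup
open Cfsg.Agent.Lib.Helper44.CD2a Cfsg.Agent.Lib.Helper44.Inv1
open Cfsg.Agent.Lib.Helper44.NegPairs Cfsg.Agent.Lib.Helper44.QCount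
open Cfsg.Agent.Lib.Helper44.Der1 Cfsg.Agent.Lib.Helper44.QClass
open Cfsg.Agent.Lib.Helper44.QBasis Cfsg.Agent.Lib.Helper44.SpinCount

section AS

variable {F : Type*} [Field F] [CharP F 2]

/-- The Artin–Schreier map `u ↦ u² + u`. -/
def wp (F : Type*) [Field F] [CharP F 2] : F →+ F where
  toFun u := u ^ 2 + u
  map_zero' := by simp
  map_add' u v := by
    have h2 : (2 : F) = 0 := CharTwo.two_eq_zero
    linear_combination (u * v) * h2

theorem wp_apply (u : F) : wp F u = u ^ 2 + u := rfl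

theorem wp_ker (u : F) : u ∈ (wp F).ker ↔ u = 0 ∨ u = 1 := by
  rw [AddMonoidHom.mem_ker, wp_apply]
  have h2 : (2 : F) = 0 := CharTwo.two_eq_zero
  constructor
  · intro h
    have : u * (u - 1) = 0 := by linear_combination h - u * h2
    rcases mul_eq_zero.mp this with h' | h'
    · exact Or.inl h'
    · exact Or.inr (sub_eq_zero.mp h')
  · rintro (rfl | rfl)
    · simp
    · linear_combination h2

theorem wp_index [Finite F] : (wp F).range.index = 2 := by
  classical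
  have hk : Nat.card (wp F).ker = 2 := by
    have h0 : ((wp F).ker : Set F) = {0, 1} := by
      ext u
      simp only [SetLike.mem_coe, wp_ker, Set.mem_insert_iff, Set.mem_singleton_iff]
    have h1 : Nat.card (wp F).ker = ((wp F).ker : Set F).ncard := Nat.card_coe_set_eq _
    rw [h1, h0, Set.ncard_pair zero_ne_one]
  have h1 := AddSubgroup.card_mul_index (wp F).ker
  have h2 := AddSubgroup.card_mul_index (wp F).range
  have h3 := AddSubgroup.index_ker (wp F)
  rw [hk, h3] at h1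
  have hpos : 0 < Nat.card (wp F).range := Nat.card_pos
  have : Nat.card (wp F).range * (wp F).range.index = Nat.card (wp F).range * 2 := by
    rw [h2, ← h1, mul_comm]
  exact Nat.eq_of_mul_eq_mul_left hpos this

/-- Two non-values of the Artin–Schreier map add up to a value. -/
theorem exists_wp_eq [Finite F] {c₁ c₂ : F} (h1 : ∀ t : F, t ^ 2 + t + c₁ ≠ 0)
    (h2 : ∀ t : F, t ^ 2 + t + c₂ ≠ 0) : ∃ u : F, u ^ 2 + u = c₁ + c₂ := by
  have h20 : (2 : F) = 0 := CharTwo.two_eq_zero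
  have hn : ∀ c : F, (∀ t : F, t ^ 2 + t + c ≠ 0) → c ∉ (wp F).range := by
    rintro c hc ⟨t, ht⟩
    apply hc t
    rw [wp_apply] at ht
    rw [ht]
    linear_combination c * h20
  have := (AddSubgroup.add_mem_iff_of_index_two (wp_index (F := F)) (a := c₁) (b := c₂)).mpr
    (iff_of_false (hn c₁ h1) (hn c₂ h2))
  obtain ⟨u, hu⟩ := this
  exact ⟨u, hu⟩

end AS


section iso

universe u

variable {F : Type*} [Field F] [CharP F 2] [Finite F] {V : Type u} [AddCommGroup V] [Module F V]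
  [FiniteDimensional F V]

/-- A non-degenerate form with `n` hyperbolic pairs and an orthogonal anisotropic plane is
isometric to the minus-type form (for any admissible choice of the parameters). -/
theorem exists_iso_minus (Q : QuadraticForm F V) {n : ℕ} {a b : F}
    (hab : ∀ z₁ z₂ : F, z₁ ^ 2 + a * z₁ * z₂ + b * z₂ ^ 2 = 0 → z₁ = 0 ∧ z₂ = 0)
    {e f : Fin n → V} {x y : V} {ζ : F} (hH : IsHyp Q e f) (hE : IsEll Q x y ζ)
    (horth : ∀ i, polar Q (e i) x = 0 ∧ polar Q (e i) y = 0 ∧ polar Q (f i) x = 0 ∧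
      polar Q (f i) y = 0)
    (hfin : finrank F V = 2 * (n + 1)) :
    ∃ Ψ : V ≃ₗ[F] ((Fin n ⊕ Fin n) ⊕ Fin 2 → F), ∀ v, minusQ n F a b (Ψ v) = Q v := by
  have h2 : (2 : F) = 0 := CharTwo.two_eq_zero
  have ha : a ≠ 0 := Inv10.aniso_ne_zero hab
  obtain ⟨hx, hxy, hy, hζ⟩ := hE
  have hb' : ∀ t : F, t ^ 2 + t + b / a ^ 2 ≠ 0 := by
    intro t ht
    have := hab (t * a) 1 (by
      field_simp at ht
      linear_combination ht)
    exact one_ne_zero this.2
  obtain ⟨u, hu⟩ := exists_wp_eq hζ hb'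
  set y' := (u * a) • x + a • y with hy'
  have hxx : polar Q x x = 0 := polar_self_two Q x
  have hxy' : polar Q x y' = a := by
    rw [hy', polar_add_right, polar_smul_r, polar_smul_r, hxx, hxy]
    ring
  have hQy' : Q y' = b := by
    rw [hy', q_add, q_smul, q_smul, polar_smul_l, polar_smul_r, hx, hxy, hy]
    field_simp at hu
    linear_combination hu + (a ^ 2 * ζ) * h2
  set r : Fin 2 → V := ![x, y'] with hr
  have hqr : ∀ c : Fin 2 → F, Q (∑ t, c t • r t) = c 0 ^ 2 + a * c 0 * c 1 + b * c 1 ^ 2 := by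
    intro c
    rw [Fin.sum_univ_two, hr]
    simp only [Matrix.cons_val_zero, Matrix.cons_val_one]
    rw [q_add, q_smul, q_smul, polar_smul_l, polar_smul_r, hx, hxy', hQy']
    ring
  have hli : LinearIndependent F r := by
    rw [Fintype.linearIndependent_iff]
    intro c hc
    have := hqr c
    rw [hc, QuadraticMap.map_zero] at this
    obtain ⟨c0, c1⟩ := hab _ _ this.symm
    intro i
    fin_cases i
    · exact c0
    · exact c1
  have her : ∀ i t, polar Q (e i) (r t) = 0 := by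
    intro i t
    obtain ⟨o1, o2, o3, o4⟩ := horth i
    fin_cases t
    · exact o1
    · show polar Q (e i) y' = 0
      rw [hy', polar_add_right, polar_smul_r, polar_smul_r, o1, o2]
      ring
  have hfr : ∀ i t, polar Q (f i) (r t) = 0 := by
    intro i t
    obtain ⟨o1, o2, o3, o4⟩ := horth i
    fin_cases t
    · exact o3
    · show polar Q (f i) y' = 0
      rw [hy', polar_add_right, polar_smul_r, polar_smul_r, o3, o4]
      ring
  obtain ⟨bs, hbs⟩ := exists_hyp_basis hH r hli her hfr (by rw [Fintype.card_fin, hfin]; ring)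
  refine ⟨bs.equivFun, fun v => ?_⟩
  rw [q_eq_hyp hH r her hfr bs hbs v, hqr]
  rfl

end iso


section ell

variable {F : Type*} [Field F] {K : Type*} [Field K] [Algebra F K]

/-- The bilinear map `(α, β) ↦ Tr(θ α σ(β))`. -/
noncomputable def trB (σ : K ≃ₐ[F] K) (θ : K) : K →ₗ[F] K →ₗ[F] F :=
  (Algebra.traceForm F K).compl₁₂ (LinearMap.mulLeft F θ) σ.toLinearMap

theorem trB_apply (σ : K ≃ₐ[F] K) (θ α β : K) :
    trB σ θ α β = Algebra.trace F K (θ * α * σ β) := rfl

/-- The quadratic form `α ↦ Tr(θ α σ(α))`. -/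
noncomputable def trQ (σ : K ≃ₐ[F] K) (θ : K) : QuadraticForm F K :=
  LinearMap.BilinMap.toQuadraticMap (trB σ θ)

theorem trQ_apply (σ : K ≃ₐ[F] K) (θ α : K) :
    trQ σ θ α = Algebra.trace F K (θ * α * σ α) := rfl

theorem polar_trQ {σ : K ≃ₐ[F] K} {θ : K} (hσ : ∀ x, σ (σ x) = x) (hθ : θ + σ θ = 1)
    (α β : K) : polar (trQ σ θ) α β = Algebra.trace F K (α * σ β) := by
  unfold trQ
  rw [LinearMap.BilinMap.polar_toQuadraticMap, trB_apply, trB_apply]
  have h1 : Algebra.trace F K (θ * β * σ α) = Algebra.trace F K (σ θ * α * σ β) := by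
    rw [← Algebra.trace_eq_of_algEquiv σ (θ * β * σ α)]
    congr 1
    rw [map_mul σ, map_mul σ, hσ]
    ring
  rw [h1, ← map_add]
  congr 1
  linear_combination (α * σ β) * hθ

theorem sep_trQ [FiniteDimensional F K] [Algebra.IsSeparable F K] {σ : K ≃ₐ[F] K} {θ : K}
    (hσ : ∀ x, σ (σ x) = x) (hθ : θ + σ θ = 1) : Sep (trQ σ θ) := by
  intro α hα
  have hnd := traceForm_nondegenerate F K
  apply hnd.1 α
  intro γ
  have := hα (σ γ)
  rw [polar_trQ hσ hθ, hσ] at this
  exact this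

theorem mulE_mem {σ : K ≃ₐ[F] K} {θ : K} (u : Kˣ) (hu : (u : K) * σ u = 1) :
    Der2.mulE F u ∈ O (trQ σ θ) := by
  intro α
  rw [Der2.mulE_apply, trQ_apply, trQ_apply]
  congr 1
  rw [map_mul σ]
  linear_combination (θ * α * σ α) * hu

theorem mulE_pow (u : Kˣ) (k : ℕ) : Der2.mulE F u ^ k = Der2.mulE F (u ^ k) := by
  induction k with
  | zero =>
    apply LinearEquiv.ext
    intro v
    rw [pow_zero, pow_zero, Der2.mulE_apply, Units.val_one, one_mul]
    rfl
  | succ k ih =>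
    apply LinearEquiv.ext
    intro v
    rw [pow_succ, LinearEquiv.mul_apply, ih, Der2.mulE_apply, Der2.mulE_apply, Der2.mulE_apply,
      pow_succ, Units.val_mul, mul_assoc]

theorem mulE_no_eigen {σ : K ≃ₐ[F] K} (u : Kˣ) (hu : (u : K) * σ u = 1) (huu : u * u ≠ 1)
    (α : K) (hα : α ≠ 0) (μ : F) : Der2.mulE F u α ≠ μ • α := by
  intro h
  rw [Der2.mulE_apply, Algebra.smul_def] at h
  have e : (u : K) = algebraMap F K μ := mul_right_cancel₀ hα h
  apply huu
  apply Units.ext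
  rw [Units.val_mul, Units.val_one]
  nth_rewrite 2 [e]
  rw [← AlgEquiv.commutes σ μ, ← e]
  exact hu

end ell


section count

universe u

variable {F : Type*} [Field F] [Fintype F] {V : Type u} [AddCommGroup V] [Module F V]
  [FiniteDimensional F V]

/-- A hyperbolic space of dimension `2k` admits no isometry of odd prime order `r` dividing
`q^k + 1` acting freely on the non-zero vectors. -/
theorem not_hyp_of_free (Q : QuadraticForm F V) {k : ℕ} {e f : Fin k → V} (hH : IsHyp Q e f)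
    (hfin : finrank F V = 2 * k) {r : ℕ} [Fact r.Prime] (hodd : r ≠ 2)
    (hdvd : r ∣ Fintype.card F ^ k + 1) (g : V ≃ₗ[F] V) (hg : g ∈ O Q) (hgr : g ^ r = 1)
    (hfree : ∀ v, v ≠ 0 → g v ≠ v) : False := by
  classical
  have hr : r.Prime := Fact.out
  have : Finite V := Module.finite_of_finite F
  have : Fintype V := Fintype.ofFinite V
  set r0 : Fin 0 → V := fun i => i.elim0 with hr0
  have hli : LinearIndependent F r0 := linearIndependent_empty_type
  obtain ⟨bs, hbs⟩ := exists_hyp_basis hH r0 hli (fun i t => t.elim0) (fun i t => t.elim0)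
    (by rw [Fintype.card_fin, hfin]; ring)
  have hc := card_level_mul hH r0 (fun i t => t.elim0) (fun i t => t.elim0) bs hbs (0 : F)
  have h1 : Nat.card {w : Fin 0 → F // Q (∑ t, w t • r0 t) = 0} = 1 := by
    rw [Nat.card_eq_one_iff_unique]
    refine ⟨⟨?_⟩, ⟨⟨0, by simp⟩⟩⟩
    rintro ⟨w, hw⟩ ⟨w', hw'⟩
    apply Subtype.ext
    funext i
    exact i.elim0
  rw [h1, one_mul, Fintype.card_fin, pow_zero, one_mul] at hc
  -- the permutation
  set π₀ : Equiv.Perm V := MulAction.toPermHom (V ≃ₗ[F] V) V g with hπ₀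
  have hπ₀a : ∀ v, π₀ v = g v := fun v => rfl
  have hπ₀r : π₀ ^ r = 1 := by rw [hπ₀, ← map_pow, hgr, map_one]
  have hp : ∀ v, (Q (π₀ v) = 0 ∧ π₀ v ≠ 0) ↔ (Q v = 0 ∧ v ≠ 0) := by
    intro v
    rw [hπ₀a, hg v]
    constructor
    · rintro ⟨h1, h2⟩
      refine ⟨h1, ?_⟩
      rintro rfl
      exact h2 (map_zero g)
    · rintro ⟨h1, h2⟩
      refine ⟨h1, ?_⟩
      intro h0
      apply h2
      rw [← map_zero g] at h0
      exact g.injective h0
  set π : Equiv.Perm {v : V // Q v = 0 ∧ v ≠ 0} := π₀.subtypePerm hp with hπ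
  have hπr : π ^ r ^ 1 = 1 := by
    rw [pow_one, hπ, Equiv.Perm.subtypePerm_pow]
    simp only [hπ₀r]
    rfl
  have hdS : r ∣ Fintype.card {v : V // Q v = 0 ∧ v ≠ 0} := by
    by_contra hnd
    obtain ⟨⟨v, hv1, hv2⟩, hfix⟩ := Equiv.Perm.exists_fixed_point_of_prime hnd hπr
    apply hfree v hv2
    have := congrArg Subtype.val hfix
    exact this
  have hZ : Nat.card {v : V // Q v = 0} = 1 + Nat.card {v : V // Q v = 0 ∧ v ≠ 0} := by
    have e := Nat.card_congr
      (Equiv.sumCompl (fun x : {v : V // Q v = 0} => (x : V) = 0))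
    rw [Nat.card_sum] at e
    rw [← e]
    congr 1
    · rw [Nat.card_eq_one_iff_unique]
      refine ⟨⟨?_⟩, ⟨⟨⟨0, QuadraticMap.map_zero Q⟩, rfl⟩⟩⟩
      rintro ⟨⟨w, hw⟩, hw0⟩ ⟨⟨w', hw'⟩, hw0'⟩
      apply Subtype.ext
      apply Subtype.ext
      exact hw0.trans hw0'.symm
    · exact Nat.card_congr
        (Equiv.subtypeSubtypeEquivSubtypeInter (fun v : V => Q v = 0) (fun v : V => ¬ v = 0))
  rw [hZ, Nat.card_eq_fintype_card] at hc
  set s := Fintype.card {v : V // Q v = 0 ∧ v ≠ 0} with hs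
  have hq1 : 1 < Fintype.card F := Fintype.one_lt_card
  obtain ⟨c, hcq⟩ : ∃ c, Fintype.card F = c + 1 := ⟨Fintype.card F - 1, by omega⟩
  have hA : 1 ≤ Fintype.card F ^ k := Nat.one_le_pow _ _ (by omega)
  obtain ⟨B, hB⟩ : ∃ B, Fintype.card F ^ k = B + 1 := ⟨Fintype.card F ^ k - 1, by omega⟩
  have hBsub : Fintype.card F ^ k - 1 = B := by omega
  rw [hBsub, pow_succ, hB, hcq] at hc
  rw [hB] at hdvd
  have key : s * (c + 1) = B * (c + B + 2) := by
    have e1 : ((1 : ℤ) + s) * (c + 1) = (B + 1) * (c + 1) + B * (B + 1) := by exact_mod_cast hc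
    have : (s : ℤ) * (c + 1) = B * (c + B + 2) := by linear_combination e1
    exact_mod_cast this
  have hd2 : r ∣ B * (c + B + 2) := by
    rw [← key]
    exact Dvd.dvd.mul_right hdS _
  have hB0 : r ∣ B → False := by
    intro hB'
    have h2 : r ∣ 2 := (Nat.dvd_add_right hB').mp hdvd
    exact hodd ((Nat.prime_dvd_prime_iff_eq hr Nat.prime_two).mp h2)
  rcases (Nat.Prime.dvd_mul hr).mp hd2 with h | h
  · exact hB0 h
  · have hc' : r ∣ c := by
      have : c + B + 2 = c + (B + 1 + 1) := by ring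
      rw [this] at h
      exact (Nat.dvd_add_left hdvd).mp h
    apply hB0
    have h3 := Nat.sub_dvd_pow_sub_pow (Fintype.card F) 1 k
    rw [one_pow, hBsub] at h3
    have h4 : Fintype.card F - 1 = c := by omega
    rw [h4] at h3
    exact dvd_trans hc' h3

end count


section field

variable (F : Type*) [Field F] [Fintype F] [CharP F 2] (d : ℕ) [NeZero (2 * d)]

/-- The involutory automorphism `x ↦ x^(q^d)` of the extension of degree `2d`. -/
noncomputable def sig :
    FiniteField.Extension F 2 (2 * d) ≃ₐ[F] FiniteField.Extension F 2 (2 * d) :=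
  FiniteField.Extension.frob F 2 (2 * d) ^ d

theorem sig_apply (x : FiniteField.Extension F 2 (2 * d)) :
    sig F d x = x ^ (Fintype.card F ^ d) := by
  unfold sig
  rw [FiniteField.Extension.frob_iterate_apply, Nat.card_eq_fintype_card]

theorem sig_sig (x : FiniteField.Extension F 2 (2 * d)) : sig F d (sig F d x) = x := by
  rw [sig_apply, sig_apply, ← pow_mul, ← pow_add]
  have h1 : Fintype.card F ^ (d + d) = Nat.card (FiniteField.Extension F 2 (2 * d)) := by
    rw [FiniteField.natCard_extension, Nat.card_eq_fintype_card, two_mul]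
  rw [h1]
  have := Fintype.ofFinite (FiniteField.Extension F 2 (2 * d))
  rw [Nat.card_eq_fintype_card]
  exact FiniteField.pow_card x

theorem card_units_ext : Nat.card (FiniteField.Extension F 2 (2 * d))ˣ
    = (Fintype.card F ^ d - 1) * (Fintype.card F ^ d + 1) := by
  rw [Nat.card_units, FiniteField.natCard_extension, Nat.card_eq_fintype_card, two_mul, pow_add]
  have hA : 1 ≤ Fintype.card F ^ d := Nat.one_le_pow _ _ Fintype.card_pos
  obtain ⟨B, hB⟩ : ∃ B, Fintype.card F ^ d = B + 1 := ⟨Fintype.card F ^ d - 1, by omega⟩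
  rw [hB]
  have : (B + 1) * (B + 1) = B * (B + 1 + 1) + 1 := by ring
  rw [this]
  simp

theorem exists_theta : ∃ θ : FiniteField.Extension F 2 (2 * d), θ + sig F d θ = 1 := by
  have hd : d ≠ 0 := by
    rintro rfl
    exact NeZero.ne (2 * 0) rfl
  have := Fintype.ofFinite (FiniteField.Extension F 2 (2 * d))
  have hch : CharP (FiniteField.Extension F 2 (2 * d)) 2 :=
    charP_of_injective_algebraMap (algebraMap F (FiniteField.Extension F 2 (2 * d))).injective 2
  obtain ⟨g, hg⟩ := IsCyclic.exists_ofOrder_eq_natCard (α := (FiniteField.Extension F 2 (2 * d))ˣ)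
  by_cases h : (g : FiniteField.Extension F 2 (2 * d)) + sig F d g = 0
  · exfalso
    have h2 : sig F d (g : FiniteField.Extension F 2 (2 * d)) = g := by
      have := eq_neg_of_add_eq_zero_right h
      rw [this, CharTwo.neg_eq]
    rw [sig_apply] at h2
    have hq1 : 1 < Fintype.card F := Fintype.one_lt_card
    have hA : 1 < Fintype.card F ^ d := Nat.one_lt_pow hd hq1
    obtain ⟨B, hB⟩ : ∃ B, Fintype.card F ^ d = B + 1 := ⟨Fintype.card F ^ d - 1, by omega⟩
    have h3 : g ^ B = 1 := by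
      apply Units.ext
      rw [Units.val_pow_eq_pow_val, Units.val_one]
      rw [hB, pow_succ] at h2
      have : (g : FiniteField.Extension F 2 (2 * d)) ^ B * g = 1 * g := by rw [h2, one_mul]
      exact mul_right_cancel₀ g.ne_zero this
    have h4 := orderOf_dvd_of_pow_eq_one h3
    rw [hg, card_units_ext, hB] at h4
    have hB0 : 0 < B := by omega
    have h5 := Nat.le_of_dvd hB0 h4
    simp only [Nat.add_sub_cancel] at h5
    nlinarith
  · set c := (g : FiniteField.Extension F 2 (2 * d)) + sig F d g with hc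
    have hc' : sig F d c = c := by rw [hc, map_add, sig_sig, add_comm]
    refine ⟨g / c, ?_⟩
    rw [map_div₀, hc', ← add_div, div_self h]

theorem exists_zeta {r : ℕ} [Fact r.Prime] (hdvd : r ∣ Fintype.card F ^ d + 1) :
    ∃ ζ : (FiniteField.Extension F 2 (2 * d))ˣ, orderOf ζ = r ∧
      (ζ : FiniteField.Extension F 2 (2 * d)) * sig F d ζ = 1 := by
  have hdvd' : r ∣ Nat.card (FiniteField.Extension F 2 (2 * d))ˣ := by
    rw [card_units_ext]
    exact Dvd.dvd.mul_left hdvd _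
  obtain ⟨ζ, hζ⟩ := exists_prime_orderOf_dvd_card' r hdvd'
  refine ⟨ζ, hζ, ?_⟩
  rw [sig_apply, ← pow_succ']
  obtain ⟨m, hm⟩ := hdvd
  rw [hm, pow_mul, ← Units.val_pow_eq_pow_val, ← hζ, pow_orderOf_eq_one, Units.val_one, one_pow]

end field

section conj

variable {F : Type*} [Field F] {V W : Type*} [AddCommGroup V] [Module F V] [AddCommGroup W]
  [Module F W]

/-- Transport of a linear automorphism along a linear equivalence. -/
def conjE (Ψ : V ≃ₗ[F] W) (g : V ≃ₗ[F] V) : W ≃ₗ[F] W := Ψ.symm.trans (g.trans Ψ)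

theorem conjE_apply (Ψ : V ≃ₗ[F] W) (g : V ≃ₗ[F] V) (w : W) :
    conjE Ψ g w = Ψ (g (Ψ.symm w)) := rfl

theorem conjE_pow (Ψ : V ≃ₗ[F] W) (g : V ≃ₗ[F] V) (k : ℕ) :
    conjE Ψ g ^ k = conjE Ψ (g ^ k) := by
  induction k with
  | zero =>
    apply LinearEquiv.ext
    intro w
    rw [pow_zero, pow_zero, conjE_apply]
    show w = Ψ (Ψ.symm w)
    rw [LinearEquiv.apply_symm_apply]
  | succ k ih =>
    apply LinearEquiv.ext
    intro w
    rw [pow_succ, LinearEquiv.mul_apply, ih, conjE_apply, conjE_apply, conjE_apply,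
      LinearEquiv.symm_apply_apply, pow_succ, LinearEquiv.mul_apply]

end conj

section main

variable {F : Type*} [Field F] [Fintype F] [CharP F 2]

/-- For an odd prime `r` dividing `q^(n+1) + 1` there is an isometry of order `r` of the
minus-type form without eigenvectors. -/
theorem exists_singer_minus {n : ℕ} {a b : F}
    (hab : ∀ z₁ z₂ : F, z₁ ^ 2 + a * z₁ * z₂ + b * z₂ ^ 2 = 0 → z₁ = 0 ∧ z₂ = 0) {r : ℕ}
    [Fact r.Prime] (hodd : r ≠ 2) (hdvd : r ∣ Fintype.card F ^ (n + 1) + 1) :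
    ∃ X : ((Fin n ⊕ Fin n) ⊕ Fin 2 → F) ≃ₗ[F] ((Fin n ⊕ Fin n) ⊕ Fin 2 → F),
      X ∈ O (minusQ n F a b) ∧ X ^ r = 1 ∧ ∀ v, v ≠ 0 → ∀ μ : F, X v ≠ μ • v := by
  classical
  have : NeZero (2 * (n + 1)) := ⟨by omega⟩
  have hfin : finrank F (FiniteField.Extension F 2 (2 * (n + 1))) = 2 * (n + 1) :=
    FiniteField.finrank_extension F 2 _
  obtain ⟨θ, hθ⟩ := exists_theta F (n + 1)
  obtain ⟨ζ, hζ, hζσ⟩ := exists_zeta F (n + 1) hdvd
  have hσ := sig_sig F (n + 1)
  set Q' := trQ (sig F (n + 1)) θ with hQ'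
  have hS' : Sep Q' := sep_trQ hσ hθ
  have hζ2 : ζ * ζ ≠ 1 := by
    intro h
    have h2 : orderOf ζ ∣ 2 := orderOf_dvd_of_pow_eq_one (by rw [pow_two]; exact h)
    rw [hζ] at h2
    exact hodd ((Nat.prime_dvd_prime_iff_eq Fact.out Nat.prime_two).mp h2)
  have hX₀ : Der2.mulE F ζ ∈ O Q' := mulE_mem ζ hζσ
  have hX₀r : Der2.mulE F ζ ^ r = 1 := by
    rw [mulE_pow, ← hζ, pow_orderOf_eq_one]
    have := mulE_pow (F := F) ζ 0
    rw [pow_zero, pow_zero] at this
    exact this.symm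
  have hne : ∀ α, α ≠ 0 → ∀ μ : F, Der2.mulE F ζ α ≠ μ • α :=
    fun α hα μ => mulE_no_eigen ζ hζσ hζ2 α hα μ
  rcases exists_hyp_even n _ Q' hfin hS' with ⟨e, f, hH⟩ | ⟨e, f, x, y, ζ', hH, hE, horth⟩
  · exfalso
    exact not_hyp_of_free Q' hH hfin hodd hdvd _ hX₀ hX₀r
      (fun v hv h => hne v hv 1 (by rw [one_smul]; exact h))
  · obtain ⟨Ψ, hΨ⟩ := exists_iso_minus Q' hab hH hE horth hfin
    refine ⟨conjE Ψ (Der2.mulE F ζ), ?_, ?_, ?_⟩
    · intro v
      rw [conjE_apply, hΨ, hX₀, ← hΨ, LinearEquiv.apply_symm_apply]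
    · rw [conjE_pow, hX₀r]
      have := conjE_pow Ψ (Der2.mulE F ζ) 0
      rw [pow_zero, pow_zero] at this
      exact this.symm
    · intro v hv μ h
      have hv' : Ψ.symm v ≠ 0 := by
        intro h0
        apply hv
        rw [← Ψ.apply_symm_apply v, h0, map_zero]
      apply hne (Ψ.symm v) hv' μ
      rw [conjE_apply] at h
      have := congrArg Ψ.symm h
      rw [LinearEquiv.symm_apply_apply, map_smul] at this
      exact this

open Matrix Cfsg.Agent.Lib.Helper44.Inv7 Cfsg.Agent.Lib.Helper44.Der3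
  Cfsg.Agent.Lib.Helper44.OMat Cfsg.Agent.Lib.Helper44.Omega2

/-- Elements of prime order of `Ω⁻_{2n+2}(q)`, `q` even, fixing no non-singular point. -/
theorem minus_points (n : ℕ) (a b : F)
    (hab : ∀ z₁ z₂ : F, z₁ ^ 2 + a * z₁ * z₂ + b * z₂ ^ 2 = 0 → z₁ = 0 ∧ z₂ = 0) (r : ℕ)
    [Fact r.Prime]
    (hrΩ : r ∣ Nat.card {W : Submodule F ((Fin n ⊕ Fin n) ⊕ Fin 2 → F) //
      finrank F ↥W = 1 ∧ ∃ v ∈ W, Cfsg.quadFormMinus n F a b v ≠ 0}) :
    (∀ x : GL ((Fin n ⊕ Fin n) ⊕ Fin 2) F,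
      x ∈ Cfsg.Geo.omegaGL (Cfsg.quadFormMinus n F a b) →
      (∃ z : F, ((x ^ r : GL ((Fin n ⊕ Fin n) ⊕ Fin 2) F) :
          Matrix ((Fin n ⊕ Fin n) ⊕ Fin 2) ((Fin n ⊕ Fin n) ⊕ Fin 2) F)
        = z • (1 : Matrix ((Fin n ⊕ Fin n) ⊕ Fin 2) ((Fin n ⊕ Fin n) ⊕ Fin 2) F)) →
      (∀ z : F, (x : Matrix ((Fin n ⊕ Fin n) ⊕ Fin 2) ((Fin n ⊕ Fin n) ⊕ Fin 2) F)
        ≠ z • (1 : Matrix ((Fin n ⊕ Fin n) ⊕ Fin 2) ((Fin n ⊕ Fin n) ⊕ Fin 2) F)) →
      ∃ W : Submodule F ((Fin n ⊕ Fin n) ⊕ Fin 2 → F),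
        (finrank F ↥W = 1 ∧ ∃ v ∈ W, Cfsg.quadFormMinus n F a b v ≠ 0) ∧
        W.map (Matrix.toLin'
          (x : Matrix ((Fin n ⊕ Fin n) ⊕ Fin 2) ((Fin n ⊕ Fin n) ⊕ Fin 2) F)) ≤ W) ↔
      r = 2 := by
  classical
  have hS := Inv6.sep_minusQ_two (F := F) n a b hab
  have hfr : finrank F ((Fin n ⊕ Fin n) ⊕ Fin 2 → F) = 2 * (n + 1) := by
    rw [Module.finrank_fintype_fun_eq_card]
    simp only [Fintype.card_sum, Fintype.card_fin]
    omega
  have hG : Good (minusQ n F a b) := Inv8.good_minusQ hS hab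
  obtain ⟨v₀, hv₀⟩ := exists_q_eq hS (by rw [hfr]; omega) (1 : F)
  have hv₀' : minusQ n F a b v₀ ≠ 0 := by
    rw [hv₀]
    exact one_ne_zero
  constructor
  · intro H
    by_contra hodd
    have hrq : ¬ r ∣ Fintype.card F := by
      intro h
      obtain ⟨k, -, hk⟩ := FiniteField.card F 2
      rw [hk] at h
      have := (Fact.out : r.Prime).dvd_of_dvd_pow h
      exact hodd ((Nat.prime_dvd_prime_iff_eq (Fact.out : r.Prime) Nat.prime_two).mp this)
    have hdvd := Der4.dvd_of_dvd_points_minus hab (Fact.out : r.Prime) hrq hrΩ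
    obtain ⟨X, hXO, hXr, hXe⟩ := exists_singer_minus hab hodd hdvd
    have hXc : (⟨X, hXO⟩ : O (minusQ n F a b)) ∈ commutator (O (minusQ n F a b)) :=
      mem_comm_of_odd_pow hS hG _ ((Fact.out : r.Prime).odd_of_ne_two hodd) (Subtype.ext hXr)
    obtain ⟨x, hx1, hx2, hx3⟩ := exists_omegaGL (minusQ n F a b) ⟨X, hXO⟩ hXc
    obtain ⟨W, ⟨hW1, v, hvW, hv⟩, hW2⟩ := H x hx1
      ⟨1, by rw [hx3 r (Subtype.ext hXr), one_smul]; rfl⟩
      (by
        intro z hz
        apply hXe v₀ (ne_zero_of_q_ne_zero hv₀') z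
        have := hx2 v₀
        rw [hz, Matrix.smul_mulVec, Matrix.one_mulVec] at this
        exact this.symm)
    have hv0 : v ≠ 0 := ne_zero_of_q_ne_zero (Q := minusQ n F a b) hv
    have hmem : (x : Matrix ((Fin n ⊕ Fin n) ⊕ Fin 2) ((Fin n ⊕ Fin n) ⊕ Fin 2) F) *ᵥ v ∈ W := by
      apply hW2
      exact ⟨v, hvW, Matrix.toLin'_apply _ _⟩
    rw [eq_span_of_finrank_one hW1 hvW hv0, Submodule.mem_span_singleton] at hmem
    obtain ⟨μ, hμ⟩ := hmem
    apply hXe v hv0 μ
    rw [← hx2 v, hμ]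
  · rintro hr2 x hx ⟨z, hz⟩ hns
    obtain ⟨y, hyΩ, rfl⟩ := (mem_omegaGL_iff (minusQ n F a b) x).mp hx
    set T : ((Fin n ⊕ Fin n) ⊕ Fin 2 → F) ≃ₗ[F] ((Fin n ⊕ Fin n) ⊕ Fin 2 → F) :=
      (isoEquiv (minusQ n F a b) y : ↥(O (minusQ n F a b))).1 with hT
    have hTO : T ∈ O (minusQ n F a b) := (isoEquiv (minusQ n F a b) y).2
    have hTa : ∀ v, T v = ((y : GL ((Fin n ⊕ Fin n) ⊕ Fin 2) F) : Matrix _ _ F) *ᵥ v :=
      fun v => rfl
    have hTT' : ∀ v, T (T v) = z • v := by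
      intro v
      rw [hTa, hTa, Matrix.mulVec_mulVec]
      have : ((y : GL ((Fin n ⊕ Fin n) ⊕ Fin 2) F) :
            Matrix ((Fin n ⊕ Fin n) ⊕ Fin 2) ((Fin n ⊕ Fin n) ⊕ Fin 2) F)
          * ((y : GL ((Fin n ⊕ Fin n) ⊕ Fin 2) F) :
            Matrix ((Fin n ⊕ Fin n) ⊕ Fin 2) ((Fin n ⊕ Fin n) ⊕ Fin 2) F)
          = z • (1 : Matrix ((Fin n ⊕ Fin n) ⊕ Fin 2) ((Fin n ⊕ Fin n) ⊕ Fin 2) F) := by
        rw [← hz, hr2, pow_two]
        rfl
      rw [this, Matrix.smul_mulVec, Matrix.one_mulVec]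
    have hz1 : z = 1 := by
      apply eq_one_of_sq
      have h1 : minusQ n F a b (T (T v₀)) = minusQ n F a b v₀ := by rw [hTO, hTO]
      rw [hTT', q_smul, hv₀, mul_one] at h1
      exact h1
    have hTT : T * T = 1 := by
      apply LinearEquiv.ext
      intro v
      rw [LinearEquiv.mul_apply, hTT', hz1, one_smul]
      rfl
    have hmax : ¬ (IsA (minusQ n F a b) T ∧
        2 * rk T = finrank F ((Fin n ⊕ Fin n) ⊕ Fin 2 → F)) := by
      rintro ⟨hA, hrk⟩
      rw [hfr] at hrk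
      have h1 : finrank F (LinearMap.range (nil T)) ≤ n :=
        Inv8.minus_ts_le hS hab (W := LinearMap.range (nil T)) (by
          rintro _ ⟨u, rfl⟩
          exact hA u)
      unfold rk at hrk
      omega
    obtain ⟨v, hv, hTv⟩ := exists_nonsing_fixed hS hTT hmax
    have hv0 : v ≠ 0 := ne_zero_of_q_ne_zero hv
    refine ⟨F ∙ v, ⟨finrank_span_singleton hv0, v, Submodule.mem_span_singleton_self v, hv⟩, ?_⟩
    rw [Submodule.map_span, Set.image_singleton, Submodule.span_singleton_le_iff_mem,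
      Matrix.toLin'_apply, ← hTa, hTv]
    exact Submodule.mem_span_singleton_self v

end main

end Cfsg.Agent.Lib.Helper44.Der5
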