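import Mathlib
import Cfsg.Prelude.Def_Classical
import Cfsg.Prelude.Def_GeometricClasses
import Cfsg.Agent.Lib.Helper37.HypStmt
import Cfsg.Agent.Lib.Helper44.TPStmt

/-!
# S5988 (call by helper44): statement pieces

`POmega^+_(2d)(q)`, ALL `q`, elements of prime order `r` and ELLIPTIC `m`-spaces (`m` even,
`2 ≤ m < d`): nondegenerate, not of plus type.  Plus-form twin of helper94's S5993 call
(`Cfsg.Agent.Lib.Helper94.EllStmt`: `EllSub InvolE FixCong ATrans ACauchy ACard UCard NDivE B1E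
B2E`), built on the S5973 call: `J d = Fin d ⊕ Fin d`, `Fx`, `Fm`, `NDeg`, `Stab`, `TSub`, `Plus`
and ALL Props of `Cfsg.Agent.Lib.Helper44.TPStmt` are proved, every characteristic: the theorems
`Cfsg.Agent.S5973.hTop hFixND hInvDim hPerp hRImg hTsHalf hTsIn hOrthSum hSubPerp hCancel
hTypeEven hHalfOdd hInvSub hFxType hBlocksK hOddOmega hEltDim hProj ...` (file
`Cfsg/Agent/S5973.lean`).  A piece may take any `TPStmt` Prop and any other Prop of this file as a
hypothesis of `main` (helper44 wires them); say the exact signature when you land.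

`Cfsg.Geo.IsPlusTypeOn (Cfsg.quadFormPlus d F) W` and `TPStmt.Plus d F W` unfold to the same
statement (`Iff.rfl`).  `cc i = if Even i then i else 2 * i` (`Helper37.HypStmt.cc`).

Model (checked numerically against the statement for `q ≤ 13`, `d ≤ 12`, `r < 200`): for an
isometry `x` of odd prime order `r ≠ p`, `i` the order of `q` mod `r`, `c = cc i`,
`f0 = finrank (Fx x) = 2 d - c b`: the invariant nondegenerate subspaces are `W₁ ⊥ W₂`, `W₁ ≤ Fx`,
`W₂` without fixed vectors, `finrank W₂ = c s`, `s ≤ b`; `W₂` is of plus type iff `i` is odd or `s`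
is even (HalfOdd / TypeEven), `Fx` iff `i` is odd or `b` is even (FxType).  So `x` fixes an
elliptic `m`-space iff some `s ≤ b` with `c s ≤ m`, `f = m - c s ≤ f0` has `0 < f < f0`, or
(`f = 0`, `i` even, `s` odd), or (`f = f0 > 0`, `i` even, `b + s` odd).
-/

set_option autoImplicit false

universe u

open scoped Matrix

namespace Cfsg.Agent.Lib.Helper44.EPStmt

open Cfsg.Agent.Lib.Helper37.HypStmt (cc)
open Cfsg.Agent.Lib.Helper44.TPStmt (J Fx Fm NDeg Stab TSub Plus)

/-- `W` is an elliptic `m`-space -/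
def Ell (d : ℕ) (F : Type u) [Field F] (m : ℕ) (W : Submodule F (J d → F)) : Prop :=
  Module.finrank F ↥W = m ∧
    Cfsg.Geo.IsNondegenerateOn (QuadraticMap.polar (Cfsg.quadFormPlus d F)) W ∧
    ¬ Cfsg.Geo.IsPlusTypeOn (Cfsg.quadFormPlus d F) W

/-- `x` fixes an elliptic `m`-space -/
def FixEll (d m : ℕ) (F : Type u) [Field F] (x : Matrix (J d) (J d) F) : Prop :=
  ∃ W : Submodule F (J d → F), Ell d F m W ∧ Stab x W

/-! ## Types -/

/-- TYPEMUL (main : Cancel → TypeMul; MEDIUM): types multiply.  Both plus: the sum of the two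
totally singular halves is totally singular (`Q (u + v) = Q u + Q v + B(u, v)`), finrank adds
(`A ⊓ B = ⊥`, OrthSum).  Neither plus: helper11's landed abstract core
`Cfsg.Agent.Lib.Helper11.TMTWOMINUSG.two_minus_all` / `Helper11.TM2TWOMINUS.two_minus_abs` (any
finite field, any quadratic form: `A ⊥ B`, `Sep` on both, finrank `2e`, `2f`: a t.s. `e`-space in
`A`, or a t.s. `f`-space in `B`, or a t.s. `(e+f)`-space in `A ⊔ B`); also
`Helper44.TwoMinusG.sub_cases`, `ts_span`.  `Plus (A ⊔ B)` and `Plus A` give `Plus B`: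
`TPStmt.Cancel`; and `Plus B` gives `Plus A` by Cancel with the roles swapped (`sup_comm`). -/
def TypeMul : Prop :=
  ∀ (F : Type u) [Field F] [Fintype F] (d : ℕ) (A B : Submodule F (J d → F)),
    NDeg d F A → NDeg d F B →
    (∀ u ∈ A, ∀ v ∈ B, QuadraticMap.polar (Cfsg.quadFormPlus d F) u v = 0) →
    Even (Module.finrank F ↥A) → Even (Module.finrank F ↥B) →
    (Plus d F (A ⊔ B) ↔ (Plus d F A ↔ Plus d F B))

/-- ELLSUB (HARD for `q` even, second seats; `q` odd = port of `Helper8.EllELLSUB` to the plus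
form; you may put `TypeMul`, `OrthSum`, `TsIn`, `SubPerp` in front): completing a nondegenerate
even-dimensional `E` (of either type, `E = ⊥` allowed) to an ELLIPTIC `m`-space inside `E ⊥ Y`.
Need `W₁ ≤ Y` nondegenerate of finrank `f = m - finrank E` (even, `≥ 2`) with `Plus W₁ ↔ ¬ Plus E`
(TypeMul).  `finrank Y ≥ f + 1`.  Classification of `Y` (`QClass.exists_hyp_even`,
`exists_hyp_odd` on the restricted form, as in `Helper44.TwoMinusG.sub_cases`): `k` hyperbolic
pairs plus (nothing | a nonsingular vector | an elliptic plane `x, y`).  Plus type `W₁`: `f/2`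
hyperbolic pairs (`f/2 ≤ k` as `finrank Y ≥ f + 1`).  Minus type `W₁`: `f/2 - 1` pairs and an
anisotropic plane: the elliptic plane of `Y`; or inside a pair and the nonsingular vector `w`
(`q` odd: `span {e + c f, w}` for a suitable `c`); or inside two further pairs
(`x = e₁ + f₁`, `y = f₁ + e₂ + ζ f₂`, `t^2 + t + ζ` without root: `Q (α x + β y) =
α^2 + α β + ζ β^2`).  `q` odd alternative: discriminants as in `Helper8.EllELLSUB`. -/
def EllSub : Prop :=
  ∀ (F : Type u) [Field F] [Fintype F] (d m : ℕ), Even m →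
    ∀ E Y : Submodule F (J d → F), NDeg d F E → NDeg d F Y →
    (∀ u ∈ E, ∀ v ∈ Y, QuadraticMap.polar (Cfsg.quadFormPlus d F) u v = 0) →
    Even (Module.finrank F ↥E) → Module.finrank F ↥E < m →
    m - Module.finrank F ↥E < Module.finrank F ↥Y →
    ∃ W₁ : Submodule F (J d → F), W₁ ≤ Y ∧ Ell d F m (E ⊔ W₁)

/-! ## `r = p` (every `q`, also `p = 2`) -/

/-- BADP (MEDIUM-HARD, second seat): an element of order `p` of `Omega^+` without fixed elliptic
`m`-space.  `x = 1 + N`, `(x v) (inl a) = v (inl a) + ∑ b, A a b * v (inr b)`,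
`(x v) (inr b) = v (inr b)`, `A` alternating (`A a a = 0`, `A b a = - A a b`) of rank
`2 * (d / 2)`: `A = ∑_{k < d/2} (E_{2k,2k+1} - E_{2k+1,2k})`.  Isometry:
`Q (x v) = Q v + ∑ a b, v (inr a) * A a b * v (inr b) = Q v`.  `N * N = 0`, so `x ^ p = 1 + p N = 1`
and `x` is not scalar (`N ≠ 0`, `N * N = 0`).  In `Omega` (the commutator subgroup of the isometry
group): `A ↦ x_A` is a homomorphism from alternating matrices, and for `T ∈ GL_d`,
`g = diag(T, (T⁻¹)ᵀ)` is an isometry with `g x_A g⁻¹ = x_(T A Tᵀ)`; for three distinct indices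
`a, b, c` and `T = 1 + E_{b c}`: `T (E_{a c} - E_{c a}) Tᵀ - (E_{a c} - E_{c a}) = E_{a b} - E_{b a}`,
so `x_(E_{ab} - E_{ba})` is a commutator (`d ≥ 3`); or use the landed Siegel / Levi tools
(`Helper44.Siegel`, `SiegelMat`, `Levi`, `Helper65.OPPELTA`, `Helper37.EllPELT`; for `q` odd also
`x = (x ^ ((p+1)/2))^2` and `Cfsg.Agent.S5973.hOddOmega`).
No fixed elliptic `W` (`m` even): `U = {v | v ∘ inr = 0}` is totally singular, `range N ≤ U`, and
`ker N = {v | A (v ∘ inr) = 0}` has `finrank (ker N) ≤ d + 1`, i.e. `U` has codimension `≤ 1` in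
`ker N`.  For invariant `W` put `u = finrank (W ⊓ U)`, `s = finrank (N W)`: `N W ≤ W ⊓ U` gives
`s ≤ u`; `W ⊓ ker N` has finrank `m - s ≤ u + 1`; so `m ≤ 2 u + 1`, `m ≤ 2 u`; TsHalf in the
nondegenerate `W`: `2 u ≤ m`.  So `W ⊓ U` is a totally singular half of `W`: plus type. -/
def BadP : Prop :=
  ∀ (F : Type u) [Field F] [Fintype F] (p : ℕ) [Fact p.Prime] [CharP F p] (d m : ℕ),
    4 ≤ d → 2 ≤ m → Even m →
    ∃ x : Matrix.GeneralLinearGroup (J d) F, x ∈ Cfsg.Geo.omegaGL (Cfsg.quadFormPlus d F) ∧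
      x ^ p = 1 ∧
      (∀ z : F, (x : Matrix (J d) (J d) F) ≠ z • (1 : Matrix (J d) (J d) F)) ∧
      ¬ FixEll d m F (x : Matrix (J d) (J d) F)

/-! ## `r = 2`, `q` odd -/

/-- INVFIXELL (main : EllSub → InvDec → InvFixEll, `InvDec` = `TPStmt.InvDec`,
`Cfsg.Agent.S5973`'s `hInvDec`; EASY-MEDIUM): an isometry with `x * x = 1` fixes an elliptic
`m`-space, `m < d`.  `finrank Fx + finrank Fm = 2 d`, both nondegenerate, so one of them has
finrank `≥ d > m`; EllSub with `E = ⊥` (`NDeg ⊥`, `⊥ ⊔ W₁ = W₁`) inside it; every subspace of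
`Fx` or `Fm` is invariant (`x w = ± w`). -/
def InvFixEll : Prop :=
  ∀ (F : Type u) [Field F] [Fintype F], Odd (Fintype.card F) → ∀ (d m : ℕ), 2 ≤ m → Even m →
    m < d →
    ∀ x : Matrix.GeneralLinearGroup (J d) F, x ∈ Cfsg.isometryGroup F (Cfsg.quadFormPlus d F) →
    (x : Matrix (J d) (J d) F) * (x : Matrix (J d) (J d) F) = 1 →
    FixEll d m F (x : Matrix (J d) (J d) F)

/-- NEGSQ1 (main : TsHalf → NegSq1; EASY-MEDIUM; compare `Helper82.OPNEGSQNOFIX`,
`TPStmt.SqNeg1`): `q ≡ 1 (mod 4)`, `x * x = -1`: no fixed elliptic space.  `ι ^ 2 = -1`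
(`FiniteField.isSquare_neg_one_iff`), `ι ≠ -ι`.  For invariant `W`: `W₊ = {w ∈ W | x w = ι w}`,
`W₋ = {w ∈ W | x w = - ι w}`, `w = (w - ι x w)/2 + (w + ι x w)/2`, so
`finrank W₊ + finrank W₋ = finrank W`; both totally singular: `Q w = Q (x w) = ι^2 Q w = - Q w`.
TsHalf in the nondegenerate `W`: `2 finrank W± ≤ finrank W`, hence equality: plus type. -/
def NegSq1 : Prop :=
  ∀ (F : Type u) [Field F] [Fintype F], Fintype.card F % 4 = 1 → ∀ (d m : ℕ),
    ∀ x : Matrix.GeneralLinearGroup (J d) F, x ∈ Cfsg.isometryGroup F (Cfsg.quadFormPlus d F) →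
    (x : Matrix (J d) (J d) F) * (x : Matrix (J d) (J d) F) = -1 →
    ¬ FixEll d m F (x : Matrix (J d) (J d) F)

/-- NEGSQ3T (main : TypeMul → SubPerp → NegSq3T; MEDIUM): `q ≡ 3 (mod 4)`, `x * x = -1`: an
invariant nondegenerate `W` is of plus type iff `4 ∣ finrank W`.  Strong induction on
`finrank W`.  `W = ⊥`: plus.  Else pick `v ∈ W` with `Q v ≠ 0` (`Q = 0` on `W` would give
`B = 0` on `W`); `P = span {v, x v}`: invariant (`x (x v) = - v`), `B(v, x v) = B(x v, x x v) =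
- B(x v, v)` so `B(v, x v) = 0`, `Q (x v) = Q v`, `Q (α v + β x v) = (α^2 + β^2) Q v ≠ 0` unless
`α = β = 0` (`-1` is not a square), so `finrank P = 2`, `NDeg P`, `¬ Plus P`.  SubPerp
(`Y = W`, `B = P`): `W' ≤ W` invariant nondegenerate, `P ⊥ W'`, `finrank W' = finrank W - 2`,
`W = P ⊔ W'`; TypeMul: `Plus W ↔ ¬ Plus W'`; `finrank W` is even by induction. -/
def NegSq3T : Prop :=
  ∀ (F : Type u) [Field F] [Fintype F], Fintype.card F % 4 = 3 → ∀ (d : ℕ),
    ∀ x : Matrix.GeneralLinearGroup (J d) F, x ∈ Cfsg.isometryGroup F (Cfsg.quadFormPlus d F) →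
    (x : Matrix (J d) (J d) F) * (x : Matrix (J d) (J d) F) = -1 →
    ∀ W : Submodule F (J d → F), NDeg d F W → Stab (x : Matrix (J d) (J d) F) W →
    (Cfsg.Geo.IsPlusTypeOn (Cfsg.quadFormPlus d F) W ↔ Module.finrank F ↥W % 4 = 0)

/-- NEGSQ3E (main : Top → Perp → OrthSum → NegSq3E; MEDIUM): `q ≡ 3 (mod 4)`, `x * x = -1`:
invariant nondegenerate subspaces of every even finrank `m ≤ 2 d`.  Induction on `m / 2`: given
invariant nondegenerate `W` of finrank `m - 2 < 2 d`, its Perp `Y` is invariant, nondegenerate,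
nonzero: `v ∈ Y` with `Q v ≠ 0`, the plane `P = span {v, x v}` as in NEGSQ3T, `W ⊔ P`
(OrthSum). -/
def NegSq3E : Prop :=
  ∀ (F : Type u) [Field F] [Fintype F], Fintype.card F % 4 = 3 → ∀ (d m : ℕ), Even m →
    m ≤ 2 * d →
    ∀ x : Matrix.GeneralLinearGroup (J d) F, x ∈ Cfsg.isometryGroup F (Cfsg.quadFormPlus d F) →
    (x : Matrix (J d) (J d) F) * (x : Matrix (J d) (J d) F) = -1 →
    ∃ W : Submodule F (J d → F), NDeg d F W ∧ Stab (x : Matrix (J d) (J d) F) W ∧
      Module.finrank F ↥W = m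

/-! ## Odd `r ≠ p` (every `q`) -/

/-- the arithmetic condition of S5988 for odd `r ≠ p` -/
def CondE (d m i : ℕ) : Prop :=
  (Odd i ∧ cc i ≤ m ∧ 0 < m % cc i ∧ m % cc i < (2 * d) % cc i) ∨
  (Even i ∧
    (((2 * d) % cc i = 0 ∧ (Odd ((2 * d) / i) ∨ (m % cc i = 0 ∧ Odd (m / i)))) ∨
     (i ≤ m ∧ ((0 < m % cc i ∧ m % cc i < (2 * d) % cc i) ∨
               (0 < m % cc i ∧ m % cc i = (2 * d) % cc i ∧
                 Odd ((2 * d + m - 2 * ((2 * d) % cc i)) / i)) ∨
               (m % cc i = 0 ∧ 0 < (2 * d) % cc i ∧ Odd (m / i))))))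

/-- what `r ∣ #elliptic m-spaces` gives -/
def NDivC (d m i : ℕ) : Prop :=
  cc i ≤ m ∨ (2 * d) % cc i < m ∨
    ((2 * d) % cc i = m ∧ (Odd i ∨ Even ((2 * d - m) / i)))

/-- B1E (HARD, second seats; plus-form twin of `Helper84.EllB1E`; put in front what you need of
`IPos FixND Perp InvDim HalfOdd TypeEven FxType OrthSum TypeMul EllSub` and blocks: helper43's
`Cfsg.Agent.Lib.Helper43.GenBlocks.blocks_mat` with `NegPairs.plusQ d F`, `sep_plusQ`-type `Sep`
(all characteristics: `Cfsg.Agent.S5973.hTop`), gives for `j * cc i + finrank Fx ≤ 2 d` an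
invariant nondegenerate `E_j` of finrank `j * cc i` with `E_j ⊓ Fx = ⊥`, `E_j ⊥ Fx`).
Under `CondE` every isometry `y` with `y ^ r = 1` fixes an elliptic `m`-space.
`c = cc i`, `f0 = finrank Fx`, `2 d - f0 = c b` (Perp of `Fx`, InvDim; `i` odd: HalfOdd gives
`2 i ∣`), `m' = m / c`, `l' = m % c`.  Choice of `s` (checked numerically for all `b ≥ 0` that
occur, i.e. `c b ≤ 2 d` and (`c b = 2 d → Odd i ∨ Even b`, FxType with `Fx = ⊥`)):
`s = b` if `b < m'`; else `s = m' - 1` if `Even i`, `l' = 0` and `Even m'`; else `s = m'`.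
Then `f = m - c s ≤ f0` and: `0 < f < f0`, or `f = 0 ∧ Even i ∧ Odd s`, or
`f = f0 ∧ 0 < f0 ∧ Even i ∧ Odd (b + s)`.  `W₂ = E_s` (`Plus W₂ ↔ Odd i ∨ Even s`: HalfOdd,
TypeEven).  `0 < f < f0`: EllSub (`E = W₂`, `Y = Fx`) gives `W₁`; `f = 0`: `W = W₂`;
`f = f0`: `W = W₂ ⊔ Fx`, TypeMul and FxType (`Plus Fx ↔ Odd i ∨ Even b`).  Invariant: `y w = w`
on `Fx`. -/
def B1E : Prop :=
  ∀ (F : Type u) [Field F] [Fintype F] (p : ℕ) [Fact p.Prime] [CharP F p] (d m : ℕ),
    4 ≤ d → 2 ≤ m → Even m → m < d →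
    ∀ (r : ℕ) [Fact r.Prime], r ≠ 2 → r ≠ p →
    CondE d m (orderOf ((Fintype.card F : ℕ) : ZMod r)) →
    ∀ y : Matrix.GeneralLinearGroup (J d) F, y ∈ Cfsg.isometryGroup F (Cfsg.quadFormPlus d F) →
    y ^ r = 1 → FixEll d m F (y : Matrix (J d) (J d) F)

/-- B2E (HARD, second seats; twin of `Helper75.EllB2E`; put in front what you need of
`IPos EltDim FixND RImg InvDim HalfOdd TypeEven FxType OrthSum TypeMul Scal`): if `CondE` fails
and `NDivC` holds, some element of order `r` of `Omega^+` fixes no elliptic `m`-space.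
`c = cc i`, `b = (2 d) / c` (checked numerically: `b ≥ 1`; `c b = 2 d → Odd i ∨ Even b` as `CondE`
fails), `x` from `TPStmt.EltDim` (`x ∈ Omega`, `x ^ r = 1`, `finrank Fx = (2 d) % c =: k`); not
scalar: `x = z • 1`, `x ^ r = 1`, isometry (`z^2 = 1`, `Helper77.OPSCAL`) gives `z = 1`, but
`Fx ≠ ⊤`.  An invariant elliptic `W`: RImg gives `R ≤ W` invariant, `R ⊓ Fx = ⊥`,
`finrank R + finrank (W ⊓ Fx) = m`, every `v ∈ R` is `x w - w`, so `R ⊥ Fx`
(`B(x w - w, u) = B(x w, x u) - B(w, u) = 0`); `W = (W ⊓ Fx) ⊔ R` orthogonal, so both are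
nondegenerate; `finrank R = c s` (InvDim; `i` odd: HalfOdd on `R`); `f = m - c s ≤ k`
(`W ⊓ Fx ≤ Fx`; if `finrank = k` then `W ⊓ Fx = Fx`).  Types: `Plus R ↔ Odd i ∨ Even s`;
`f = 0`: `W = R`; `f = k`: `Plus Fx ↔ Odd i ∨ Even b` and TypeMul; so `W` elliptic forces
`0 < f < k`, or `f = 0 ∧ Even i ∧ Odd s`, or `f = k ∧ 0 < k ∧ Even i ∧ Odd (b + s)`; checked
numerically: impossible for every `s` when `¬ CondE` and `NDivC`. -/
def B2E : Prop :=
  ∀ (F : Type u) [Field F] [Fintype F] (p : ℕ) [Fact p.Prime] [CharP F p] (d m : ℕ),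
    4 ≤ d → 2 ≤ m → Even m → m < d →
    ∀ (r : ℕ) [Fact r.Prime], r ≠ 2 → r ≠ p →
    NDivC d m (orderOf ((Fintype.card F : ℕ) : ZMod r)) →
    ¬ CondE d m (orderOf ((Fintype.card F : ℕ) : ZMod r)) →
    ∃ x : Matrix.GeneralLinearGroup (J d) F, x ∈ Cfsg.Geo.omegaGL (Cfsg.quadFormPlus d F) ∧
      x ^ r = 1 ∧
      (∀ z : F, (x : Matrix (J d) (J d) F) ≠ z • (1 : Matrix (J d) (J d) F)) ∧
      ¬ FixEll d m F (x : Matrix (J d) (J d) F)

/-- FIXCONGE (EASY: port of `Helper4.EllFIXCONG` / `Helper4.OPFIXCONGP`): fixed point congruence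
for `⟨x⟩`, `x ^ r = 1`, acting on the elliptic `m`-spaces (`W ↦ W.map x` preserves `Ell`). -/
def FixCongE : Prop :=
  ∀ (F : Type u) [Field F] [Fintype F] (d m : ℕ) (r : ℕ) [Fact r.Prime]
    (x : Matrix.GeneralLinearGroup (J d) F), x ∈ Cfsg.isometryGroup F (Cfsg.quadFormPlus d F) →
    x ^ r = 1 →
    Nat.card {W : Submodule F (J d → F) // Ell d F m W} ≡
      Nat.card {W : Submodule F (J d → F) // Ell d F m W ∧ Stab (x : Matrix (J d) (J d) F) W}
      [MOD r]

/-- UCARDE (HARD for `q` even, second seats; `q` odd: as `Helper94.EllUCARD` from the landed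
abstract `Helper4.EllACARD.main : EllStmt.ACard`): for a nondegenerate `U` with
`m < finrank U < cc i`, `r` does not divide the number of elliptic `m`-spaces inside `U`.
There is one (EllSub with `E = ⊥`, `Y = U`); the isometry group of `U` is transitive on them
(`q` even: two elliptic `m`-spaces are isometric: `QClass.exists_hyp_even`, `OTyp1.coordM`,
`ell_change`; Witt `Helper44.WittND2.exists_O_map`, every characteristic) and has no element of
order `r` (an isometry `g` of `U` with `g ^ r = 1`, `g ≠ 1`: its moved part is nondegenerate of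
finrank divisible by `cc i`: `Helper43.GenBlocks.hinv_all`, `fix_nd`, `Helper90.HalfOddGen`), so
by Cauchy `r ∤ #O(U)` and the orbit has size prime to `r`. -/
def UCardE : Prop :=
  ∀ (F : Type u) [Field F] [Fintype F] (p : ℕ) [Fact p.Prime] [CharP F p] (d m : ℕ),
    2 ≤ m → Even m →
    ∀ (r : ℕ) [Fact r.Prime], r ≠ 2 → r ≠ p →
    ∀ U : Submodule F (J d → F), NDeg d F U → m < Module.finrank F ↥U →
    Module.finrank F ↥U < cc (orderOf ((Fintype.card F : ℕ) : ZMod r)) →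
    ¬ r ∣ Nat.card {W : Submodule F (J d → F) // Ell d F m W ∧ W ≤ U}

/-- NDIVE (main : FixCongE → UCardE → (TPStmt Props you need: `Top EltDim FixND RImg InvDim
HalfOdd FxType IPos`) → NDivE; MEDIUM-HARD, second seat; twin of `Helper94.EllNDIVE`):
`r ∣ #elliptic m-spaces` gives `NDivC`.  Suppose not: `c = cc i > m`, `k = (2 d) % c ≥ m`, and
`k = m → Even i ∧ Odd ((2 d - m) / i)`.  If `c > 2 d`: UCardE with `U = ⊤` (Top).  Else
`b = (2 d) / c ≥ 1`, `c b < 2 d` (`k ≥ m > 0`), `x` from EltDim with `finrank Fx = k`.  A fixed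
elliptic `W`: RImg's `R` has `i ∣ finrank R ≤ m < c` (InvDim), `R` is nondegenerate (as in B2E),
for `i` odd `finrank R` is even (HalfOdd), so `R = ⊥` and `W ≤ Fx`.  FixCongE: the number is
`≡ #{elliptic W ≤ Fx}` mod `r`; `k > m`: UCardE (`U = Fx`, FixND); `k = m`: `W = Fx`, which is
elliptic (FxType: `¬ Plus Fx` as `i` is even and `b = (2 d - m) / i` is odd), so the number is
`≡ 1`. -/
def NDivE : Prop :=
  ∀ (F : Type u) [Field F] [Fintype F] (p : ℕ) [Fact p.Prime] [CharP F p] (d m : ℕ),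
    4 ≤ d → 2 ≤ m → Even m → m < d →
    ∀ (r : ℕ) [Fact r.Prime], r ≠ 2 → r ≠ p →
    r ∣ Nat.card {W : Submodule F (J d → F) // Ell d F m W} →
    NDivC d m (orderOf ((Fintype.card F : ℕ) : ZMod r))

end Cfsg.Agent.Lib.Helper44.EPStmt
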