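import Mathlib
import Cfsg.Agent.Lib.Helper44.PGStmt

set_option autoImplicit false

/-! Final case split for S2474 from the pieces of `PGStmt`. -/

namespace Cfsg.Agent.Lib.Helper44.PGFin

open Matrix Polynomial
open Cfsg.Agent.Lib.Helper44.PGStmt

universe u

theorem hasB_of_hasPB {F : Type u} [Field F] [Fintype F] (n k : ℕ) (h : HasPB F n k) :
    HasB F n k := by
  classical
  obtain ⟨x, hx⟩ := h
  obtain ⟨y, rfl⟩ := QuotientGroup.mk_surjective x
  have hdvd : k ∣ orderOf y := by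
    rw [← hx]
    exact orderOf_map_dvd (QuotientGroup.mk' _) y
  obtain ⟨c, hc⟩ := hdvd
  have hy0 : orderOf y ≠ 0 := (isOfFinOrder_of_finite y).orderOf_pos.ne'
  have hc0 : c ≠ 0 := by
    rintro rfl
    exact hy0 (by rw [hc, mul_zero])
  have h3 : orderOf (y ^ c) = k := by
    rw [orderOf_pow_of_dvd hc0 ⟨_, by rw [hc, mul_comm]⟩, hc,
      Nat.mul_div_cancel _ (Nat.pos_of_ne_zero hc0)]
  refine ⟨((y ^ c : ↥(Cfsg.Omega F (Cfsg.quadFormOdd n F))) :
      ↥(Cfsg.isometryGroup F (Cfsg.quadFormOdd n F))), (y ^ c).2, ?_⟩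
  rw [Subgroup.orderOf_coe]; exact h3

theorem final_of (hBP : BtoPB.{u}) (hBN1 : BNecI.{u}) (hBS1 : BSufI.{u}) (hBN2 : BNecII.{u})
    (hBS2 : BSufII.{u}) (hB3 : BIII.{u}) (hBN4 : BNecIV.{u}) (hBS4 : BSufIV.{u})
    (hCN1 : CNecI.{u}) (hCS1 : CSufI.{u}) (hCN2 : CNecII.{u}) (hCS2 : CSufII.{u})
    (hC3 : CIII.{u}) (hCN4 : CNecIV.{u}) (hCS4 : CSufIV.{u})
    {F : Type u} [Field F] [Fintype F] (hodd : Odd (Fintype.card F)) (n : ℕ) (hn : 3 ≤ n)
    (r s : ℕ) (hr : r.Prime) (hs : s.Prime) (hrs : r ≠ s) :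
    (r * s ∈ Set.range (orderOf : Cfsg.POmega F (Cfsg.quadFormOdd n F) → ℕ)) ↔
      (r * s ∈ Set.range (orderOf : Cfsg.PSp n F → ℕ)) := by
  classical
  obtain ⟨p, hp⟩ := CharP.exists F
  haveI : Fact p.Prime := ⟨CharP.char_is_prime F p⟩
  have hpp : p.Prime := Fact.out
  have hp2 : p ≠ 2 := by
    rintro rfl
    obtain ⟨k, -, hk⟩ := FiniteField.card F 2
    rw [hk] at hodd
    have h1 : Even (2 ^ (k : ℕ)) := (Nat.even_pow.2 ⟨even_two, k.pos.ne'⟩)
    exact (Nat.not_odd_iff_even.2 h1) hodd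
  have h2 : (2 : F) ≠ 0 := by
    intro h0
    have h0' : ((2 : ℕ) : F) = 0 := by exact_mod_cast h0
    rw [CharP.cast_eq_zero_iff F p] at h0'
    exact hp2 ((Nat.prime_dvd_prime_iff_eq hpp Nat.prime_two).1 h0')
  have hPB : ∀ k : ℕ, HasPB F n k ↔ HasB F n k := fun k =>
    ⟨hasB_of_hasPB n k, hBP F h2 n (by omega) k⟩
  -- the three types of pairs
  have hIV : ∀ t : ℕ, t.Prime → t ≠ 2 → t ≠ p → (HasB F n (2 * t) ↔ HasPC F n (2 * t)) :=
    fun t ht ht2 htp =>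
      ⟨fun h => hCS4 F p hp2 n hn t ht ht2 htp (hBN4 F p hp2 n hn t ht ht2 htp h),
       fun h => hBS4 F p hp2 n hn t ht ht2 htp (hCN4 F p hp2 n hn t ht ht2 htp h)⟩
  have hII : ∀ t : ℕ, t.Prime → t ≠ 2 → t ≠ p → (HasB F n (p * t) ↔ HasPC F n (p * t)) :=
    fun t ht ht2 htp =>
      ⟨fun h => hCS2 F p hp2 n hn t ht ht2 htp (hBN2 F p hp2 n hn t ht ht2 htp h),
       fun h => hBS2 F p hp2 n hn t ht ht2 htp (hCN2 F p hp2 n hn t ht ht2 htp h)⟩
  have hIII : HasB F n (2 * p) ↔ HasPC F n (2 * p) :=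
    ⟨fun _ => hC3 F p hp2 n hn, fun _ => hB3 F p hp2 n hn⟩
  have key : HasB F n (r * s) ↔ HasPC F n (r * s) := by
    by_cases hr2 : r = 2
    · subst hr2
      by_cases hsp : s = p
      · subst hsp; exact hIII
      · exact hIV s hs (fun h => hrs h.symm) hsp
    · by_cases hs2 : s = 2
      · subst hs2
        rw [mul_comm]
        by_cases hrp : r = p
        · subst hrp; exact hIII
        · exact hIV r hr hr2 hrp
      · by_cases hrp : r = p
        · subst hrp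
          exact hII s hs hs2 (fun h => hrs h.symm)
        · by_cases hsp : s = p
          · subst hsp
            rw [mul_comm]
            exact hII r hr hr2 hrp
          · exact ⟨fun h => hCS1 F p hp2 n hn r s hr hs hrs hr2 hs2 hrp hsp
                (hBN1 F p hp2 n hn r s hr hs hrs hr2 hs2 hrp hsp h),
              fun h => hBS1 F p hp2 n hn r s hr hs hrs hr2 hs2 hrp hsp
                (hCN1 F p hp2 n hn r s hr hs hrs hr2 hs2 hrp hsp h)⟩
  exact (hPB (r * s)).trans key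

end Cfsg.Agent.Lib.Helper44.PGFin
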